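import Cfsg.Agent.TensorWreath.Fusion
import Cfsg.Agent.TensorMax.Transport

/-!
# Maximality of tensor wreath stabilisers in the special linear group
-/

set_option autoImplicit false
set_option linter.unusedSectionVars false

namespace CfsgLib.TWreath

open Matrix CfsgLib.MaxSub Cfsg.Geo

variable {F : Type*} [Field F] {ι : Type} [Fintype ι] [DecidableEq ι] {m : ℕ}

theorem tensorWreathStandard_eq_wreath (m t : ℕ) :
    tensorWreathStandard m t F = wreath (Fin t) m F := by
  refine le_antisymm ((Subgroup.closure_le _).mpr ?_) ?_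
  · rintro g (⟨gs, hgs⟩ | ⟨σ, hσ⟩)
    · have : g = PtG gs := Units.ext (Matrix.ext hgs)
      rw [this]; exact PtG_mem gs
    · have : g = pmG σ := Units.ext (Matrix.ext hσ)
      rw [this]; exact pmG_mem σ
  · rintro g ⟨σ, gs, rfl⟩
    exact Subgroup.mul_mem _ (Subgroup.subset_closure (Or.inl ⟨gs, fun x y => rfl⟩))
      (Subgroup.subset_closure (Or.inr ⟨σ, fun x y => rfl⟩))

/-- Roots have determinant one. -/
theorem root_mem_specialLinear [NeZero m] (i : ι) {c φ : Fin m → F} (h : φ ⬝ᵥ c = 0) :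
    root i c φ ∈ specialLinear (ι → Fin m) F := by
  rw [CfsgLib.TensorMax.mem_specialLinear_iff, root_val h]
  set e : Fin m → F := Pi.single 0 1
  have h1 : emb i (vecMulVec c e) * emb i (vecMulVec e φ) = emb i (vecMulVec c φ) := by
    rw [← emb_mul, vecMulVec_mul_vecMulVec]
    simp [e]
  have h2 : emb i (vecMulVec e φ) * emb i (vecMulVec c e) =
      (0 : Matrix (ι → Fin m) (ι → Fin m) F) := by
    rw [← emb_mul, vecMulVec_mul_vecMulVec, h, zero_smul, vecMulVec_zero, emb_zero]
  rw [← h1, det_one_add_mul_comm, h2, add_zero, det_one]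

/-- An element of `SL` outside the wreath group. -/
theorem exists_not_mem_wreath [Nontrivial ι] (hm : 2 ≤ m) :
    ∃ x ∈ specialLinear (ι → Fin m) F, x ∉ wreath ι m F := by
  set o : ι → Fin m := fun _ => ⟨0, by omega⟩
  set b : ι → Fin m := fun _ => ⟨1, by omega⟩
  have hbo : b ≠ o := by
    obtain ⟨k⟩ : Nonempty ι := inferInstance
    exact fun h => by simpa [o, b, Fin.ext_iff] using congrFun h k
  refine ⟨tv (Pi.single b 1) (Pi.single o 1), tv_mem_specialLinear _ _, ?_⟩
  rintro ⟨σ, hσ⟩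
  obtain ⟨zs, -, hzs⟩ := hσ.map_pure ⟨fun k => Pi.single (o k) 1, fun k => by simp, (pten_single o).symm⟩
  have h0 : (Pi.single o (1 : F) : (ι → Fin m) → F) ⬝ᵥ Pi.single b 1 = 0 := by simp [hbo]
  rw [tv_mulVec h0, single_dotProduct, Pi.single_eq_same, one_mul, one_smul, ← pten_single o, ← pten_single b] at hzs
  obtain ⟨l, l', hll⟩ := exists_pair_ne ι
  have hne : ∀ k (c : F), c • (Pi.single (o k) 1 : Fin m → F) ≠ Pi.single (b k) 1 := fun k c h => by
    have := congrFun h (b k)
    simp [o, b, Fin.ext_iff] at this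
  obtain ⟨c, hc⟩ := prop_of_pure_add (fun k => by simp) (fun k => by simp) hzs hll (hne l)
  exact hne l' c hc

/-- The tensor wreath stabiliser is maximal in the special linear group. -/
theorem isMaximalIn_wreath [Finite F] [Nontrivial ι] (hm : 3 ≤ m) :
    IsMaximalIn (specialLinear (ι → Fin m) F) (wreath ι m F ⊓ specialLinear (ι → Fin m) F) := by
  classical
  have : NeZero m := ⟨by omega⟩
  obtain ⟨x, hx, hxW⟩ := exists_not_mem_wreath (F := F) (ι := ι) (m := m) (by omega)
  refine isMaximalIn_of inf_le_right ⟨x, hx, fun h => hxW h.1⟩ fun M hLM hMK g hg hgL => ?_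
  have hr : ∀ i (c φ : Fin m → F), φ ⬝ᵥ c = 0 → root i c φ ∈ M := fun i c φ h =>
    hLM ⟨root_mem_wreath i c φ, root_mem_specialLinear i h⟩
  have hMW : ¬ M ≤ wreath ι m F := fun h => hgL ⟨h hg, hMK hg⟩
  obtain ⟨T₀, hT₀2, hT₀⟩ := exists_el hm hr hMW
  obtain ⟨T, hT, hmax⟩ := Finset.exists_max_image (Finset.univ.filter fun T : Finset ι => 2 ≤ T.card ∧ El M T)
    Finset.card ⟨T₀, Finset.mem_filter.mpr ⟨Finset.mem_univ _, hT₀2, hT₀⟩⟩
  obtain ⟨-, hT2, hTE⟩ := Finset.mem_filter.mp hT
  suffices hu : T = Finset.univ by exact specialLinear_le_of_el hm (hu ▸ hTE)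
  by_contra hne
  obtain ⟨b, hb⟩ : ∃ b, b ∉ T := by
    by_contra hc
    push Not at hc
    exact hne (Finset.eq_univ_iff_forall.mpr hc)
  obtain ⟨a, ha, a', ha', haa⟩ := Finset.one_lt_card.mp (show 1 < T.card by omega)
  have hab : a ≠ b := fun h => hb (h ▸ ha)
  have ha'b : a' ≠ b := fun h => hb (h ▸ ha')
  set s₁ := Equiv.swap a a'
  set s₂ := Equiv.swap a' b
  set σ : Equiv.Perm ι := s₁ * s₂ * s₁⁻¹ * s₂⁻¹ with hσ
  have hσa : σ a = b := by
    simp [hσ, s₁, s₂, Equiv.Perm.mul_apply, Equiv.swap_apply_def, haa, hab, ha'b, haa.symm, hab.symm, ha'b.symm]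
  have hσa' : σ a' = a := by
    simp [hσ, s₁, s₂, Equiv.Perm.mul_apply, Equiv.swap_apply_def, haa, hab, ha'b, haa.symm, hab.symm, ha'b.symm]
  have hdet : (pmG σ : GL (ι → Fin m) F) ∈ specialLinear (ι → Fin m) F := by
    show Matrix.GeneralLinearGroup.det (pmG σ) = 1
    rw [hσ, map_mul, map_mul, map_mul, map_mul, map_mul, map_mul, map_inv, map_inv, map_inv, map_inv,
      mul_right_comm (Matrix.GeneralLinearGroup.det (pmG s₁)), mul_inv_cancel, one_mul, mul_inv_cancel]
  have hgM : pmG σ ∈ M := hLM ⟨pmG_mem σ, hdet⟩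
  have hT' : El M (T.map σ.toEmbedding) :=
    El.conj (g := pmG σ) (fun y hy => M.mul_mem (M.mul_mem hgM hy) (M.inv_mem hgM)) hTE (d := fun _ _ => 1) (by
      rw [pmG_val, show (fun k : ι => Matrix.diagonal fun p : Fin m => ((1 : Fˣ) : F)) =
        (1 : ι → Matrix (Fin m) (Fin m) F) by funext k; simp, Pt_one, one_mul])
  have hU : El M (T ∪ T.map σ.toEmbedding) := hTE.union hm hT' ha (by
    rw [← hσa']; exact Finset.mem_map_of_mem _ ha')
  have hbU : b ∈ T ∪ T.map σ.toEmbedding :=
    Finset.mem_union_right _ (by rw [← hσa]; exact Finset.mem_map_of_mem _ ha)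
  have hlt : T.card < (T ∪ T.map σ.toEmbedding).card := Finset.card_lt_card
    ⟨Finset.subset_union_left, fun h => hb (h hbU)⟩
  have := hmax _ (Finset.mem_filter.mpr ⟨Finset.mem_univ _, by omega, hU⟩)
  omega

/-- The stabiliser of a tensor decomposition into `t` equal factors is maximal in the special linear group. -/
theorem isMaximalIn_tensorWreath [Finite F] {κ : Type} [Fintype κ] [DecidableEq κ] {m t : ℕ} (hm : 3 ≤ m)
    (ht : 2 ≤ t) (e : κ ≃ (Fin t → Fin m)) (P : GL κ F) :
    IsMaximalIn (specialLinear κ F) (tensorWreathSubgroup m t e P ⊓ specialLinear κ F) := by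
  have : Nontrivial (Fin t) := Fin.nontrivial_iff_two_le.mpr ht
  let φ : GL (Fin t → Fin m) F ≃* GL κ F := (glReindex e.symm).trans (MulAut.conj P)
  have hdet : ∀ g, Matrix.GeneralLinearGroup.det (φ g) = Matrix.GeneralLinearGroup.det g := by
    intro g
    show Matrix.GeneralLinearGroup.det (P * glReindex e.symm g * P⁻¹) = _
    rw [map_mul, map_mul, map_inv, mul_comm (Matrix.GeneralLinearGroup.det P), mul_inv_cancel_right]
    apply Units.ext
    simp only [Matrix.GeneralLinearGroup.val_det_apply]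
    exact Matrix.det_reindex_self e.symm _
  have hSL : (specialLinear (Fin t → Fin m) F).map φ.toMonoidHom = specialLinear κ F := by
    ext g
    constructor
    · rintro ⟨h, hh, rfl⟩
      show Matrix.GeneralLinearGroup.det (φ h) = 1
      rw [hdet]; exact hh
    · intro hg
      refine ⟨φ.symm g, ?_, φ.apply_symm_apply g⟩
      show Matrix.GeneralLinearGroup.det (φ.symm g) = 1
      rw [← hdet, φ.apply_symm_apply]; exact hg
  have hK : (wreath (Fin t) m F).map φ.toMonoidHom = tensorWreathSubgroup m t e P := by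
    rw [tensorWreathSubgroup, tensorWreathStandard_eq_wreath, Subgroup.map_map]
    rfl
  have h := CfsgLib.TensorMax.isMaximalIn_map φ (isMaximalIn_wreath (F := F) (ι := Fin t) hm)
  rwa [Subgroup.map_inf _ _ _ φ.injective, hSL, hK] at h

end CfsgLib.TWreath
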