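import Mathlib.RingTheory.Ideal.Quotient.Operations
import Mathlib.RingTheory.Ideal.Maximal
import Mathlib.Algebra.CharP.Lemmas
import Mathlib.Algebra.CharP.Algebra
import Mathlib.RingTheory.Nilpotent.Basic
import Mathlib.GroupTheory.Perm.Cycle.Type
import Mathlib.LinearAlgebra.Matrix.Rank
import Mathlib.LinearAlgebra.Matrix.Charpoly.Basic
import Cfsg.Agent.OddOrder.AppA.GL2

/-!
# The group generated by two quadratic elements in odd characteristic

If `r = 1 + N`, `r' = 1 + N'` with `N² = N'² = 0` do not generate a `p`-group, then the group they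
generate contains a central involution `z` such that `N` has exactly half rank on the `-1` space of `z`.
-/

set_option autoImplicit false

set_option linter.unusedSectionVars false

namespace CfsgLib.TWreath

open Matrix Polynomial

/-- Some power of an element of a finite monoid is idempotent. -/
theorem exists_idempotent_pow {S : Type*} [Monoid S] [Finite S] (x : S) :
    ∃ e : ℕ, 0 < e ∧ x ^ (e + e) = x ^ e := by
  obtain ⟨a, b, hab, h⟩ := Finite.exists_ne_map_eq_of_infinite (fun n : ℕ => x ^ n)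
  wlog hlt : a < b generalizing a b
  · exact this b a hab.symm h.symm (by omega)
  obtain ⟨d, rfl⟩ : ∃ d, b = a + d := ⟨b - a, by omega⟩
  have hd : 0 < d := by omega
  have key : ∀ n, a ≤ n → ∀ k, x ^ (n + k * d) = x ^ n := by
    intro n hn k
    induction k with
    | zero => simp
    | succ k ih =>
      have h' : x ^ (n + d) = x ^ n := by
        obtain ⟨c, rfl⟩ : ∃ c, n = c + a := ⟨n - a, by omega⟩
        rw [add_assoc, pow_add x c, pow_add x c]
        exact congrArg (x ^ c * ·) h.symm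
      rw [show n + (k + 1) * d = (n + d) + k * d by ring, pow_add x (n + d), h', ← pow_add, ih]
  refine ⟨(a + 1) * d, by positivity, key _ ?_ (a + 1)⟩
  exact le_trans (Nat.le_succ a) (Nat.le_mul_of_pos_right _ hd)

/-- A `2 × 2` matrix of determinant one with square one over a ring with `2` a unit is scalar. -/
theorem eq_smul_one_of_sq {R : Type*} [CommRing R] (h2 : IsUnit (2 : R)) {γ : Matrix (Fin 2) (Fin 2) R}
    (hdet : γ.det = 1) (hsq : γ * γ = 1) : ∃ c : R, c * c = 1 ∧ γ = c • 1 := by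
  have hCH : γ * γ = γ.trace • γ - γ.det • 1 := by
    ext i j
    fin_cases i <;> fin_cases j <;>
      simp [Matrix.mul_apply, Fin.sum_univ_two, Matrix.trace, Matrix.diag, Matrix.det_fin_two] <;> ring
  rw [hsq, hdet, one_smul, eq_sub_iff_add_eq, ← two_smul R (1 : Matrix (Fin 2) (Fin 2) R)] at hCH
  have hd := congrArg Matrix.det hCH
  rw [det_smul, det_smul, hdet, det_one, Fintype.card_fin, mul_one, mul_one] at hd
  have ht : IsUnit γ.trace := by
    rw [← isUnit_pow_iff (n := 2) two_ne_zero, ← hd]; exact h2.pow 2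
  obtain ⟨u, hu⟩ := ht
  refine ⟨(↑u⁻¹ : R) * 2, ?_, ?_⟩
  · calc (↑u⁻¹ : R) * 2 * (↑u⁻¹ * 2) = (↑u⁻¹ : R) ^ 2 * (2 ^ 2) := by ring
      _ = (↑u⁻¹ : R) ^ 2 * (↑u : R) ^ 2 := by rw [hd, hu]
      _ = 1 := by rw [← mul_pow, Units.inv_mul, one_pow]
  · rw [mul_smul, hCH, smul_smul, ← hu, Units.inv_mul, one_smul]

variable {F : Type*} [Field F] {n : Type*} [Fintype n] [DecidableEq n]

theorem rank_add_of_orthogonal {A B e : Matrix n n F} (hA : e * A = A) (hB : e * B = 0)
    (hsum : ∀ x : n → F, ∃ y, A *ᵥ x = (A + B) *ᵥ y) :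
    (A + B).rank = A.rank + B.rank := by
  have hinf : LinearMap.range A.mulVecLin ⊓ LinearMap.range B.mulVecLin = ⊥ := by
    rw [eq_bot_iff]
    rintro v ⟨⟨x, rfl⟩, y, hy⟩
    rw [mulVecLin_apply, mulVecLin_apply] at hy
    have := congrArg (e *ᵥ ·) hy
    simp only [mulVec_mulVec, hA, hB, zero_mulVec] at this
    rw [Submodule.mem_bot, mulVecLin_apply, ← this]
  have hsup : LinearMap.range A.mulVecLin ⊔ LinearMap.range B.mulVecLin =
      LinearMap.range (A + B).mulVecLin := by
    refine le_antisymm (sup_le ?_ ?_) ?_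
    · rintro _ ⟨x, rfl⟩
      obtain ⟨y, hy⟩ := hsum x
      exact ⟨y, hy.symm⟩
    · rintro _ ⟨x, rfl⟩
      obtain ⟨y, hy⟩ := hsum x
      refine ⟨x - y, ?_⟩
      rw [mulVecLin_apply, mulVecLin_apply, mulVec_sub, ← hy, add_mulVec, add_sub_cancel_left]
    · rintro _ ⟨x, rfl⟩
      rw [mulVecLin_apply, add_mulVec]
      exact Submodule.add_mem_sup ⟨x, rfl⟩ ⟨x, rfl⟩
  have := Submodule.finrank_sup_add_finrank_inf_eq (LinearMap.range A.mulVecLin)
    (LinearMap.range B.mulVecLin)
  rw [hinf, hsup, finrank_bot, add_zero] at this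
  exact this

theorem rank_eq_of_factor {A B X Y X' Y' : Matrix n n F} (h1 : A = X * B * Y) (h2 : B = X' * A * Y') :
    A.rank = B.rank :=
  le_antisymm
    (h1 ▸ ((rank_mul_le_left _ _).trans (rank_mul_le_right _ _)))
    (h2 ▸ ((rank_mul_le_left _ _).trans (rank_mul_le_right _ _)))

set_option maxHeartbeats 1600000 in
/-- Two quadratic elements generate a `p`-group, or a group with an involution commuting with both
on whose `-1` space the first has half rank. -/
theorem quadratic_pair [Finite F] {p : ℕ} [hp : Fact p.Prime] [CharP F p] (hp2 : p ≠ 2)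
    (r r' : GL n F) {N N' : Matrix n n F} (hr : (r : Matrix n n F) = 1 + N)
    (hr' : (r' : Matrix n n F) = 1 + N') (hN : N * N = 0) (hN' : N' * N' = 0) :
    IsPGroup p (Subgroup.closure ({r, r'} : Set (GL n F))) ∨
      ∃ z ∈ Subgroup.closure ({r, r'} : Set (GL n F)), z ≠ 1 ∧ z * z = 1 ∧
        (z : Matrix n n F) * N = N * (z : Matrix n n F) ∧
        (z : Matrix n n F) * N' = N' * (z : Matrix n n F) ∧
        2 * ((1 - (z : Matrix n n F)) * N).rank = (1 - (z : Matrix n n F)).rank := by
  classical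
  set T : Matrix n n F := N * N' + N' * N with hT
  have hTN : T * N = N * T := by
    rw [hT, add_mul, mul_add, mul_assoc N' N N, hN, mul_zero, add_zero, ← mul_assoc N N N', hN,
      zero_mul, zero_add, mul_assoc]
  have hTN' : T * N' = N' * T := by
    rw [hT, add_mul, mul_add, mul_assoc N N' N', hN', mul_zero, zero_add, ← mul_assoc N' N' N, hN',
      zero_mul, add_zero, mul_assoc]
  let Q := F[X] ⧸ RingHom.ker (aeval (R := F) T)
  let ι : Q →ₐ[F] Matrix n n F := Ideal.Quotient.liftₐ _ (aeval (R := F) T) (fun a ha => ha)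
  have hιi : Function.Injective ι := RingHom.kerLift_injective (aeval (R := F) T).toRingHom
  have : Fintype F := Fintype.ofFinite F
  have : Finite (Matrix n n F) := Finite.of_fintype _
  have : Finite Q := Finite.of_injective _ hιi
  set τ : Q := Ideal.Quotient.mk _ X with hτ
  have hιτ : ι τ = T := by
    show aeval T X = T
    exact aeval_X T
  have hcomm : ∀ {Y : Matrix n n F}, T * Y = Y * T → ∀ a : Q, ι a * Y = Y * ι a := by
    intro Y hY a
    obtain ⟨f, rfl⟩ := Ideal.Quotient.mk_surjective a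
    show aeval T f * Y = Y * aeval T f
    induction f using Polynomial.induction_on' with
    | add f g hf hg => rw [map_add, add_mul, mul_add, hf, hg]
    | monomial k c =>
      rw [aeval_monomial, mul_assoc, (Commute.pow_left (hY : Commute T Y) k).eq, ← mul_assoc, ← mul_assoc,
        Algebra.commutes]
  have cN := hcomm hTN
  have cN' := hcomm hTN'
  have cN1 : ∀ (a : Q) (Y : Matrix n n F), N * (ι a * Y) = ι a * (N * Y) := fun a Y => by
    rw [← mul_assoc, ← cN, mul_assoc]
  have cN2 : ∀ (a : Q) (Y : Matrix n n F), N' * (ι a * Y) = ι a * (N' * Y) := fun a Y => by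
    rw [← mul_assoc, ← cN', mul_assoc]
  have hNN : ∀ Y : Matrix n n F, N * (N * Y) = 0 := fun Y => by rw [← mul_assoc, hN, zero_mul]
  have hNN' : ∀ Y : Matrix n n F, N' * (N' * Y) = 0 := fun Y => by rw [← mul_assoc, hN', zero_mul]
  have h121 : N * (N' * N) = ι τ * N := by
    rw [hιτ, hT, add_mul, mul_assoc, mul_assoc N' N N, hN, mul_zero, add_zero]
  have h212 : N' * (N * N') = ι τ * N' := by
    rw [hιτ, hT, add_mul, mul_assoc N N' N', hN', mul_zero, zero_add, mul_assoc]
  have h1212 : N * (N' * (N * N')) = ι τ * (N * N') := by rw [h212, cN1]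
  have h2121 : N' * (N * (N' * N)) = ι τ * (N' * N) := by rw [h121, cN2]
  -- the span of the alternating words
  let mk : Q → Q → Q → Q → Matrix n n F :=
    fun a b c d => ι a * N + ι b * N' + ι c * (N * N') + ι d * (N' * N)
  have mk_mul : ∀ a b c d a' b' c' d' : Q, mk a b c d * mk a' b' c' d' =
      mk (τ * (a * d' + c * a')) (τ * (b * c' + d * b')) (a * b' + τ * (c * c'))
        (b * a' + τ * (d * d')) := by
    intro a b c d a' b' c' d'
    simp only [mk, add_mul, mul_add, map_add, map_mul, mul_assoc, cN1, cN2, hN, hN', hNN, hNN', h121,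
      h212, h1212, h2121, mul_zero, add_zero, zero_add]
    simp only [← mul_assoc (ι _) (ι _), ← map_mul]
    simp only [mul_comm, mul_left_comm, mul_assoc]
    abel
  obtain ⟨e, he0, he⟩ := exists_idempotent_pow τ
  set E : Q := τ ^ e with hE
  have hEE : E * E = E := by rw [hE, ← pow_add, he]
  set S : Q := τ ^ (e - 1) * E with hS
  have hτS : τ * S = E := by
    rw [hS, ← mul_assoc, ← pow_succ', show e - 1 + 1 = e by omega, ← hE, hEE]
  have hSE : S * E = S := by rw [hS, mul_assoc, hEE]
  -- membership in the span of the words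
  set H := Subgroup.closure ({r, r'} : Set (GL n F)) with hH
  have hspan : ∀ g ∈ H, ∃ a b c d, (g : Matrix n n F) = 1 + mk a b c d := by
    intro g hg
    have hg' : g ∈ H.toSubmonoid := hg
    rw [hH, Subgroup.closure_toSubmonoid_of_finite] at hg'
    clear hg
    induction hg' using Submonoid.closure_induction with
    | mem x hx =>
      rcases hx with rfl | rfl
      · exact ⟨1, 0, 0, 0, by simp [mk, hr]⟩
      · exact ⟨0, 1, 0, 0, by simp [mk, hr']⟩
    | one => exact ⟨0, 0, 0, 0, by simp [mk]⟩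
    | mul x y _ _ hx hy =>
      obtain ⟨a, b, c, d, hx⟩ := hx
      obtain ⟨a', b', c', d', hy⟩ := hy
      refine ⟨a + a' + τ * (a * d' + c * a'), b + b' + τ * (b * c' + d * b'),
        c + c' + (a * b' + τ * (c * c')), d + d' + (b * a' + τ * (d * d')), ?_⟩
      rw [Units.val_mul, hx, hy, add_mul, one_mul, mul_add (mk a b c d), mul_one, mk_mul]
      simp only [mk, map_add, add_mul]
      abel
  have hnil : ∀ g ∈ H, IsNilpotent (ι (1 - E) * ((g : Matrix n n F) - 1)) := by
    intro g hg
    obtain ⟨a, b, c, d, hgv⟩ := hspan g hg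
    rw [hgv, add_sub_cancel_left]
    set x := mk a b c d with hx
    have hxT : ∀ u : Q, Commute (ι u) x := fun u => by
      have h0 : ∀ v : Q, Commute (ι u) (ι v) := fun v => (Commute.all u v).map ι
      have h1 : Commute (ι u) N := cN u
      have h2 : Commute (ι u) N' := cN' u
      exact ((((h0 a).mul_right h1).add_right ((h0 b).mul_right h2)).add_right
        ((h0 c).mul_right (h1.mul_right h2))).add_right ((h0 d).mul_right (h2.mul_right h1))
    obtain ⟨a3, b3, c3, d3, h3⟩ : ∃ a' b' c' d', x ^ 3 = ι τ * mk a' b' c' d' := by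
      refine ⟨τ * (a * d + c * a) * d + (a * b + τ * (c * c)) * a,
        τ * (b * c + d * b) * c + (b * a + τ * (d * d)) * b,
        (a * d + c * a) * b + (a * b + τ * (c * c)) * c,
        (b * c + d * b) * a + (b * a + τ * (d * d)) * d, ?_⟩
      rw [pow_succ, pow_two, hx, mk_mul, mk_mul]
      simp only [mk, mul_add, map_add, ← mul_assoc, ← map_mul]
    refine ⟨3 * e, ?_⟩
    rw [Commute.mul_pow (hxT (1 - E)), pow_mul x, h3]
    have hc3 : Commute (ι τ) (mk a3 b3 c3 d3) := by
      have h0 : ∀ v : Q, Commute (ι τ) (ι v) := fun v => (Commute.all τ v).map ι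
      have h1 : Commute (ι τ) N := cN τ
      have h2 : Commute (ι τ) N' := cN' τ
      exact ((((h0 a3).mul_right h1).add_right ((h0 b3).mul_right h2)).add_right
        ((h0 c3).mul_right (h1.mul_right h2))).add_right ((h0 d3).mul_right (h2.mul_right h1))
    rw [hc3.mul_pow, ← map_pow, ← map_pow, ← hE, ← mul_assoc, ← map_mul]
    rw [show (1 - E) ^ (3 * e) * E = 0 by
      obtain ⟨k, hk⟩ : ∃ k, 3 * e = k + 1 := ⟨3 * e - 1, by omega⟩
      rw [hk, pow_succ, mul_assoc, sub_mul, one_mul, hEE, sub_self, mul_zero]]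
    rw [map_zero, zero_mul]
  by_cases hE0 : E = 0
  · left
    rintro ⟨g, hg⟩
    have h := hnil g hg
    rw [hE0, sub_zero, map_one, one_mul] at h
    obtain ⟨k, hk⟩ := h
    obtain ⟨j, hj⟩ : ∃ j, k ≤ p ^ j := ⟨k, (Nat.lt_pow_self hp.out.one_lt).le⟩
    refine ⟨j, Subtype.ext (Units.ext ?_)⟩
    show ((g ^ p ^ j : GL n F) : Matrix n n F) = 1
    have hz := pow_eq_zero_of_le hj hk
    cases isEmpty_or_nonempty n with
    | inl hn => exact Subsingleton.elim _ _
    | inr hn =>
      rw [Units.val_pow_eq_pow_val, ← sub_add_cancel (g : Matrix n n F) 1,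
        add_pow_char_pow_of_commute _ _ (Commute.one_right _), hz, one_pow, zero_add]
  right
  -- corner matrix units
  set e11 := ι S * (N * N') with he11
  set e12 := ι S * N with he12
  set e21 := ι E * N' with he21
  set e22 := ι S * (N' * N) with he22
  let Φ : Matrix (Fin 2) (Fin 2) Q → Matrix n n F :=
    fun g => ι (g 0 0) * e11 + ι (g 0 1) * e12 + ι (g 1 0) * e21 + ι (g 1 1) * e22
  have mι : ∀ (a b : Q) (Y : Matrix n n F), ι a * (ι b * Y) = ι (a * b) * Y := fun a b Y => by
    rw [map_mul, mul_assoc]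
  have hSSτ : S * (S * τ) = S := by rw [mul_comm S τ, hτS, hSE]
  have hSEτ : S * (E * τ) = E := by rw [mul_left_comm, mul_comm S τ, hτS, hEE]
  have hESτ : E * (S * τ) = E := by rw [mul_comm S τ, hτS, hEE]
  have hES : E * S = S := by rw [mul_comm, hSE]
  have c11 : ∀ a : Q, Commute (ι a) e11 := fun a =>
    ((Commute.all a S).map ι).mul_right ((Commute.mul_right (cN a) (cN' a)))
  have c12 : ∀ a : Q, Commute (ι a) e12 := fun a => ((Commute.all a S).map ι).mul_right (cN a)
  have c21 : ∀ a : Q, Commute (ι a) e21 := fun a => ((Commute.all a E).map ι).mul_right (cN' a)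
  have c22 : ∀ a : Q, Commute (ι a) e22 := fun a =>
    ((Commute.all a S).map ι).mul_right ((Commute.mul_right (cN' a) (cN a)))
  have ee1 : e11 * e11 = e11 := by simp only [he11, mul_assoc, cN1, cN2, h1212, mι, hSSτ, mul_zero]
  have ee2 : e11 * e12 = e12 := by simp only [he11, he12, mul_assoc, cN1, cN2, h121, mι, hSSτ, mul_zero]
  have ee3 : e11 * e21 = 0 := by simp only [he11, he21, mul_assoc, cN1, cN2, hN', mul_zero]
  have ee4 : e11 * e22 = 0 := by simp only [he11, he22, mul_assoc, cN1, cN2, hNN', mul_zero]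
  have ee5 : e12 * e11 = 0 := by simp only [he11, he12, mul_assoc, cN1, hNN, mul_zero]
  have ee6 : e12 * e12 = 0 := by simp only [he12, mul_assoc, cN1, hN, mul_zero]
  have ee7 : e12 * e21 = e11 := by simp only [he11, he12, he21, mul_assoc, cN1, mι, hSE, mul_zero]
  have ee8 : e12 * e22 = e12 := by simp only [he12, he22, mul_assoc, cN1, h121, mι, hSSτ, mul_zero]
  have ee9 : e21 * e11 = e21 := by simp only [he11, he21, mul_assoc, cN2, h212, mι, hESτ, mul_zero]
  have ee10 : e21 * e12 = e22 := by simp only [he12, he21, he22, mul_assoc, cN2, mι, hES, mul_zero]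
  have ee11 : e21 * e21 = 0 := by simp only [he21, mul_assoc, cN2, hN', mul_zero]
  have ee12 : e21 * e22 = 0 := by simp only [he21, he22, mul_assoc, cN2, hNN', mul_zero]
  have ee13 : e22 * e11 = 0 := by simp only [he11, he22, mul_assoc, cN1, cN2, hNN, mul_zero]
  have ee14 : e22 * e12 = 0 := by simp only [he12, he22, mul_assoc, cN1, cN2, hN, mul_zero]
  have ee15 : e22 * e21 = e21 := by simp only [he21, he22, mul_assoc, cN1, cN2, h212, mι, hSEτ, mul_zero]
  have ee16 : e22 * e22 = e22 := by simp only [he22, mul_assoc, cN1, cN2, h2121, mι, hSSτ, mul_zero]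
  have hmv : ∀ (a b : Q) {X Y : Matrix n n F}, Commute (ι b) X →
      ι a * X * (ι b * Y) = ι (a * b) * (X * Y) := fun a b X Y h => by
    rw [mul_assoc, ← mul_assoc X, ← h.eq, mul_assoc, mι]
  have hΦm : ∀ g h, Φ (g * h) = Φ g * Φ h := by
    intro g h
    simp only [Φ, add_mul, mul_add, hmv _ _ (c11 _), hmv _ _ (c12 _), hmv _ _ (c21 _), hmv _ _ (c22 _),
      ee1, ee2, ee3, ee4, ee5, ee6, ee7, ee8, ee9, ee10, ee11, ee12, ee13, ee14, ee15, ee16,
      mul_zero, add_zero, zero_add, Matrix.mul_apply, Fin.sum_univ_two, map_add]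
    abel
  have hEsplit : ι E = e11 + e22 := by
    rw [he11, he22, ← mul_add, ← hT, ← hτS, map_mul, hιτ]
    exact ((hcomm (Y := T) rfl) S).symm
  have hΦ1 : Φ 1 = ι E := by simp [Φ, hEsplit]
  -- pairing of the abstract and concrete groups
  have hdetX : Matrix.det (!![1, τ * E; 0, 1] : Matrix (Fin 2) (Fin 2) Q) = 1 := by simp [det_fin_two]
  have hdetY : Matrix.det (!![1, 0; E, 1] : Matrix (Fin 2) (Fin 2) Q) = 1 := by simp [det_fin_two]
  obtain ⟨x₀, hx₀⟩ := (isUnit_iff_isUnit_det _).mpr (hdetX.symm ▸ isUnit_one)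
  obtain ⟨y₀, hy₀⟩ := (isUnit_iff_isUnit_det _).mpr (hdetY.symm ▸ isUnit_one)
  set Γ := Subgroup.closure ({(x₀, r), (y₀, r')} : Set (GL (Fin 2) Q × GL n F)) with hΓ
  have hinv : ∀ q ∈ Γ, Φ (q.1 : Matrix (Fin 2) (Fin 2) Q) = ι E * (q.2 : Matrix n n F) ∧
      (q.1 : Matrix (Fin 2) (Fin 2) Q).det = 1 ∧
      (1 - E) • (q.1 : Matrix (Fin 2) (Fin 2) Q) = (1 - E) • 1 ∧
      q.2 ∈ H ∧ ι E * (q.2 : Matrix n n F) = (q.2 : Matrix n n F) * ι E := by
    intro q hq
    have hq' : q ∈ Γ.toSubmonoid := hq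
    rw [hΓ, Subgroup.closure_toSubmonoid_of_finite] at hq'
    clear hq
    induction hq' using Submonoid.closure_induction with
    | mem x hx =>
      rcases hx with rfl | rfl
      · refine ⟨?_, by rw [hx₀, hdetX], ?_, Subgroup.subset_closure (Or.inl rfl), ?_⟩
        · simp only [Φ, hx₀, hr, mul_add, mul_one, hEsplit.symm, he12, mι,
            show τ * E * S = E by rw [mul_right_comm, hτS, hEE], of_apply, cons_val_zero, cons_val_one,
            cons_val', cons_val_fin_one, empty_val', map_one, map_zero, one_mul, zero_mul, add_zero]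
          rw [hEsplit]
          abel
        · rw [hx₀]
          ext i j
          fin_cases i <;> fin_cases j <;> simp [mul_left_comm _ τ, sub_mul, hEE]
        · rw [hr, mul_add, add_mul, mul_one, one_mul, cN E]
      · refine ⟨?_, by rw [hy₀, hdetY], ?_, Subgroup.subset_closure (Or.inr rfl), ?_⟩
        · simp only [Φ, hy₀, hr', mul_add, mul_one, he21, mι, hEE, of_apply, cons_val_zero, cons_val_one,
            cons_val', cons_val_fin_one, empty_val', map_one, map_zero, one_mul, zero_mul, add_zero]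
          rw [hEsplit]
          abel
        · rw [hy₀]
          ext i j
          fin_cases i <;> fin_cases j <;> simp [sub_mul, hEE]
        · rw [hr', mul_add, add_mul, mul_one, one_mul, cN' E]
    | one => exact ⟨by simp [hΦ1], by simp, by simp, H.one_mem, by simp⟩
    | mul x y _ _ hx hy =>
      obtain ⟨a1, a2, a3, a4, a5⟩ := hx
      obtain ⟨b1, b2, b3, b4, b5⟩ := hy
      refine ⟨?_, ?_, ?_, H.mul_mem a4 b4, ?_⟩
      · rw [Prod.fst_mul, Units.val_mul, hΦm, a1, b1, Prod.snd_mul, Units.val_mul, a5, mul_assoc,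
          ← mul_assoc (ι E) (ι E), ← map_mul, hEE, ← mul_assoc, ← a5, mul_assoc]
      · rw [Prod.fst_mul, Units.val_mul, det_mul, a2, b2, one_mul]
      · rw [Prod.fst_mul, Units.val_mul, ← smul_mul_assoc, a3, smul_mul_assoc, one_mul, b3]
      · rw [Prod.snd_mul, Units.val_mul, ← mul_assoc, a5, mul_assoc, b5, mul_assoc]
  -- the image over a residue field has even order
  have hE1 : Ideal.span ({1 - E} : Set Q) ≠ ⊤ := by
    intro htop
    obtain ⟨a, ha⟩ := Ideal.mem_span_singleton'.mp ((Ideal.eq_top_iff_one _).mp htop)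
    apply hE0
    calc E = a * (1 - E) * E := by rw [ha, one_mul]
      _ = 0 := by rw [mul_assoc, sub_mul, one_mul, hEE, sub_self, mul_zero]
  obtain ⟨𝔪, h𝔪, hle⟩ := Ideal.exists_le_maximal _ hE1
  letI : Field (Q ⧸ 𝔪) := Ideal.Quotient.field 𝔪
  have : CharP (Q ⧸ 𝔪) p := charP_of_injective_ringHom (algebraMap F (Q ⧸ 𝔪)).injective p
  let χ : Q →+* Q ⧸ 𝔪 := Ideal.Quotient.mk 𝔪
  have hχE : χ E = 1 := by
    have : χ (1 - E) = 0 := Ideal.Quotient.eq_zero_iff_mem.mpr (hle (Ideal.mem_span_singleton_self _))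
    rwa [map_sub, map_one, sub_eq_zero, eq_comm] at this
  have hχτ : χ τ ≠ 0 := fun h0 => by
    have := congrArg χ hτS
    rw [map_mul, h0, zero_mul, hχE] at this
    exact zero_ne_one this
  let θ : GL (Fin 2) Q × GL n F →* GL (Fin 2) (Q ⧸ 𝔪) :=
    (GeneralLinearGroup.map χ).comp (MonoidHom.fst _ _)
  have hθX : ((θ (x₀, r)) : Matrix (Fin 2) (Fin 2) (Q ⧸ 𝔪)) = !![1, χ τ; 0, 1] := by
    ext i j
    fin_cases i <;> fin_cases j <;> simp [θ, hx₀, hχE]
  have hθY : ((θ (y₀, r')) : Matrix (Fin 2) (Fin 2) (Q ⧸ 𝔪)) = !![1, 0; 1, 1] := by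
    ext i j
    fin_cases i <;> fin_cases j <;> simp [θ, hy₀, hχE]
  have hX : θ (x₀, r) ∈ Γ.map θ := ⟨_, Subgroup.subset_closure (Or.inl rfl), rfl⟩
  have hY : θ (y₀, r') ∈ Γ.map θ := ⟨_, Subgroup.subset_closure (Or.inr rfl), rfl⟩
  have : Finite (Γ.map θ) := Finite.of_surjective (θ.subgroupMap Γ) (θ.subgroupMap_surjective Γ)
  have hpX : p ∣ Nat.card (Γ.map θ) := by
    have hord : orderOf (θ (x₀, r)) = p := by
      refine orderOf_eq_prime ?_ ?_
      · apply Units.ext
        rw [Units.val_pow_eq_pow_val, hθX, Units.val_one]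
        have : (!![1, χ τ; 0, 1] : Matrix (Fin 2) (Fin 2) (Q ⧸ 𝔪)) = 1 + !![0, χ τ; 0, 0] := by
          ext i j; fin_cases i <;> fin_cases j <;> simp
        rw [this, add_pow_char_of_commute _ (Commute.one_left _), one_pow,
          pow_eq_zero_of_le hp.out.two_le (by ext i j; fin_cases i <;> fin_cases j <;> simp [pow_two]),
          add_zero]
      · intro h
        have h' := congrArg Units.val h
        rw [hθX, Units.val_one] at h'
        have := congrFun (congrFun h' 0) 1
        simp at this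
        exact hχτ this
    have := orderOf_dvd_natCard (⟨_, hX⟩ : Γ.map θ)
    rwa [← Subgroup.orderOf_coe, hord] at this
  have heven : 2 ∣ Nat.card Γ := by
    refine dvd_trans ?_ (Subgroup.card_map_dvd Γ θ)
    by_contra h2
    obtain ⟨v, hv, hline⟩ := CfsgLib.OddOrder.GL2.exists_invariant_line hp2 (Γ.map θ)
      (Nat.odd_iff.mpr (Nat.two_dvd_ne_zero.mp h2)) hpX
    obtain ⟨a, ha⟩ := Submodule.mem_span_singleton.mp (hline _ hX)
    obtain ⟨b, hb⟩ := Submodule.mem_span_singleton.mp (hline _ hY)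
    rw [hθX] at ha
    rw [hθY] at hb
    have a0 := congrFun ha 0
    have a1 := congrFun ha 1
    have b0 := congrFun hb 0
    have b1 := congrFun hb 1
    simp [Matrix.vecHead, Matrix.vecTail] at a0 a1 b0 b1
    have hv1 : v 1 = 0 := by
      by_contra h
      have a1' : a = 1 := mul_right_cancel₀ h (by rw [a1, one_mul])
      subst a1'
      rw [one_mul] at a0
      exact hχτ ((mul_eq_zero.mp (by linear_combination -a0 : χ τ * v 1 = 0)).resolve_right h)
    have hv0 : v 0 ≠ 0 := fun h => hv (by funext i; fin_cases i <;> assumption)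
    rw [hv1, mul_zero, add_zero] at b1
    exact hv0 b1.symm
  have : Fact (Nat.Prime 2) := ⟨Nat.prime_two⟩
  obtain ⟨⟨q, hqΓ⟩, hq2⟩ := exists_prime_orderOf_dvd_card' 2 heven
  rw [← Subgroup.orderOf_coe] at hq2
  obtain ⟨q1, q2, q3, q4, q5⟩ := hinv q hqΓ
  have hqq : q * q = 1 := by
    have := pow_orderOf_eq_one q
    rwa [hq2, pow_two] at this
  set z := q.2 with hz
  have hzz : z * z = 1 := congrArg Prod.snd hqq
  have hγ : (q.1 : Matrix (Fin 2) (Fin 2) Q) * q.1 = 1 := by
    rw [← Units.val_mul, show q.1 * q.1 = 1 from congrArg Prod.fst hqq, Units.val_one]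
  have h2F : (2 : F) ≠ 0 := Ring.two_ne_zero (by rw [ringChar.eq F p]; exact hp2)
  have h2Q : IsUnit (2 : Q) := by
    have := (isUnit_iff_ne_zero.mpr h2F).map (algebraMap F Q)
    rwa [map_ofNat] at this
  obtain ⟨c, hcc, hγc⟩ := eq_smul_one_of_sq h2Q q2 hγ
  have hcE : (1 - E) * c = 1 - E := by
    have := congrFun (congrFun q3 0) 0
    rw [hγc] at this
    simpa using this
  -- on the nilpotent part an involution is trivial
  obtain ⟨w, hw⟩ : ∃ w, w = ι (1 - E) * ((z : Matrix n n F) - 1) := ⟨_, rfl⟩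
  have hzE : Commute (ι (1 - E)) ((z : Matrix n n F) - 1) := by
    rw [map_sub, map_one]
    exact ((Commute.one_left _).sub_left q5).sub_right (Commute.one_right _)
  have hw2 : w * (w + 2) = 0 := by
    have hz1 : ((z : Matrix n n F) - 1) * ((z : Matrix n n F) - 1) + 2 * ((z : Matrix n n F) - 1) = 0 := by
      have : (z : Matrix n n F) * z = 1 := by rw [← Units.val_mul, hzz, Units.val_one]
      rw [two_mul, sub_mul, mul_sub, one_mul, mul_one, this]; abel
    have h1E : ι (1 - E) * ι (1 - E) = ι (1 - E) := by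
      rw [← map_mul, show (1 - E) * (1 - E) = 1 - E by linear_combination hEE]
    rw [mul_add, hw, mul_assoc, ← mul_assoc ((z : Matrix n n F) - 1), ← hzE.eq, ← mul_assoc, ← mul_assoc,
      h1E, mul_assoc, mul_assoc, ← mul_add]
    rw [show ((z : Matrix n n F) - 1) * 2 = 2 * ((z : Matrix n n F) - 1) by rw [two_mul, mul_two], hz1, mul_zero]
  have hw0 : w = 0 := by
    have hu : IsUnit (w + 2) := by
      refine IsNilpotent.isUnit_add_right_of_commute ?_ ?_ ?_
      · obtain ⟨k, hk⟩ := hnil z q4; exact ⟨k, by rw [hw]; exact hk⟩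
      · have := (isUnit_iff_ne_zero.mpr h2F).map (algebraMap F (Matrix n n F))
        rwa [map_ofNat] at this
      · exact show w * 2 = 2 * w by rw [two_mul, mul_two]
    exact hu.mul_left_eq_zero.mp hw2
  have hzc : (z : Matrix n n F) = ι c := by
    have hΦc : Φ (q.1 : Matrix (Fin 2) (Fin 2) Q) = ι c * ι E := by
      rw [hγc]
      simp [Φ, hEsplit, mul_add]
    rw [q1] at hΦc
    rw [hw, map_sub, map_one, sub_mul, one_mul, mul_sub, mul_one, hΦc, sub_eq_zero, sub_eq_iff_eq_add] at hw0
    have hcE' := congrArg ι hcE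
    rw [map_mul, map_sub, map_one, sub_mul, one_mul] at hcE'
    rw [hw0, ← map_mul, mul_comm c E, map_mul]
    linear_combination (norm := abel) -hcE'
  refine ⟨z, q4, ?_, hzz, ?_, ?_, ?_⟩
  · intro h1
    have hz1 : (ι c : Matrix n n F) = 1 := by rw [← hzc, h1, Units.val_one]
    have hc1 : c = 1 := hιi (by rw [hz1, map_one])
    have hq1 : q = 1 := Prod.ext (Units.ext (by rw [hγc, hc1, one_smul]; rfl)) h1
    subst hq1
    rw [orderOf_one] at hq2
    omega
  · rw [hzc]; exact cN c
  · rw [hzc]; exact cN' c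
  -- half rank
  have hdE : (1 - c) * E = 1 - c := by linear_combination hcE
  rw [hzc, show (1 : Matrix n n F) - ι c = ι (1 - c) by rw [map_sub, map_one]]
  set d := 1 - c with hd
  have hsplit : ι d = ι d * e11 + ι d * e22 := by rw [← mul_add, ← hEsplit, ← map_mul, hdE]
  have u22 : e22 = e21 * e11 * e12 := by rw [ee9, ee10]
  have u11' : e11 = e12 * e22 * e21 := by rw [ee8, ee7]
  have hadd := rank_add_of_orthogonal (A := ι d * e11) (B := ι d * e22) (e := e11)
    (by rw [← mul_assoc, ← (c11 d).eq, mul_assoc, ee1])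
    (by rw [← mul_assoc, ← (c11 d).eq, mul_assoc, ee4, mul_zero])
    (fun x => ⟨e11 *ᵥ x, by
      rw [mulVec_mulVec, add_mul, mul_assoc, ee1, mul_assoc, ee13, mul_zero, add_zero]⟩)
  have h22 : (ι d * e22).rank = (ι d * e11).rank :=
    rank_eq_of_factor (X := e21) (Y := e12) (X' := e12) (Y' := e21)
      (by simp only [← mul_assoc, ← (c21 d).eq]; simp only [mul_assoc]; rw [← mul_assoc e21, ← u22])
      (by simp only [← mul_assoc, ← (c12 d).eq]; simp only [mul_assoc]; rw [← mul_assoc e12, ← u11'])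
  have hN1 : (ι d * e11).rank = (ι d * N).rank :=
    rank_eq_of_factor (X := 1) (Y := ι S * N') (X' := 1) (Y' := N)
      (by rw [one_mul, mul_assoc, cN1, he11])
      (by rw [one_mul, he11]; simp only [mul_assoc, h121, mι]; rw [mul_comm S τ, hτS, hdE])
  rw [← hN1]
  conv_rhs => rw [hsplit, hadd, h22]
  ring

end CfsgLib.TWreath
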