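import Cfsg.Agent.TensorWreath.Control
import Cfsg.Agent.TensorWreath.Quad

/-!
# No rigid overgroup in odd characteristic

A root and an outside conjugate generate a group with a central involution on whose `-1` space the root
has half rank; such an involution is a matrix of one factor, so the conjugate lies in the wreath group.
-/

set_option autoImplicit false
set_option linter.unusedSectionVars false

namespace CfsgLib.TWreath

open Matrix CfsgLib.MaxSub

variable {F : Type*} [Field F] {ι : Type} [Fintype ι] [DecidableEq ι] {m : ℕ}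

/-- Elements fixing a factor act factorwise on split tensors. -/
theorem exists_rest_of_fixed {gs : ι → GL (Fin m) F} {σ : Equiv.Perm ι} {i : ι} (hi : σ i = i) :
    ∃ Z : Matrix (Rest i m) (Rest i m) F, ∀ x w,
      ((PtG gs * pmG σ : GL (ι → Fin m) F) : Matrix (ι → Fin m) (ι → Fin m) F) *ᵥ lift i x w =
        lift i ((gs i : Matrix (Fin m) (Fin m) F) *ᵥ x) (Z *ᵥ w) := by
  have hiff : ∀ k, σ k ≠ i ↔ k ≠ i := fun k => by
    constructor
    · exact fun h e => h (by rw [e, hi])
    · exact fun h e => h (σ.injective (e.trans hi.symm))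
  let σ' : Equiv.Perm {j // j ≠ i} := σ.subtypePerm hiff
  refine ⟨Pt (fun j : {j // j ≠ i} => (gs j : Matrix (Fin m) (Fin m) F)) * pm σ', fun x w => ?_⟩
  conv_lhs => rw [eq_sum_pten w, map_sum]
  conv_rhs => rw [eq_sum_pten w]
  rw [mulVec_sum, mulVec_sum, map_sum]
  refine Finset.sum_congr rfl fun r _ => ?_
  rw [map_smul, mulVec_smul, mulVec_smul, map_smul]
  congr 1
  let xs : ι → Fin m → F := fun j => if h : j = i then x else Pi.single (r ⟨j, h⟩) 1
  have hxs : (fun j : {j // j ≠ i} => Pi.single (r j) (1 : F)) = fun j : {j // j ≠ i} => xs j := by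
    funext j; simp [xs, j.2]
  have hs' : ∀ j : {j // j ≠ i}, (σ'.symm j : ι) = σ.symm j := fun j => by
    rw [Equiv.eq_symm_apply]
    exact congrArg Subtype.val (σ'.apply_symm_apply j)
  rw [hxs, lift_pten, Units.val_mul, PtG_val, pmG_val, ← mulVec_mulVec, pm_mulVec_pten, Pt_mulVec_pten,
    ← mulVec_mulVec, pm_mulVec_pten, Pt_mulVec_pten]
  rw [show (fun k : {j // j ≠ i} => (gs k : Matrix (Fin m) (Fin m) F) *ᵥ xs (σ'.symm k)) =
    (fun k : {j // j ≠ i} => (gs k : Matrix (Fin m) (Fin m) F) *ᵥ xs (σ.symm k)) by funext k; rw [hs'],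
    lift_pten i _ (fun k => (gs k : Matrix (Fin m) (Fin m) F) *ᵥ xs (σ.symm k))]
  congr 1
  funext k
  rcases eq_or_ne k i with rfl | hk
  · have : σ.symm k = k := by rw [Equiv.symm_apply_eq]; exact hi.symm
    simp [this]
  · have : σ.symm k ≠ i := fun e => hk (by rw [Equiv.symm_apply_eq] at e; rw [e, hi])
    simp [hk, this]

theorem exists_root_perm_eq [NeZero m] {g : GL (ι → Fin m) F} {σ : Equiv.Perm ι} (hg : HasPerm g σ) {i : ι}
    {c φ : Fin m → F} (h : φ ⬝ᵥ c = 0) (hc : c ≠ 0) (hφ : φ ≠ 0)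
    (hcomm : g * root i c φ * g⁻¹ = root i c φ) : σ i = i := by
  obtain ⟨c', φ', hc', hφ', h', he⟩ := hg.conj_root (i := i) h hc hφ
  rw [hcomm, root, root, embG_eq_PtG] at he
  by_contra hne
  obtain ⟨l, hl⟩ := exists_scalar_of_PtG_eq_embG he (k := i) (Ne.symm hne)
  rw [Function.update_self] at hl
  exact tv_ne_smul_one h hc hφ l hl

theorem eq_of_lift_mulVec [NeZero m] {i : ι} {A B : Matrix (ι → Fin m) (ι → Fin m) F}
    (h : ∀ x w, A *ᵥ lift i x w = B *ᵥ lift i x w) : A = B := by
  refine ext_pten fun xs => ?_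
  have := h (xs i) (pten fun j : {j // j ≠ i} => xs j)
  rwa [lift_pten, Function.update_eq_self] at this

theorem finrank_map_le {V W : Type*} [AddCommGroup V] [Module F V] [FiniteDimensional F V] [AddCommGroup W]
    [Module F W] (f : V →ₗ[F] W) (U : Submodule F V) : Module.finrank F (U.map f) ≤ Module.finrank F U :=
  Submodule.finrank_map_le f U

variable [Finite F] {p : ℕ} [Fact p.Prime] [CharP F p] {M : Subgroup (GL (ι → Fin m) F)}

set_option maxHeartbeats 800000 in
/-- There is no rigid overgroup outside the wreath group. -/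
theorem Rigid.le_wreath_of_char_odd (hM : Rigid M) [Nonempty ι] (hp2 : p ≠ 2) : M ≤ wreath ι m F := by
  classical
  have := hM.neZero
  intro k hk
  obtain ⟨i⟩ := ‹Nonempty ι›
  set φ : Fin m → F := Pi.single 0 1 with hφdef
  have hφ : φ ≠ 0 := by simp [φ]
  obtain ⟨c, -, hc, -, hc0, -⟩ := exists_two_in_kerDot hM.three φ
  set r := root i c φ with hr
  set r' := k * r * k⁻¹ with hr'
  set N := emb i (vecMulVec c φ) with hN
  have hrM : r ∈ M := hM.roots i c φ hc
  have hr'M : r' ∈ M := M.mul_mem (M.mul_mem hk hrM) (M.inv_mem hk)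
  have hcl : Subgroup.closure ({r, r'} : Set (GL (ι → Fin m) F)) ≤ M := by
    rw [Subgroup.closure_le]; rintro x (rfl | rfl) <;> assumption
  suffices hr'W : r' ∈ wreath ι m F from hM.mem_of_conj_root hk hc hc0 hφ hr'W
  have hN' : (r' : Matrix (ι → Fin m) (ι → Fin m) F) = 1 + ((r' : Matrix (ι → Fin m) (ι → Fin m) F) - 1) := by
    abel
  rcases quadratic_pair hp2 r r' (root_val hc) hN' (by rw [← emb_mul, vecMulVec_sq hc, emb_zero])
    (conj_quadratic (root_quadratic hc)) with hG | ⟨z, hzG, hz1, hzz, hzN, hzN', hrank⟩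
  · exact hM.le_of_root_mem hcl hG hc hc0 hφ (Subgroup.subset_closure (Or.inl rfl))
      (Subgroup.subset_closure (Or.inr rfl))
  -- the involution fixes the factor `i`
  obtain ⟨ψ, hψ, hψc⟩ := exists_ortho hM.two_le c
  have hV0 : vecMulVec c φ ≠ 0 := fun e => by
    obtain ⟨j, hj⟩ := Function.ne_iff.mp hc0
    have := congrFun (congrFun e j) 0
    simp [vecMulVec_apply, φ] at this
    exact hj this
  obtain ⟨σ, hσ⟩ := hM.mem_of_comm_emb (hcl hzG) hV0 hψ (by rw [vecMul_vecMulVec, hψc, zero_smul]) hzN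
  have hzr : z * r * z⁻¹ = r := by
    rw [mul_inv_eq_iff_eq_mul]
    apply Units.ext
    rw [Units.val_mul, Units.val_mul, hr, root_val hc, mul_add, add_mul, mul_one, one_mul, hzN]
  have hσi := exists_root_perm_eq hσ hc hc0 hφ hzr
  obtain ⟨gs, hgs⟩ := hσ
  obtain ⟨Z, hZ⟩ := exists_rest_of_fixed (gs := gs) hσi
  rw [← hgs] at hZ
  set zM := (z : Matrix (ι → Fin m) (ι → Fin m) F) with hzM
  set A := (gs i : Matrix (Fin m) (Fin m) F) with hA
  -- normalisation
  have hAc : A * vecMulVec c φ = vecMulVec c φ * A := by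
    refine Matrix.ext_of_mulVec_single fun j => ?_
    obtain ⟨w, hw⟩ : ∃ w : Rest i m → F, Z *ᵥ w ≠ 0 := by
      by_contra hcon
      push Not at hcon
      have : zM = 0 := eq_of_lift_mulVec (i := i) fun x w => by
        rw [hZ, hcon, map_zero, zero_mulVec]
      have h0 := z.isUnit
      rw [show (z : Matrix (ι → Fin m) (ι → Fin m) F) = 0 from this] at h0
      exact not_isUnit_zero h0
    have h1 := congrArg (· *ᵥ lift i (Pi.single j 1) w) hzN
    simp only [← mulVec_mulVec, hN, hzM.symm, hZ, emb_mulVec_lift] at h1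
    have h2 : lift i ((A * vecMulVec c φ) *ᵥ Pi.single j 1) (Z *ᵥ w) =
        lift i ((vecMulVec c φ * A) *ᵥ Pi.single j 1) (Z *ᵥ w) := by
      rw [← mulVec_mulVec, ← mulVec_mulVec]; exact h1
    funext q
    obtain ⟨r0, hr0⟩ := Function.ne_iff.mp hw
    have h3 := congrFun h2 (extend i q r0)
    rw [lift_apply, lift_apply, extend_self, extend_rest] at h3
    exact mul_right_cancel₀ hr0 h3
  obtain ⟨d, hd⟩ := exists_dot_eq_one hφ
  rw [dotProduct_comm] at hd
  set μ := φ ⬝ᵥ (A *ᵥ d) with hμ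
  have hAμ : A *ᵥ c = μ • c := by
    have := congrArg (· *ᵥ d) hAc
    simp only [← mulVec_mulVec, vecMulVec_mulVec', hd, one_smul] at this
    exact this
  have hφA : φ ᵥ* A = μ • φ := by
    obtain ⟨f, hf⟩ := exists_dot_eq_one hc0
    have := congrArg (f ᵥ* ·) hAc
    simp only [← vecMul_vecMul, vecMul_vecMulVec, hf, one_smul] at this
    rw [← this, ← dotProduct_mulVec, hAμ, dotProduct_smul, hf, smul_eq_mul, mul_one]
  have hμ0 : μ ≠ 0 := fun e => by
    rw [e, zero_smul] at hAμ
    exact hc0 ((mulVec_injective_iff_isUnit.mpr (gs i).isUnit) (hAμ.trans (mulVec_zero _).symm))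
  set A' := μ⁻¹ • A with hA'
  set Z' := μ • Z with hZ'
  have hz' : ∀ x w, zM *ᵥ lift i x w = lift i (A' *ᵥ x) (Z' *ᵥ w) := fun x w => by
    rw [hZ, hA', hZ', smul_mulVec, smul_mulVec, map_smul, lift_smul_left, smul_smul, mul_inv_cancel₀ hμ0, one_smul]
  have hA'c : A' *ᵥ c = c := by rw [hA', smul_mulVec, hAμ, smul_smul, inv_mul_cancel₀ hμ0, one_smul]
  have hφA' : φ ᵥ* A' = φ := by rw [hA', vecMul_smul, hφA, smul_smul, inv_mul_cancel₀ hμ0, one_smul]
  have hzM2 : zM * zM = 1 := by rw [hzM, ← Units.val_mul, hzz, Units.val_one]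
  have hsq : ∀ x w, lift i (A' *ᵥ (A' *ᵥ x)) (Z' *ᵥ (Z' *ᵥ w)) = lift i x w := fun x w => by
    rw [← hz', ← hz', mulVec_mulVec, hzM2, one_mulVec]
  have hZ2 : ∀ w, Z' *ᵥ (Z' *ᵥ w) = w := fun w => by
    have := hsq c w
    rw [hA'c, hA'c] at this
    exact lift_injective hc0 this
  have hA2 : ∀ x, A' *ᵥ (A' *ᵥ x) = x := fun x => by
    funext q
    have := congrFun (hsq x (fun _ => 1)) (extend i q fun _ => 0)
    rw [hZ2, lift_apply, lift_apply, extend_self, mul_one, mul_one] at this
    exact this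
  have h2F : (2 : F) ≠ 0 := Ring.two_ne_zero (by rw [ringChar.eq F p]; exact hp2)
  set D := (1 : Matrix (ι → Fin m) (ι → Fin m) F) - zM with hD
  set Wm := LinearMap.range (1 - Z').mulVecLin with hWm
  set Wp := LinearMap.range (1 + Z').mulVecLin with hWp
  have hWm' : ∀ w ∈ Wm, Z' *ᵥ w = -w := by
    rintro _ ⟨w, rfl⟩; rw [mulVecLin_apply, sub_mulVec, one_mulVec, mulVec_sub, hZ2, neg_sub]
  have hWp' : ∀ w ∈ Wp, Z' *ᵥ w = w := by
    rintro _ ⟨w, rfl⟩; rw [mulVecLin_apply, add_mulVec, one_mulVec, mulVec_add, hZ2, add_comm]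
  have hND : (D * N).rank ≤ Module.finrank F Wm := by
    refine le_trans (Submodule.finrank_mono ?_) (Submodule.finrank_map_le (lift i c) Wm)
    rintro _ ⟨v, rfl⟩
    obtain ⟨w, hw⟩ := exists_lift_of_mem_block hc0
      (show N *ᵥ v ∈ block i c by rw [block_eq_range hφ]; exact ⟨v, rfl⟩)
    refine ⟨(1 - Z') *ᵥ w, ⟨w, rfl⟩, ?_⟩
    rw [mulVecLin_apply, ← mulVec_mulVec, hw, hD, sub_mulVec, sub_mulVec, one_mulVec, one_mulVec, hz', hA'c,
      map_sub]
  have hmem : ∀ x w, zM *ᵥ lift i x w = - lift i x w → lift i x w ∈ LinearMap.range D.mulVecLin := fun x w h => by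
    refine ⟨(2 : F)⁻¹ • lift i x w, ?_⟩
    rw [mulVecLin_apply, mulVec_smul, hD, sub_mulVec, one_mulVec, h, sub_neg_eq_add, ← two_smul F, smul_smul,
      inv_mul_cancel₀ h2F, one_smul]
  have hplus : ∀ x w, A' *ᵥ x = x → w ∈ Wm → lift i x w ∈ LinearMap.range D.mulVecLin := fun x w hx hw =>
    hmem x w (by rw [hz', hx, hWm' w hw, map_neg])
  have hDrank : D.rank ≤ 2 * Module.finrank F Wm := by
    have h' : 2 * (D * N).rank = D.rank := hrank
    omega
  have hqm : 0 < Module.finrank F Wm := by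
    by_contra hq
    have hN0 : D.rank = 0 := by omega
    have hD0 : D = 0 := by
      rw [Matrix.rank, Submodule.finrank_eq_zero, LinearMap.range_eq_bot] at hN0
      refine Matrix.ext_of_mulVec_single fun j => ?_
      rw [← mulVecLin_apply, hN0, zero_mulVec]; rfl
    exact hz1 (Units.ext (sub_eq_zero.mp hD0).symm)
  set c₂ := d + A' *ᵥ d with hc₂
  have hc₂p : A' *ᵥ c₂ = c₂ := by rw [hc₂, mulVec_add, hA2, add_comm]
  have hφc₂ : φ ⬝ᵥ c₂ = 2 := by
    rw [hc₂, dotProduct_add, dotProduct_mulVec, hφA', hd]; norm_num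
  by_cases hA1 : A' = 1
  · -- three fixed directions
    exfalso
    obtain ⟨ψ₁, hψ₁⟩ := exists_dot_eq_one hc0
    let fn : (Fin m → F) →ₗ[F] (Fin 2 → F) :=
      { toFun := fun e => ![φ ⬝ᵥ e, ψ₁ ⬝ᵥ e]
        map_add' := fun g h => by funext i; fin_cases i <;> simp [dotProduct_add]
        map_smul' := fun k h => by funext i; fin_cases i <;> simp [dotProduct_smul] }
    obtain ⟨e, he, he0⟩ := Submodule.exists_mem_ne_zero_of_ne_bot (LinearMap.ker_ne_bot_of_finrank_lt
      (f := fn) (by rw [Module.finrank_fin_fun, Module.finrank_fin_fun]; have := hM.three; omega))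
    have he1 : φ ⬝ᵥ e = 0 := congrFun he 0
    have he2 : ψ₁ ⬝ᵥ e = 0 := congrFun he 1
    obtain ⟨q, hq⟩ := Function.ne_iff.mp he0
    let Φ : (Wm × Wm × Wm) →ₗ[F] ((ι → Fin m) → F) :=
      (lift i c ∘ₗ Wm.subtype).coprod ((lift i c₂ ∘ₗ Wm.subtype).coprod (lift i e ∘ₗ Wm.subtype))
    have hΦ : Function.Injective Φ := by
      rw [← LinearMap.ker_eq_bot, LinearMap.ker_eq_bot']
      rintro ⟨⟨u, hu⟩, ⟨v, hv⟩, ⟨w, hw⟩⟩ h
      simp only [Φ, LinearMap.coprod_apply, LinearMap.coe_comp, Function.comp_apply, Submodule.coe_subtype] at h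
      have hr1 : ∀ (χ : Fin m → F) (r : Rest i m),
          (χ ⬝ᵥ c) * u r + ((χ ⬝ᵥ c₂) * v r + (χ ⬝ᵥ e) * w r) = 0 := fun χ r => by
        have := congrFun (congrArg (ctr i χ) h) (extend i 0 r)
        rw [map_zero, map_add, map_add, Pi.add_apply, Pi.add_apply, ctr_lift, ctr_lift, ctr_lift, extend_rest] at this
        exact this
      have hv0 : v = 0 := funext fun r => by
        have := hr1 φ r
        rw [hc, hφc₂, he1, zero_mul, zero_add, zero_mul, add_zero] at this
        exact (mul_eq_zero.mp this).resolve_left h2F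
      have hu0 : u = 0 := funext fun r => by
        have := hr1 ψ₁ r
        rw [hψ₁, he2, hv0] at this
        simpa using this
      have hw0 : w = 0 := funext fun r => by
        have := hr1 (Pi.single q 1) r
        rw [hu0, hv0] at this
        simp at this
        exact this.resolve_left hq
      simp [hu0, hv0, hw0]
    have hle : LinearMap.range Φ ≤ LinearMap.range D.mulVecLin := by
      rintro _ ⟨⟨⟨u, hu⟩, ⟨v, hv⟩, ⟨w, hw⟩⟩, rfl⟩
      simp only [Φ, LinearMap.coprod_apply, LinearMap.coe_comp, Function.comp_apply, Submodule.coe_subtype]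
      exact Submodule.add_mem _ (hplus _ _ hA'c hu)
        (Submodule.add_mem _ (hplus _ _ hc₂p hv) (hplus _ _ (by rw [hA1, one_mulVec]) hw))
    have := Submodule.finrank_mono hle
    rw [LinearMap.finrank_range_of_inj hΦ, Module.finrank_prod, Module.finrank_prod] at this
    rw [Matrix.rank] at hDrank
    omega
  obtain ⟨x, hx⟩ : ∃ x, A' *ᵥ x ≠ x := by
    by_contra hcon
    push Not at hcon
    exact hA1 (Matrix.ext_of_mulVec_single fun j => by rw [hcon, one_mulVec])
  set a := x - A' *ᵥ x with ha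
  have ham : A' *ᵥ a = -a := by rw [ha, mulVec_sub, hA2, neg_sub]
  have ha0 : a ≠ 0 := fun e => hx (sub_eq_zero.mp e).symm
  have hφa : φ ⬝ᵥ a = 0 := by rw [ha, dotProduct_sub, dotProduct_mulVec, hφA', sub_self]
  have hWp0 : Wp = ⊥ := by
    obtain ⟨χ, hχc, hχa⟩ := exists_dot_eq_zero_one (a := c) (b := a) fun l hl => by
      have h1 : -a = a := by rw [← ham, ← hl, mulVec_smul, hA'c]
      refine ha0 (funext fun j => ?_)
      have := congrFun h1 j
      simp at this
      exact (mul_eq_zero.mp (by linear_combination -this : (2 : F) * a j = 0)).resolve_left h2F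
    rw [dotProduct_comm] at hχc hχa
    let Φ : (Wm × Wm × Wp) →ₗ[F] ((ι → Fin m) → F) :=
      (lift i c ∘ₗ Wm.subtype).coprod ((lift i c₂ ∘ₗ Wm.subtype).coprod (lift i a ∘ₗ Wp.subtype))
    have hΦ : Function.Injective Φ := by
      rw [← LinearMap.ker_eq_bot, LinearMap.ker_eq_bot']
      rintro ⟨⟨u, hu⟩, ⟨v, hv⟩, ⟨w, hw⟩⟩ h
      simp only [Φ, LinearMap.coprod_apply, LinearMap.coe_comp, Function.comp_apply, Submodule.coe_subtype] at h
      have hr1 : ∀ (χ : Fin m → F) (r : Rest i m),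
          (χ ⬝ᵥ c) * u r + ((χ ⬝ᵥ c₂) * v r + (χ ⬝ᵥ a) * w r) = 0 := fun χ r => by
        have := congrFun (congrArg (ctr i χ) h) (extend i 0 r)
        rw [map_zero, map_add, map_add, Pi.add_apply, Pi.add_apply, ctr_lift, ctr_lift, ctr_lift, extend_rest] at this
        exact this
      have hv0 : v = 0 := funext fun r => by
        have := hr1 φ r
        rw [hc, hφc₂, hφa, zero_mul, zero_add, zero_mul, add_zero] at this
        exact (mul_eq_zero.mp this).resolve_left h2F
      have hw0 : w = 0 := funext fun r => by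
        have := hr1 χ r
        rw [hχc, hχa, hv0] at this
        simpa using this
      have hu0 : u = 0 := funext fun r => by
        obtain ⟨f, hf⟩ := exists_dot_eq_one hc0
        have := hr1 f r
        rw [hf, hv0, hw0] at this
        simpa using this
      simp [hu0, hv0, hw0]
    have hle : LinearMap.range Φ ≤ LinearMap.range D.mulVecLin := by
      rintro _ ⟨⟨⟨u, hu⟩, ⟨v, hv⟩, ⟨w, hw⟩⟩, rfl⟩
      simp only [Φ, LinearMap.coprod_apply, LinearMap.coe_comp, Function.comp_apply, Submodule.coe_subtype]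
      refine Submodule.add_mem _ (hplus _ _ hA'c hu) (Submodule.add_mem _ (hplus _ _ hc₂p hv) (hmem _ _ ?_))
      rw [hz', ham, hWp' w hw]
      funext t; simp [lift_apply]
    have := Submodule.finrank_mono hle
    rw [LinearMap.finrank_range_of_inj hΦ, Module.finrank_prod, Module.finrank_prod] at this
    rw [Matrix.rank] at hDrank
    exact Submodule.finrank_eq_zero.mp (by omega)
  have hZneg : ∀ w, Z' *ᵥ w = -w := fun w => by
    have : (1 + Z') *ᵥ w ∈ Wp := ⟨w, rfl⟩
    rw [hWp0, Submodule.mem_bot, add_mulVec, one_mulVec] at this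
    exact eq_neg_of_add_eq_zero_right this
  have hze : zM = - emb i A' := eq_of_lift_mulVec (i := i) fun x w => by
    rw [hz', hZneg, map_neg, neg_mulVec, emb_mulVec_lift]
  -- `r'` commutes with a singular matrix of the factor `i`
  refine hM.mem_of_comm_emb hr'M (i := i) (N := 1 - A') (sub_ne_zero.mpr (Ne.symm hA1)) hφ
    (by rw [vecMul_sub, vecMul_one, hφA', sub_self]) ?_
  have hzr' : zM * (r' : Matrix (ι → Fin m) (ι → Fin m) F) = (r' : Matrix (ι → Fin m) (ι → Fin m) F) * zM := by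
    rw [mul_sub, sub_mul, mul_one, one_mul] at hzN'
    exact sub_left_inj.mp hzN'
  rw [hze, neg_mul, mul_neg, neg_inj] at hzr'
  rw [emb_sub, emb_one, mul_sub, sub_mul, mul_one, one_mul, hzr']

end CfsgLib.TWreath
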