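import Cfsg.Agent.TensorWreath.Control

/-!
# No rigid overgroup in characteristic two

Two non-conjugate involutions commute with a common involution; this produces an element outside the
wreath group centralising a product of two roots, which is impossible.
-/

set_option autoImplicit false
set_option linter.unusedSectionVars false

namespace CfsgLib.TWreath

open Matrix CfsgLib.MaxSub

/-- Two involutions: either conjugate, or `a` and a conjugate of `b` generate a `2`-group whose central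
involution commutes with the conjugating element. -/
theorem invol_pair {G : Type*} [Group G] [Finite G] {a b : G} (ha : a * a = 1) (hb : b * b = 1) :
    (∃ h ∈ Subgroup.closure ({a, b} : Set G), h * a * h⁻¹ = b) ∨
    ∃ g ∈ Subgroup.closure ({a, b} : Set G), ∃ n : ℕ,
      orderOf (a * (g * b * g⁻¹)) = 2 ^ (n + 1) ∧ Commute ((a * (g * b * g⁻¹)) ^ 2 ^ n) g := by
  set x := a * b with hx
  have hxm : x ∈ Subgroup.closure ({a, b} : Set G) := Subgroup.mul_mem _
    (Subgroup.subset_closure (Or.inl rfl)) (Subgroup.subset_closure (Or.inr rfl))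
  have hai : a⁻¹ = a := inv_eq_of_mul_eq_one_right ha
  have hbi : b⁻¹ = b := inv_eq_of_mul_eq_one_right hb
  have hax : a * x * a = x⁻¹ := by
    rw [hx, _root_.mul_inv_rev, hai, hbi, ← mul_assoc, ha, one_mul]
  have hapow : ∀ k : ℕ, a * x ^ k = (x ^ k)⁻¹ * a := by
    intro k
    induction k with
    | zero => simp
    | succ k ih =>
      have h1 : a * x = x⁻¹ * a := by rw [← hax, mul_assoc (a * x), ha, mul_one]
      rw [pow_succ, ← mul_assoc, ih, mul_assoc, h1, ← mul_assoc, ← _root_.mul_inv_rev]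
      rw [← pow_succ', ← pow_succ]
  obtain ⟨L, o, ho, hord⟩ : ∃ L o, ¬ 2 ∣ o ∧ orderOf x = 2 ^ L * o :=
    ⟨(orderOf x).factorization 2, orderOf x / 2 ^ (orderOf x).factorization 2,
      Nat.not_dvd_ordCompl Nat.prime_two (orderOf_pos x).ne', (Nat.ordProj_mul_ordCompl_eq_self _ 2).symm⟩
  obtain ⟨t, rfl⟩ : ∃ t, o = 2 * t + 1 := ⟨o / 2, by omega⟩
  have hb' : b = a * x := by rw [hx, ← mul_assoc, ha, one_mul]
  rcases Nat.eq_zero_or_pos L with rfl | hL
  · refine Or.inl ⟨x ^ t, Subgroup.pow_mem _ hxm t, ?_⟩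
    have h1 : x ^ t * x ^ t * x = 1 := by
      rw [← pow_add, ← pow_succ, show t + t + 1 = orderOf x by rw [hord]; omega, pow_orderOf_eq_one]
    have h2 : x ^ t * x ^ t = x⁻¹ := eq_inv_of_mul_eq_one_left h1
    have h3 : a * (x ^ t)⁻¹ = x ^ t * a := by
      have := hapow t
      calc a * (x ^ t)⁻¹ = x ^ t * ((x ^ t)⁻¹ * a) * (x ^ t)⁻¹ := by group
        _ = x ^ t * a := by rw [← this]; group
    have h4 : a * x = x⁻¹ * a := by rw [← hax, mul_assoc (a * x), ha, mul_one]
    rw [mul_assoc, h3, ← mul_assoc, h2, hb', h4]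
  · obtain ⟨n, rfl⟩ : ∃ n, L = n + 1 := ⟨L - 1, by omega⟩
    refine Or.inr ⟨(x ^ t)⁻¹, Subgroup.inv_mem _ (Subgroup.pow_mem _ hxm t), n, ?_⟩
    have hy : a * ((x ^ t)⁻¹ * b * (x ^ t)⁻¹⁻¹) = x ^ (2 * t + 1) := by
      have h3 : a * (x ^ t)⁻¹ = x ^ t * a := by
        have := hapow t
        calc a * (x ^ t)⁻¹ = x ^ t * ((x ^ t)⁻¹ * a) * (x ^ t)⁻¹ := by group
          _ = x ^ t * a := by rw [← this]; group
      rw [inv_inv, mul_assoc ((x ^ t)⁻¹), ← mul_assoc, h3, hb', mul_assoc, ← mul_assoc a (a * x),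
        ← mul_assoc a a, ha, one_mul, ← pow_succ', ← pow_add]
      congr 1; omega
    rw [hy]
    refine ⟨?_, ?_⟩
    · rw [orderOf_pow' x (by omega), hord, Nat.gcd_eq_right (Dvd.intro_left _ rfl),
        Nat.mul_div_cancel _ (by omega)]
    · exact (((Commute.refl x).pow_pow (2 * t + 1) t).pow_left (2 ^ n)).inv_right

/-- An element inverted by an involution, of `2`-power order, generates a `2`-group with it. -/
theorem exists_two_group {G : Type*} [Group G] {a b : G} (ha : a * a = 1) (hb : b * b = 1) {n : ℕ}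
    (h : (a * b) ^ 2 ^ n = 1) : ∃ X : Subgroup G, IsPGroup 2 X ∧ a ∈ X ∧ b ∈ X ∧
      X ≤ Subgroup.closure ({a, b} : Set G) := by
  have hai : a⁻¹ = a := inv_eq_of_mul_eq_one_right ha
  have hbi : b⁻¹ = b := inv_eq_of_mul_eq_one_right hb
  have hH : IsPGroup 2 (Subgroup.zpowers (a * b)) := by
    rintro ⟨_, k, rfl⟩
    refine ⟨n, Subtype.ext ?_⟩
    show ((a * b) ^ k) ^ (2 ^ n) = 1
    rw [← zpow_natCast, ← _root_.zpow_mul, mul_comm, _root_.zpow_mul, zpow_natCast, h, _root_.one_zpow]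
  have hK : IsPGroup 2 (Subgroup.zpowers a) := by
    rintro ⟨_, k, rfl⟩
    refine ⟨1, Subtype.ext ?_⟩
    show (a ^ k) ^ (2 ^ 1) = 1
    rw [pow_one, ← zpow_natCast, ← _root_.zpow_mul, mul_comm, _root_.zpow_mul, zpow_natCast, pow_two, ha,
      _root_.one_zpow]
  have hnorm : Subgroup.zpowers a ≤ Subgroup.normalizer ((Subgroup.zpowers (a * b) : Subgroup G) : Set G) := by
    rw [Subgroup.zpowers_le, Subgroup.mem_normalizer_iff]
    have hconj : ∀ z ∈ Subgroup.zpowers (a * b), a * z * a⁻¹ ∈ Subgroup.zpowers (a * b) := by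
      rintro _ ⟨k, rfl⟩
      refine ⟨-k, ?_⟩
      show (a * b) ^ (-k) = a * (a * b) ^ k * a⁻¹
      rw [← conj_zpow, _root_.zpow_neg, ← _root_.inv_zpow]
      congr 1
      rw [_root_.mul_inv_rev, hai, hbi, ← mul_assoc a a b, ha, one_mul]
    intro z
    refine ⟨hconj z, fun hz => ?_⟩
    have := hconj _ hz
    rw [show a * (a * z * a⁻¹) * a⁻¹ = (a * a) * z * (a * a)⁻¹ by group, ha, inv_one, one_mul, mul_one] at this
    exact this
  refine ⟨_, hK.to_sup_of_normal_right' hH hnorm, Subgroup.mem_sup_left (Subgroup.mem_zpowers a), ?_, ?_⟩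
  · have := Subgroup.mul_mem _ (Subgroup.mem_sup_left (S := Subgroup.zpowers a) (T := Subgroup.zpowers (a * b))
      (Subgroup.mem_zpowers a)) (Subgroup.mem_sup_right (Subgroup.mem_zpowers (a * b)))
    rwa [← mul_assoc, ha, one_mul] at this
  · refine sup_le (Subgroup.zpowers_le.mpr (Subgroup.subset_closure (Or.inl rfl))) ?_
    exact Subgroup.zpowers_le.mpr (Subgroup.mul_mem _ (Subgroup.subset_closure (Or.inl rfl))
      (Subgroup.subset_closure (Or.inr rfl)))

variable {F : Type*} [Field F] {ι : Type} [Fintype ι] [DecidableEq ι] {m : ℕ}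

theorem smul_eq_one_of_sq [CharP F 2] [NeZero m] {c : F} {A : Matrix (Fin m) (Fin m) F}
    (hA : A * A = 1) (hB : (c • A) * (c • A) = 1) : c = 1 := by
  rw [smul_mul_smul_comm, hA] at hB
  have h := congrFun (congrFun hB 0) 0
  simp at h
  rcases mul_self_eq_one_iff.mp h with h | h
  · exact h
  · rw [h, CharTwo.neg_eq]

variable [Finite F] [CharP F 2] {M : Subgroup (GL (ι → Fin m) F)}

theorem root_mul_self [NeZero m] {i : ι} {c φ : Fin m → F} (h : φ ⬝ᵥ c = 0) :
    root i c φ * root i c φ = 1 := by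
  rw [← pow_two]; exact root_pow h

namespace Rigid

variable (hM : Rigid M)

include hM

/-- An element commuting with a non-trivial involution of one factor lies in the wreath group. -/
theorem mem_of_comm_embG {g : GL (ι → Fin m) F} (hg : g ∈ M) {i : ι} {A : GL (Fin m) F} (hA : A * A = 1)
    (hA1 : A ≠ 1) (hcomm : Commute g (embG i A)) : g ∈ wreath ι m F := by
  have := hM.neZero
  set N := (A : Matrix (Fin m) (Fin m) F) - 1 with hN
  have hN0 : N ≠ 0 := fun h => hA1 (Units.ext (sub_eq_zero.mp h))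
  have hNN : N * N = 0 := by
    have : (A : Matrix (Fin m) (Fin m) F) * A = 1 := by rw [← Units.val_mul, hA, Units.val_one]
    rw [hN, sub_mul, mul_sub, this, one_mul, mul_one]
    rw [show (1 : Matrix (Fin m) (Fin m) F) - A - (A - 1) = (2 : Matrix (Fin m) (Fin m) F) * (1 - A) by
      rw [two_mul]; abel, CharTwo.two_eq_zero, zero_mul]
  obtain ⟨φ, hφ, hφN⟩ : ∃ φ, φ ≠ 0 ∧ φ ᵥ* N = 0 := by
    rw [Matrix.exists_vecMul_eq_zero_iff]
    have h := congrArg Matrix.det hNN
    rw [det_mul, det_zero, mul_self_eq_zero] at h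
    exact h
  refine hM.mem_of_comm_emb (i := i) hg hN0 hφ hφN ?_
  have := congrArg Units.val hcomm.eq
  rw [Units.val_mul, Units.val_mul, embG_val] at this
  rw [hN, emb_sub, emb_one, mul_sub, sub_mul, mul_one, one_mul, this]

/-- An element outside commuting with a factorwise involution with a transvection component gives one
commuting with the product of that root and another root. -/
theorem exists_two_root_of_comm {gs : ι → GL (Fin m) F} (hsq : ∀ k, gs k * gs k = 1) {i : ι}
    {c φ : Fin m → F} (h : φ ⬝ᵥ c = 0) (hc : c ≠ 0) (hφ : φ ≠ 0) (hgi : gs i = tv c φ)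
    {k : GL (ι → Fin m) F} (hk : k ∈ M) (hkW : k ∉ wreath ι m F) (hcomm : Commute k (PtG gs)) :
    ∃ g ∈ M, g ∉ wreath ι m F ∧ Commute g (PtG gs) ∧ ∃ (j : ι) (c' φ' : Fin m → F), j ≠ i ∧ c' ≠ 0 ∧
      φ' ≠ 0 ∧ φ' ⬝ᵥ c' = 0 ∧ Commute g (root i c φ * root j c' φ') ∧
      Commute (root j c' φ') (PtG gs) ∧ tv c' φ' ≠ gs j ∧ gs j ≠ 1 := by
  have := hM.neZero
  have hm2 := hM.two_le
  set z := PtG gs with hz
  obtain ⟨φ₂, hφ₂, hind⟩ : ∃ ψ, ψ ⬝ᵥ c = 0 ∧ ∀ l : F, l • φ ≠ ψ := by
    obtain ⟨f, g, hf, hg, hf0, hfg⟩ := exists_two_ortho hM.three c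
    by_cases h1 : ∀ l : F, l • φ ≠ f
    · exact ⟨f, hf, h1⟩
    push Not at h1
    obtain ⟨l, hl⟩ := h1
    refine ⟨g, hg, fun l' hl' => ?_⟩
    have hl0 : l ≠ 0 := fun e => hf0 (by rw [← hl, e, zero_smul])
    exact hfg (l' / l) (by rw [← hl, smul_smul, div_mul_cancel₀ _ hl0, hl'])
  have hφ₂0 : φ₂ ≠ 0 := fun e => hind 0 (by rw [zero_smul, e])
  set r := root i c φ with hr
  set s := root i c φ₂ with hs
  have hrM : r ∈ M := hM.roots i c φ h
  have hsM : s ∈ M := hM.roots i c φ₂ hφ₂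
  have htt : tv c φ₂ * tv c φ = tv c φ * tv c φ₂ := by
    rw [tv_mul_right hφ₂ h, tv_mul_right h hφ₂, add_comm]
  have hsz : Commute s z := by
    show s * z = z * s
    rw [hs, hz, root, embG_eq_PtG, ← map_mul, ← map_mul]
    congr 1
    funext l
    rcases eq_or_ne l i with rfl | hl
    · simp [hgi, htt]
    · simp [hl]
  have hrz : Commute r z := by
    show r * z = z * r
    rw [hr, hz, root, embG_eq_PtG, ← map_mul, ← map_mul]
    congr 1
    funext l
    rcases eq_or_ne l i with rfl | hl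
    · simp [hgi]
    · simp [hl]
  have hkiz : Commute k⁻¹ z := hcomm.inv_left
  set s' := k * s * k⁻¹ with hs'
  have hs'M : s' ∈ M := M.mul_mem (M.mul_mem hk hsM) (M.inv_mem hk)
  have hs'z : Commute s' z := (hcomm.mul_left hsz).mul_left hkiz
  have hsub : Subgroup.closure ({r, s'} : Set (GL (ι → Fin m) F)) ≤ M ⊓ Subgroup.centralizer {z} := by
    rw [Subgroup.closure_le]
    rintro x (rfl | rfl)
    · exact ⟨hrM, Subgroup.mem_centralizer_singleton_iff.mpr hrz⟩
    · exact ⟨hs'M, Subgroup.mem_centralizer_singleton_iff.mpr hs'z⟩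
  have hs2 : s * s = 1 := root_mul_self hφ₂
  have hs'2 : s' * s' = 1 := by
    rw [hs', show k * s * k⁻¹ * (k * s * k⁻¹) = k * (s * s) * k⁻¹ by group, hs2, mul_one, mul_inv_cancel]
  rcases invol_pair (root_mul_self (i := i) h) hs'2 with ⟨q, hq, hqe⟩ | ⟨g, hg, n, hord, hgc⟩
  · -- the two roots are not conjugate in the centraliser
    exfalso
    obtain ⟨hqM, hqz⟩ := hsub hq
    replace hqz : Commute q z := Subgroup.mem_centralizer_singleton_iff.mp hqz
    set y := k⁻¹ * q with hy
    have hyr : y * r * y⁻¹ = s := by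
      rw [hy, show k⁻¹ * q * r * (k⁻¹ * q)⁻¹ = k⁻¹ * (q * r * q⁻¹) * k by group, hqe, hs']
      group
    have hyM : y ∈ M := M.mul_mem (M.inv_mem hk) hqM
    obtain ⟨τ, ys, hys⟩ := hM.mem_of_conj_root hyM h hc hφ (by rw [← hr, hyr]; exact root_mem_wreath i c φ₂)
    have hyz : y * z = z * y := (hkiz.mul_left hqz).eq
    set hs₁ : ι → GL (Fin m) F := ys * (fun l => gs (τ.symm l)) * ys⁻¹ with hhs
    have hyzy : PtG hs₁ = z := by
      have : y * z * y⁻¹ = z := by rw [hyz, mul_inv_cancel_right]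
      rw [← this, hys, hz, _root_.mul_inv_rev, hhs, map_mul, map_mul, map_inv, ← mul_assoc (PtG ys * pmG τ * PtG gs),
        mul_assoc (PtG ys) (pmG τ) (PtG gs), pmG_mul_PtG]
      group
    have hfac : ∀ l, hs₁ l = gs l := fun l => by
      obtain ⟨e, he⟩ := PtG_eq_smul hyzy l
      have h2 : hs₁ l * hs₁ l = 1 := by
        simp only [hhs, Pi.mul_apply, Pi.inv_apply]
        rw [show ys l * gs (τ.symm l) * (ys l)⁻¹ * (ys l * gs (τ.symm l) * (ys l)⁻¹) =
          ys l * (gs (τ.symm l) * gs (τ.symm l)) * (ys l)⁻¹ by group, hsq, mul_one, mul_inv_cancel]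
      have h2' := congrArg Units.val h2
      have h3' := congrArg Units.val (hsq l)
      rw [Units.val_mul, Units.val_one] at h2' h3'
      rw [he] at h3'
      have := smul_eq_one_of_sq h2' h3'
      rw [this, one_smul] at he
      exact Units.ext he.symm
    have hyr' : y * r * y⁻¹ = embG (τ i) (hs₁ (τ i)) := by
      rw [hhs, hys, hr, root, embG_eq_PtG, embG_eq_PtG, _root_.mul_inv_rev,
        ← mul_assoc (PtG ys * pmG τ * PtG (Function.update 1 i (tv c φ))), mul_assoc (PtG ys) (pmG τ), pmG_mul_PtG]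
      rw [show PtG ys * ((PtG fun l => Function.update (1 : ι → GL (Fin m) F) i (tv c φ) (τ.symm l)) * pmG τ) *
        (pmG τ)⁻¹ * (PtG ys)⁻¹ = PtG ys * (PtG fun l => Function.update (1 : ι → GL (Fin m) F) i (tv c φ) (τ.symm l)) *
          (PtG ys)⁻¹ by group, ← map_inv, ← map_mul, ← map_mul]
      congr 1
      funext l
      rcases eq_or_ne l (τ i) with rfl | hl
      · simp [hgi]
      · have : τ.symm l ≠ i := fun e => hl (by rw [← e, Equiv.apply_symm_apply])
        simp [hl, this]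
    rw [hyr, hfac, hs, root] at hyr'
    by_cases hτi : τ i = i
    · rw [hτi, hgi] at hyr'
      have h' := congrArg Units.val (embG_injective i hyr')
      rw [tv_coe hφ₂, tv_coe h, add_right_inj] at h'
      obtain ⟨j, hj⟩ := Function.ne_iff.mp hc
      refine hind 1 ?_
      rw [one_smul]
      funext q
      have := congrFun (congrFun h' j) q
      simp only [vecMulVec_apply] at this
      exact (mul_left_cancel₀ hj this).symm
    · rw [embG_eq_PtG] at hyr'
      obtain ⟨e, he⟩ := exists_scalar_of_PtG_eq_embG hyr' (Ne.symm hτi)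
      rw [Function.update_self] at he
      exact tv_ne_smul_one hφ₂ hc hφ₂0 e he
  · obtain ⟨hgM, hgz⟩ := hsub hg
    replace hgz : Commute g z := Subgroup.mem_centralizer_singleton_iff.mp hgz
    set s'' := g * s' * g⁻¹ with hs''
    have hs''M : s'' ∈ M := M.mul_mem (M.mul_mem hgM hs'M) (M.inv_mem hgM)
    have hs''2 : s'' * s'' = 1 := by
      rw [hs'', show g * s' * g⁻¹ * (g * s' * g⁻¹) = g * (s' * s') * g⁻¹ by group, hs'2, mul_one, mul_inv_cancel]
    obtain ⟨X, hX2, hrX, hsX, hXle⟩ := exists_two_group (root_mul_self (i := i) h) hs''2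
      (n := n + 1) (by rw [← hord, pow_orderOf_eq_one])
    have hXW := hM.le_of_root_mem (hXle.trans ((Subgroup.closure_le _).mpr (by
      rintro x (rfl | rfl)
      · exact hrM
      · exact hs''M))) hX2 h hc hφ hrX
    set y := g * k with hy
    have hys : y * s * y⁻¹ = s'' := by rw [hy, hs'', hs']; group
    have hyM : y ∈ M := M.mul_mem hgM hk
    have hyW := hM.mem_of_conj_root hyM hφ₂ hc hφ₂0 (hys ▸ hXW hsX)
    have hgW : g ∉ wreath ι m F := fun hgW => hkW (by
      have := (wreath ι m F).mul_mem ((wreath ι m F).inv_mem hgW) hyW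
      rwa [hy, inv_mul_cancel_left] at this)
    have hs''z : Commute s'' z := ((Commute.mul_left hgz hs'z)).mul_left (Commute.inv_left hgz)
    obtain ⟨τ, hτ⟩ := hyW
    obtain ⟨c', φ', hc', hφ', h', he⟩ := hτ.conj_root (i := i) hφ₂ hc hφ₂0
    rw [← hs, hys] at he
    have hord' : orderOf (r * s'') = 2 ^ (n + 1) := hord
    by_cases hj : τ i = i
    · exfalso
      rw [hj] at he
      set A := (tv c φ * tv c' φ') ^ 2 ^ n with hA
      have hz' : (r * s'') ^ 2 ^ n = embG i A := by rw [hA, map_pow, map_mul, he]; rfl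
      have h1 : (r * s'') ^ 2 ^ n ≠ 1 := pow_ne_one_of_lt_orderOf (by positivity) (by
        rw [hord']; exact Nat.pow_lt_pow_right (by norm_num) (by omega))
      refine hgW (hM.mem_of_comm_embG hgM (i := i) (A := A) ?_ (fun e => h1 (by rw [hz', e, map_one])) ?_)
      · refine embG_injective i ?_
        rw [map_mul, ← hz', ← pow_add, map_one, ← two_mul, ← pow_succ', ← hord', pow_orderOf_eq_one]
      · rw [← hz']; exact hgc.symm
    · have hcm : Commute r s'' := by
        rw [he]; exact embG_comm (Ne.symm hj) _ _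
      have hn : n = 0 := by
        by_contra hn
        have h1 : (r * s'') ^ 2 = 1 := by
          rw [hcm.mul_pow, pow_two, pow_two, hs''2, root_mul_self h, one_mul]
        have h2 := orderOf_dvd_of_pow_eq_one h1
        rw [hord'] at h2
        have := Nat.le_of_dvd (by norm_num) h2
        have : 2 ^ 2 ≤ 2 ^ (n + 1) := Nat.pow_le_pow_right (by norm_num) (by omega)
        omega
      subst hn
      replace hgc : Commute (r * s'') g := by simpa [hs''] using hgc
      refine ⟨g, hgM, hgW, hgz, τ i, c', φ', hj, hc', hφ', h', he ▸ hgc.symm, he ▸ hs''z, ?_⟩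
      -- the new root is not a component
      obtain ⟨ys, hys'⟩ := hτ
      have hyz : Commute y z := Commute.mul_left hgz hcomm
      set hs₁ : ι → GL (Fin m) F := ys * (fun l => gs (τ.symm l)) * ys⁻¹ with hhs
      have hyzy : PtG hs₁ = z := by
        have : y * z * y⁻¹ = z := by rw [hyz.eq, mul_inv_cancel_right]
        rw [← this, hys', hz, _root_.mul_inv_rev, hhs, map_mul, map_mul, map_inv, ← mul_assoc (PtG ys * pmG τ * PtG gs),
          mul_assoc (PtG ys) (pmG τ) (PtG gs), pmG_mul_PtG]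
        group
      obtain ⟨e, he2⟩ := PtG_eq_smul hyzy (τ i)
      have hyr : y * r * y⁻¹ = embG (τ i) (hs₁ (τ i)) := by
        rw [hhs, hys', hr, root, embG_eq_PtG, embG_eq_PtG, _root_.mul_inv_rev,
          ← mul_assoc (PtG ys * pmG τ * PtG (Function.update 1 i (tv c φ))), mul_assoc (PtG ys) (pmG τ), pmG_mul_PtG]
        rw [show PtG ys * ((PtG fun l => Function.update (1 : ι → GL (Fin m) F) i (tv c φ) (τ.symm l)) * pmG τ) *
          (pmG τ)⁻¹ * (PtG ys)⁻¹ = PtG ys * (PtG fun l => Function.update (1 : ι → GL (Fin m) F) i (tv c φ) (τ.symm l)) *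
            (PtG ys)⁻¹ by group, ← map_inv, ← map_mul, ← map_mul]
        congr 1
        funext l
        rcases eq_or_ne l (τ i) with rfl | hl
        · simp [hgi]
        · have : τ.symm l ≠ i := fun e => hl (by rw [← e, Equiv.apply_symm_apply])
          simp [hl, this]
      have h2' : hs₁ (τ i) * hs₁ (τ i) = 1 := by
        refine embG_injective (τ i) ?_
        rw [map_mul, ← hyr, map_one, show y * r * y⁻¹ * (y * r * y⁻¹) = y * (r * r) * y⁻¹ by group,
          root_mul_self h, mul_one, mul_inv_cancel]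
      have h3' := congrArg Units.val (hsq (τ i))
      have h2'' := congrArg Units.val h2'
      rw [Units.val_mul, Units.val_one] at h2'' h3'
      rw [he2] at h3'
      have hs1 := smul_eq_one_of_sq h2'' h3'
      rw [hs1, one_smul] at he2
      refine ⟨fun hcomp => ?_, fun hone => ?_⟩
      rotate_left
      · rw [Units.ext he2.symm, hone] at hyr
        rw [map_one] at hyr
        have hr1 : r = 1 := by
          have := congrArg (fun u => y⁻¹ * u * y) hyr
          simpa [mul_assoc] using this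
        exact tv_ne_one h hc hφ (embG_injective i (by rw [← root, ← hr, hr1, map_one]))
      have heq : y * s * y⁻¹ = y * r * y⁻¹ := by
        rw [hyr, hys, he, root, hcomp, Units.ext he2]
      have hsr : s = r := mul_left_cancel (mul_right_cancel heq)
      rw [hs, hr, root, root] at hsr
      have h' := congrArg Units.val (embG_injective i hsr)
      rw [tv_coe hφ₂, tv_coe h, add_right_inj] at h'
      obtain ⟨j, hj⟩ := Function.ne_iff.mp hc
      refine hind 1 ?_
      rw [one_smul]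
      funext q
      have := congrFun (congrFun h' j) q
      simp only [vecMulVec_apply] at this
      exact (mul_left_cancel₀ hj this).symm

/-- An element commuting with a product of two roots of distinct factors lies in the wreath group. -/
theorem mem_of_comm_two_root {i j : ι} (hij : i ≠ j) {c φ c' φ' : Fin m → F} (h : φ ⬝ᵥ c = 0) (hc : c ≠ 0)
    (hφ : φ ≠ 0) (h' : φ' ⬝ᵥ c' = 0) {k : GL (ι → Fin m) F} (hk : k ∈ M)
    (hcomm : Commute k (root i c φ * root j c' φ')) : k ∈ wreath ι m F := by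
  have := hM.neZero
  by_contra hkW
  set gs : ι → GL (Fin m) F := Function.update (Function.update 1 i (tv c φ)) j (tv c' φ') with hgs
  have hz : root i c φ * root j c' φ' = PtG gs := by
    rw [root, root, embG_eq_PtG, embG_eq_PtG, ← map_mul]
    congr 1
    funext l
    simp only [hgs, Pi.mul_apply]
    rcases eq_or_ne l j with rfl | hl
    · simp [hij.symm]
    · simp [hl]
  rw [hz] at hcomm
  have htt : ∀ {d ψ : Fin m → F}, ψ ⬝ᵥ d = 0 → tv d ψ * tv d ψ = 1 := fun {d ψ} hd => by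
    rw [tv_mul_left hd hd, show d + d = 0 by funext q; exact CharTwo.add_self_eq_zero _, tv_zero_left]
  have hsq : ∀ l, gs l * gs l = 1 := fun l => by
    simp only [hgs]
    rcases eq_or_ne l j with rfl | hl
    · simp [htt h']
    rcases eq_or_ne l i with rfl | hl'
    · simp [hl, htt h]
    · simp [hl, hl']
  obtain ⟨g, hg, hgW, hgz, j', d, ψ, hj', hd, hψ, hdψ, hgc, hcz, hne, hone⟩ :=
    hM.exists_two_root_of_comm (i := i) hsq h hc hφ (by simp [hgs, hij]) hk hkW hcomm
  rcases eq_or_ne j' j with rfl | hj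
  · -- the product of the two is an involution of one factor
    have hzz : PtG gs * (root i c φ * root j' d ψ) = embG j' (tv c' φ' * tv d ψ) := by
      rw [← hz, map_mul]
      rw [show root i c φ * root j' c' φ' * (root i c φ * root j' d ψ) =
        root i c φ * (root j' c' φ' * root i c φ) * root j' d ψ by group,
        show root j' c' φ' * root i c φ = root i c φ * root j' c' φ' from (embG_comm hij _ _).symm,
        ← mul_assoc, root_mul_self h, one_mul]
      rfl
    have hct : tv c' φ' * tv d ψ = tv d ψ * tv c' φ' := by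
      refine embG_injective j' ?_
      rw [map_mul, map_mul]
      have e := hcz.eq
      rw [← hz] at e
      simp only [root] at e
      refine mul_left_cancel (a := embG i (tv c φ)) ?_
      rw [← mul_assoc, ← e, ← mul_assoc, ← mul_assoc, embG_comm hij]
    refine hgW (hM.mem_of_comm_embG hg (i := j') ?_ (fun e => ?_) (hzz ▸ hgz.mul_right hgc))
    · rw [show tv c' φ' * tv d ψ * (tv c' φ' * tv d ψ) = tv c' φ' * (tv d ψ * tv c' φ') * tv d ψ by group,
        ← hct, show tv c' φ' * (tv c' φ' * tv d ψ) * tv d ψ = (tv c' φ' * tv c' φ') * (tv d ψ * tv d ψ) by group,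
        htt h', htt hdψ, one_mul]
    · apply hne
      rw [hgs, Function.update_self]
      calc tv d ψ = (tv c' φ' * tv c' φ') * tv d ψ := by rw [htt h', one_mul]
        _ = tv c' φ' := by rw [mul_assoc, e, mul_one]
  · -- otherwise the component is trivial
    exact hone (by simp [hgs, hj, hj'])

/-- An element commuting with a product of three roots, two in distinct factors, lies in the wreath group. -/
theorem mem_of_comm_three {i a b : ι} {c φ c₁ φ₁ c₃ φ₃ : Fin m → F} (h : φ ⬝ᵥ c = 0) (hc : c ≠ 0) (hφ : φ ≠ 0)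
    (h₁ : φ₁ ⬝ᵥ c₁ = 0) (hc₁ : c₁ ≠ 0) (hφ₁ : φ₁ ≠ 0) (h₃ : φ₃ ⬝ᵥ c₃ = 0) (hc₃ : c₃ ≠ 0) (hφ₃ : φ₃ ≠ 0)
    (hab : a ≠ b) {k : GL (ι → Fin m) F} (hk : k ∈ M)
    (hcomm : Commute k (root i c φ * (root a c₁ φ₁ * root b c₃ φ₃)))
    (hz2 : root i c φ * (root a c₁ φ₁ * root b c₃ φ₃) * (root i c φ * (root a c₁ φ₁ * root b c₃ φ₃)) = 1) :
    k ∈ wreath ι m F := by
  have := hM.neZero
  by_contra hkW
  set gs : ι → GL (Fin m) F := Function.update (1 : ι → GL (Fin m) F) i (tv c φ) *
    (Function.update (1 : ι → GL (Fin m) F) a (tv c₁ φ₁) * Function.update (1 : ι → GL (Fin m) F) b (tv c₃ φ₃)) with hgs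
  have hz : root i c φ * (root a c₁ φ₁ * root b c₃ φ₃) = PtG gs := by
    rw [root, root, root, embG_eq_PtG, embG_eq_PtG, embG_eq_PtG, ← map_mul, ← map_mul]
  rw [hz] at hcomm hz2
  have htt : ∀ {d ψ : Fin m → F}, ψ ⬝ᵥ d = 0 → tv d ψ * tv d ψ = 1 := fun {d ψ} hd => by
    rw [tv_mul_left hd hd, show d + d = 0 by funext q; exact CharTwo.add_self_eq_zero _, tv_zero_left]
  have hsqne : ∀ l, l ≠ i → gs l * gs l = 1 := fun l hl => by
    simp only [hgs, Pi.mul_apply, Function.update_of_ne hl, Pi.one_apply, one_mul]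
    rcases eq_or_ne l a with rfl | hla
    · simp [hab, htt h₁]
    rcases eq_or_ne l b with rfl | hlb
    · simp [hla, htt h₃]
    · simp [hla, hlb]
  have hsq : ∀ l, gs l * gs l = 1 := fun l => by
    by_cases hl : l = i
    · subst hl
      refine embG_injective l ?_
      rw [map_one, ← hz2, embG_eq_PtG, ← map_mul]
      congr 1
      funext q
      rcases eq_or_ne q l with rfl | hq
      · simp
      · simp [hq, hsqne q hq]
    · exact hsqne l hl
  obtain ⟨l, d, ψ, hdψ, hd, hψ, hl⟩ : ∃ l d ψ, ψ ⬝ᵥ d = 0 ∧ d ≠ 0 ∧ ψ ≠ 0 ∧ gs l = tv d ψ := by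
    rcases eq_or_ne i a with rfl | hia
    · exact ⟨b, c₃, φ₃, h₃, hc₃, hφ₃, by simp [hgs, hab.symm]⟩
    · exact ⟨a, c₁, φ₁, h₁, hc₁, hφ₁, by simp [hgs, hia.symm, hab]⟩
  obtain ⟨g, hg, hgW, -, j, c', φ', hj, hc', hφ', h', hgc, -⟩ :=
    hM.exists_two_root_of_comm hsq hdψ hd hψ hl hk hkW hcomm
  exact hgW (hM.mem_of_comm_two_root (Ne.symm hj) hdψ hd hψ h' hg hgc)

/-- There is no rigid overgroup outside the wreath group. -/
theorem le_wreath_of_char_two [Nontrivial ι] : M ≤ wreath ι m F := by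
  have := hM.neZero
  intro k₀ hk₀
  by_contra hk₀W
  obtain ⟨i, j, hij⟩ := exists_pair_ne ι
  obtain ⟨φ, hφ⟩ : ∃ φ : Fin m → F, φ ≠ 0 := ⟨Pi.single 0 1, by simp⟩
  obtain ⟨c, c₂, hc, hc₂, hc0, hcc⟩ := exists_two_in_kerDot hM.three φ
  have hc₂0 : c₂ ≠ 0 := fun e => hcc 0 (by rw [zero_smul, e])
  have hcom : ∀ (u v : Fin m → F), Commute (root i u φ) (root j v φ) := fun u v => embG_comm hij _ _
  obtain ⟨d, hdk, hd, hd0⟩ : ∃ d, k₀ * (root i d φ * root j c φ) * k₀⁻¹ ∉ wreath ι m F ∧ φ ⬝ᵥ d = 0 ∧ d ≠ 0 := by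
    by_contra hcon
    push Not at hcon
    have h1 : k₀ * (root i c φ * root j c φ) * k₀⁻¹ ∈ wreath ι m F := by
      by_contra hh; exact hc0 (hcon c hh hc)
    have h2 : k₀ * (root i c₂ φ * root j c φ) * k₀⁻¹ ∈ wreath ι m F := by
      by_contra hh; exact hc₂0 (hcon c₂ hh hc₂)
    have h12 := (wreath ι m F).mul_mem h1 h2
    rw [show k₀ * (root i c φ * root j c φ) * k₀⁻¹ * (k₀ * (root i c₂ φ * root j c φ) * k₀⁻¹) =
      k₀ * ((root i c φ * root j c φ) * (root i c₂ φ * root j c φ)) * k₀⁻¹ by group,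
      Commute.mul_mul_mul_comm (hcom c₂ c).symm, root_mul_self hc, mul_one, root_add hc hc₂] at h12
    exact hk₀W (hM.mem_of_conj_root hk₀ (by rw [dotProduct_add, hc, hc₂, add_zero])
      (fun e => hcc (-1) (by rw [neg_one_smul]; exact neg_eq_of_add_eq_zero_right e)) hφ h12)
  set a := root i d φ * root j c φ with ha
  have haM : a ∈ M := M.mul_mem (hM.roots i d φ hd) (hM.roots j c φ hc)
  have ha2 : a * a = 1 := by
    rw [ha, Commute.mul_mul_mul_comm (hcom d c).symm, root_mul_self hd, root_mul_self hc, one_mul]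
  set r := root i c φ with hr
  have hrM : r ∈ M := hM.roots i c φ hc
  set a' := k₀ * a * k₀⁻¹ with ha'
  have ha'M : a' ∈ M := M.mul_mem (M.mul_mem hk₀ haM) (M.inv_mem hk₀)
  have ha'2 : a' * a' = 1 := by
    rw [ha', show k₀ * a * k₀⁻¹ * (k₀ * a * k₀⁻¹) = k₀ * (a * a) * k₀⁻¹ by group, ha2, mul_one, mul_inv_cancel]
  have hcl : Subgroup.closure ({r, a'} : Set (GL (ι → Fin m) F)) ≤ M := by
    rw [Subgroup.closure_le]; rintro x (rfl | rfl) <;> assumption
  rcases invol_pair (root_mul_self (i := i) hc) ha'2 with ⟨q, hq, hqe⟩ | ⟨g, hg, n, hord, hgc⟩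
  · have hqM := hcl hq
    have hyr : (k₀⁻¹ * q) * r * (k₀⁻¹ * q)⁻¹ = a := by
      rw [show k₀⁻¹ * q * r * (k₀⁻¹ * q)⁻¹ = k₀⁻¹ * (q * r * q⁻¹) * k₀ by group, hqe, ha']; group
    obtain ⟨τ, hτ⟩ := hM.mem_of_conj_root (M.mul_mem (M.inv_mem hk₀) hqM) hc hc0 hφ
      (by rw [← hr, hyr]; exact (wreath ι m F).mul_mem (root_mem_wreath i d φ) (root_mem_wreath j c φ))
    obtain ⟨e, ψ, he, hψ, heψ, hce⟩ := hτ.conj_root (i := i) hc hc0 hφ
    rw [← hr, hyr, ha, root, root, root, embG_eq_PtG, embG_eq_PtG, ← map_mul] at hce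
    rcases eq_or_ne (τ i) i with hti | hti
    · rw [hti] at hce
      obtain ⟨l, hl⟩ := exists_scalar_of_PtG_eq_embG hce (k := j) hij.symm
      simp [hij.symm] at hl
      exact tv_ne_smul_one hc hc0 hφ l hl
    · obtain ⟨l, hl⟩ := exists_scalar_of_PtG_eq_embG hce (k := i) (Ne.symm hti)
      simp [hij] at hl
      exact tv_ne_smul_one hd hd0 hφ l hl
  set a'' := g * a' * g⁻¹ with ha''
  have hgM := hcl hg
  have ha''M : a'' ∈ M := M.mul_mem (M.mul_mem hgM ha'M) (M.inv_mem hgM)
  have ha''2 : a'' * a'' = 1 := by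
    rw [ha'', show g * a' * g⁻¹ * (g * a' * g⁻¹) = g * (a' * a') * g⁻¹ by group, ha'2, mul_one, mul_inv_cancel]
  obtain ⟨X, hX2, hrX, haX, hXle⟩ := exists_two_group (root_mul_self (i := i) hc) ha''2
    (n := n + 1) (by rw [← hord, pow_orderOf_eq_one])
  have hXW := hM.le_of_root_mem (hXle.trans ((Subgroup.closure_le _).mpr (by
    rintro x (rfl | rfl)
    · exact hrM
    · exact ha''M))) hX2 hc hc0 hφ hrX
  have hgW : g ∉ wreath ι m F := fun hgW => hdk (by
    have := (wreath ι m F).mul_mem ((wreath ι m F).mul_mem ((wreath ι m F).inv_mem hgW) (hXW haX)) hgW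
    rwa [ha'', show g⁻¹ * (g * a' * g⁻¹) * g = a' by group] at this)
  have hord' : orderOf (r * a'') = 2 ^ (n + 1) := hord
  rcases Nat.eq_zero_or_pos n with hn | hn
  · subst hn
    replace hgc : Commute (r * a'') g := by simpa [ha''] using hgc
    have hcm : Commute r a'' := by
      have h1 : (r * a'') ^ 2 = 1 := by rw [show 2 = 2 ^ (0 + 1) from rfl, ← hord', pow_orderOf_eq_one]
      rw [pow_two] at h1
      show r * a'' = a'' * r
      have h2 := eq_inv_of_mul_eq_one_left h1
      rw [_root_.mul_inv_rev, inv_eq_of_mul_eq_one_right (root_mul_self (i := i) hc),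
        inv_eq_of_mul_eq_one_right ha''2] at h2
      exact h2
    set y := g * k₀ with hy
    have hya : a'' = y * a * y⁻¹ := by rw [hy, ha'', ha']; group
    have hyM : y ∈ M := M.mul_mem hgM hk₀
    have hcy : Commute (y⁻¹ * r * y) a := by
      show y⁻¹ * r * y * a = a * (y⁻¹ * r * y)
      have := congrArg (fun u => y⁻¹ * u * y) hcm.eq
      rw [hya] at this
      convert this using 1 <;> group
    have h1W := hM.mem_of_comm_two_root hij hd hd0 hφ hc (M.mul_mem (M.mul_mem (M.inv_mem hyM) hrM) hyM) hcy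
    obtain ⟨τ, hτ⟩ : y ∈ wreath ι m F := by
      have := hM.mem_of_conj_root (M.inv_mem hyM) hc hc0 hφ (by rwa [inv_inv])
      rwa [inv_mem_iff] at this
    obtain ⟨c₁, φ₁, hc₁, hφ₁, h₁, he₁⟩ := hτ.conj_root (i := i) hd hd0 hφ
    obtain ⟨c₃, φ₃, hc₃, hφ₃, h₃, he₃⟩ := hτ.conj_root (i := j) hc hc0 hφ
    have hae : a'' = root (τ i) c₁ φ₁ * root (τ j) c₃ φ₃ := by rw [hya, ha, ← he₁, ← he₃]; group
    have hne : τ i ≠ τ j := fun e => hij (τ.injective e)
    have hz2 : (r * a'') * (r * a'') = 1 := by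
      rw [← pow_two, show 2 = 2 ^ (0 + 1) from rfl, ← hord', pow_orderOf_eq_one]
    rw [hae] at hgc hz2
    exact hgW (hM.mem_of_comm_three hc hc0 hφ h₁ hc₁ hφ₁ h₃ hc₃ hφ₃ hne hgM hgc.symm hz2)
  · obtain ⟨τ, hτ⟩ := hXW haX
    obtain ⟨c₂', φ₂', hc₂', hφ₂', h₂', he⟩ := hτ.conj_root (i := i) hc hc0 hφ
    have hsq : (r * a'') ^ 2 = r * root (τ i) c₂' φ₂' := by
      rw [← he, inv_eq_of_mul_eq_one_right ha''2, pow_two, hr]; group
    have hz : (r * a'') ^ 2 ^ n = (r * root (τ i) c₂' φ₂') ^ 2 ^ (n - 1) := by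
      rw [← hsq, ← pow_mul, ← pow_succ', show n - 1 + 1 = n by omega]
    have hne1 : (r * a'') ^ 2 ^ n ≠ 1 := pow_ne_one_of_lt_orderOf (by positivity) (by
      rw [hord']; exact Nat.pow_lt_pow_right (by norm_num) (by omega))
    have hzz : (r * a'') ^ 2 ^ n * (r * a'') ^ 2 ^ n = 1 := by
      rw [← pow_add, ← two_mul, ← pow_succ', ← hord', pow_orderOf_eq_one]
    have hgc' : Commute g ((r * a'') ^ 2 ^ n) := hgc.symm
    rw [hz] at hne1 hzz hgc'
    rcases eq_or_ne (τ i) i with hti | hti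
    · rw [hti, hr, root, root, ← map_mul, ← map_pow] at hne1 hzz hgc'
      refine hgW (hM.mem_of_comm_embG hgM (i := i) (A := (tv c φ * tv c₂' φ₂') ^ 2 ^ (n - 1)) ?_ (fun e => hne1 ?_) hgc')
      · refine embG_injective i ?_; rwa [map_mul, map_one]
      · rw [e, map_one]
    · have hcm : Commute r (root (τ i) c₂' φ₂') := embG_comm (Ne.symm hti) _ _
      have hn1 : n - 1 = 0 := by
        by_contra hh
        apply hne1
        obtain ⟨l, hl⟩ : ∃ l, n - 1 = l + 1 := ⟨n - 2, by omega⟩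
        rw [hl, pow_succ', pow_mul, hcm.mul_pow, pow_two, pow_two, root_mul_self hc, root_mul_self h₂',
          one_mul, one_pow]
      rw [hn1, pow_zero, pow_one] at hgc'
      exact hgW (hM.mem_of_comm_two_root (Ne.symm hti) hc hc0 hφ h₂' hgM hgc')

end Rigid

end CfsgLib.TWreath
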