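import Cfsg.Agent.TensorWreath.Basic

/-!
# Elements carrying every root into the wreath group

An element conjugating all factor roots into the wreath group lies in the wreath group: it carries roots to
roots, hence blocks to blocks and pure tensors to pure tensors.
-/

set_option autoImplicit false
set_option linter.unusedSectionVars false

namespace CfsgLib.TWreath

open Matrix CfsgLib.MaxSub

variable {F : Type*} [Field F] {ι : Type} [Fintype ι] [DecidableEq ι] {m : ℕ}

/-! ### Blocks and pure tensors -/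

theorem prop_of_pten_mem_block {i : ι} {c : Fin m → F} (hc : c ≠ 0) {xs : ι → Fin m → F} (hxs : ∀ k, xs k ≠ 0)
    (h : pten xs ∈ block i c) : ∃ k : F, k • c = xs i := by
  by_contra hcon
  push Not at hcon
  obtain ⟨φ, h0, h1⟩ := exists_dot_eq_zero_one hcon
  rw [dotProduct_comm] at h0 h1
  have h2 := h φ h0
  rw [ctr_pten, h1, one_smul, pten_eq_zero] at h2
  obtain ⟨k, hk⟩ := h2
  rcases eq_or_ne k i with rfl | hki
  · rw [Function.update_self] at hk
    obtain ⟨j, -⟩ := Function.ne_iff.mp hc
    exact one_ne_zero (congrFun hk j)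
  · rw [Function.update_of_ne hki] at hk
    exact hxs k hk

theorem block_inf_eq_bot {i : ι} {c d : Fin m → F} (hd : d ≠ 0) (h : ∀ k : F, k • c ≠ d) :
    block i c ⊓ block i d = ⊥ := by
  rw [Submodule.eq_bot_iff]
  rintro v ⟨h1, h2⟩
  obtain ⟨φ, h0, h1'⟩ := exists_dot_eq_zero_one h
  rw [dotProduct_comm] at h0 h1'
  obtain ⟨w, rfl⟩ := exists_lift_of_mem_block hd h2
  funext a
  have := congrFun (h1 φ h0) a
  rw [ctr_lift, h1', one_mul] at this
  rw [lift_apply, this]; simp

theorem block_smul_eq {i : ι} {c : Fin m → F} {k : F} (hk : k ≠ 0) :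
    block i (k • c) = (block i c : Submodule F ((ι → Fin m) → F)) := by
  ext v
  simp only [mem_block, dotProduct_smul, smul_eq_mul, mul_eq_zero, hk, false_or]

theorem exists_pten_mem_two {i j : ι} (hij : i ≠ j) {c d : Fin m → F} (hc : c ≠ 0) (hd : d ≠ 0) :
    ∃ v, v ≠ 0 ∧ v ∈ block i c ∧ v ∈ block j d := by
  refine ⟨pten (Function.update (fun k => if k = j then d else c) i c), pten_ne_zero fun k => ?_,
    pten_mem_block (k := 1) (by simp), pten_mem_block (k := 1) (by simp [hij.symm])⟩
  rcases eq_or_ne k i with rfl | hk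
  · simpa using hc
  · rw [Function.update_of_ne hk]; split_ifs
    · exact hd
    · exact hc

theorem factor_eq_of_disjoint {i j : ι} {c d : Fin m → F} (hc : c ≠ 0) (hd : d ≠ 0)
    (h : block i c ⊓ block j d = ⊥) : i = j := by
  by_contra hij
  obtain ⟨v, hv, hvi, hvj⟩ := exists_pten_mem_two hij hc hd
  exact hv ((Submodule.eq_bot_iff _).mp h v ⟨hvi, hvj⟩)

theorem factor_eq_of_block_eq (hm : 2 ≤ m) {i j : ι} {c d : Fin m → F} (hc : c ≠ 0) (hd : d ≠ 0)
    (h : (block i c : Submodule F ((ι → Fin m) → F)) = block j d) : i = j := by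
  by_contra hij
  obtain ⟨f, hf⟩ := exists_indep hm d
  have hf0 : f ≠ 0 := fun e => hf 0 (by rw [zero_smul, e])
  set xs : ι → Fin m → F := fun k => if k = i then c else f
  have hxs : ∀ k, xs k ≠ 0 := fun k => by simp only [xs]; split_ifs <;> assumption
  have hv : pten xs ∈ block i c := pten_mem_block (k := 1) (by simp [xs])
  rw [h] at hv
  obtain ⟨k, hk⟩ := prop_of_pten_mem_block hd hxs hv
  exact hf k (by simpa [xs, Ne.symm hij] using hk)

/-- A vector in all blocks of a pure tensor outside the factor `l` is pure. -/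
theorem eq_pten_of_mem_blocks (l : ι) {ys : ι → Fin m → F} (hys : ∀ k, ys k ≠ 0) {b : ι → Fin m}
    (hb : ∀ k, ys k (b k) ≠ 0) {v : (ι → Fin m) → F} (hv : ∀ k, k ≠ l → v ∈ block k (ys k)) :
    v = pten (Function.update ys l fun p =>
      v (Function.update b l p) / ∏ k ∈ Finset.univ.erase l, ys k (b k)) := by
  classical
  have hgen : ∀ S : Finset ι, l ∉ S → ∀ a : ι → Fin m, v a * ∏ k ∈ S, ys k (b k) =
      v (fun k => if k ∈ S then b k else a k) * ∏ k ∈ S, ys k (a k) := by
    intro S
    induction S using Finset.induction with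
    | empty => intro _ a; simp
    | insert q S hq ih =>
      intro hl a
      rw [Finset.mem_insert, not_or] at hl
      obtain ⟨w, hw⟩ := exists_lift_of_mem_block (hys q) (hv q (Ne.symm hl.1))
      set a' : ι → Fin m := fun k => if k ∈ S then b k else a k
      have ha' : a' q = a q := if_neg hq
      have hupd : (fun k => if k ∈ insert q S then b k else a k) = Function.update a' q (b q) := by
        funext k
        rcases eq_or_ne k q with rfl | hk
        · simp
        · simp [a', hk]
      have h1 : v a' * ys q (b q) = v (Function.update a' q (b q)) * ys q (a q) := by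
        rw [hw, lift_apply, lift_apply, Function.update_self, ha']
        have : (fun j : {j // j ≠ q} => Function.update a' q (b q) j) = fun j : {j // j ≠ q} => a' j := by
          funext j; rw [Function.update_of_ne j.2]
        rw [this]; ring
      rw [hupd, Finset.prod_insert hq, Finset.prod_insert hq]
      linear_combination (ys q (b q)) * ih hl.2 a + (∏ k ∈ S, ys k (a k)) * h1
  have hP : ∏ k ∈ Finset.univ.erase l, ys k (b k) ≠ 0 := Finset.prod_ne_zero_iff.mpr fun k _ => hb k
  funext a
  have := hgen (Finset.univ.erase l) (Finset.notMem_erase _ _) a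
  have e : (fun k => if k ∈ Finset.univ.erase l then b k else a k) = Function.update b l (a l) := by
    funext k
    rcases eq_or_ne k l with rfl | hk
    · simp
    · simp [hk]
  rw [e] at this
  rw [pten_update, div_mul_eq_mul_div, eq_div_iff hP]
  exact this

/-- An invertible matrix fixing the blocks and the basic pure tensors in one factor is scalar. -/
theorem eq_one_of_fix_blocks [NeZero m] [Nonempty ι] {U : GL (ι → Fin m) F}
    (hblk : ∀ i (c : Fin m → F), c ≠ 0 →
      (block i c).map (Matrix.mulVecLin (U : Matrix (ι → Fin m) (ι → Fin m) F)) = block i c)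
    {o : ι → Fin m} (ho : (U : Matrix (ι → Fin m) (ι → Fin m) F) *ᵥ Pi.single o 1 = Pi.single o 1) : U = 1 := by
  classical
  obtain ⟨l⟩ := ‹Nonempty ι›
  set K := (U : Matrix (ι → Fin m) (ι → Fin m) F)
  have hline : ∀ xs : ι → Fin m → F, (∀ k, xs k ≠ 0) → ∃ c : F, K *ᵥ pten xs = c • pten xs := by
    intro xs hxs
    choose b hb using fun k => Function.ne_iff.mp (hxs k)
    have hall : ∀ k, K *ᵥ pten xs ∈ block k (xs k) := fun k => by
      rw [← hblk k (xs k) (hxs k)]
      exact ⟨_, pten_mem_block (k := 1) (one_smul _ _).symm, rfl⟩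
    have h1 := eq_pten_of_mem_blocks l hxs hb fun k _ => hall k
    set w : Fin m → F := fun p => (K *ᵥ pten xs) (Function.update b l p) / ∏ k ∈ Finset.univ.erase l, xs k (b k)
    by_cases hw : w = 0
    · refine ⟨0, ?_⟩
      rw [zero_smul, h1, hw, pten_eq_zero]; exact ⟨l, Function.update_self _ _ _⟩
    have hne : ∀ k, Function.update xs l w k ≠ 0 := fun k => by
      rcases eq_or_ne k l with rfl | hk
      · rwa [Function.update_self]
      · rw [Function.update_of_ne hk]; exact hxs k
    obtain ⟨c, hc⟩ := prop_of_pten_mem_block (hxs l) hne (h1 ▸ hall l)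
    rw [Function.update_self] at hc
    exact ⟨c, by rw [h1, ← hc, pten_update_smul, Function.update_eq_self]⟩
  have hdiag : ∀ a, ∃ c : F, K *ᵥ Pi.single a 1 = c • Pi.single a 1 := fun a => by
    rw [← pten_single]; exact hline _ fun k => by simp
  choose lam hlam using hdiag
  have hstep : ∀ a k q, lam (Function.update a k q) = lam a := by
    intro a k q
    rcases eq_or_ne q (a k) with rfl | hq
    · rw [Function.update_eq_self]
    set b := Function.update a k q with hb
    have hba : b ≠ a := fun h => hq (by simpa [hb] using congrFun h k)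
    set xs : ι → Fin m → F := Function.update (fun j => Pi.single (a j) (1 : F)) k
      (Pi.single (a k) 1 + Pi.single q 1)
    have e : pten xs = Pi.single a 1 + Pi.single b 1 := by
      rw [pten_update_add, Function.update_eq_self, pten_single, ← pten_single b]
      congr 2
      funext j
      rcases eq_or_ne j k with rfl | hj
      · simp [hb]
      · simp [hb, hj]
    obtain ⟨c, hc⟩ := hline xs fun j => by
      rcases eq_or_ne j k with rfl | hj
      · simp only [xs, Function.update_self]
        intro h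
        simpa [hq, Ne.symm hq] using congrFun h q
      · simp [xs, hj]
    rw [e, mulVec_add, hlam, hlam] at hc
    have ha := congrFun hc a
    have hb' := congrFun hc b
    simp [hba, hba.symm] at ha hb'
    rw [hb', ha]
  have hone : ∀ a, lam a = 1 := by
    intro a
    have : ∀ S : Finset ι, lam (fun k => if k ∈ S then a k else o k) = lam o := by
      intro S
      induction S using Finset.induction with
      | empty => simp
      | insert q S hq ih =>
        rw [← ih, ← hstep (fun k => if k ∈ S then a k else o k) q (a q)]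
        congr 1
        funext k
        rcases eq_or_ne k q with rfl | hk
        · simp
        · simp [hk]
    have h1 : lam o = 1 := by
      have := hlam o
      rw [ho] at this
      simpa using (congrFun this o).symm
    rw [← h1, ← this Finset.univ]
    simp
  refine Units.ext (Matrix.ext_of_mulVec_single fun a => ?_)
  rw [Units.val_one, one_mulVec, hlam, hone, one_smul]

/-! ### Elements carrying blocks to blocks -/

theorem map_block_comp {g h : GL (ι → Fin m) F} (U : Submodule F ((ι → Fin m) → F)) :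
    U.map (Matrix.mulVecLin ((g * h : GL (ι → Fin m) F) : Matrix (ι → Fin m) (ι → Fin m) F)) =
      (U.map (Matrix.mulVecLin (h : Matrix (ι → Fin m) (ι → Fin m) F))).map
        (Matrix.mulVecLin (g : Matrix (ι → Fin m) (ι → Fin m) F)) := by
  rw [Units.val_mul, Matrix.mulVecLin_mul, Submodule.map_comp]

/-- An element carrying blocks to blocks lies in the wreath group. -/
theorem mem_wreath_of_map_block [Nonempty ι] (hm : 2 ≤ m) {S : GL (ι → Fin m) F}
    (h : ∀ i (c : Fin m → F), c ≠ 0 → ∃ j d, d ≠ 0 ∧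
      (block i c).map (Matrix.mulVecLin (S : Matrix (ι → Fin m) (ι → Fin m) F)) = block j d) :
    S ∈ wreath ι m F := by
  classical
  have : NeZero m := ⟨by omega⟩
  have hinj : Function.Injective (Matrix.mulVecLin (S : Matrix (ι → Fin m) (ι → Fin m) F)) :=
    mulVec_injective_iff_isUnit.mpr S.isUnit
  set e0 : Fin m → F := Pi.single 0 1
  have he0 : e0 ≠ 0 := by simp [e0]
  choose τ d0 hd0 hτ using fun i => h i e0 he0
  have hfac : ∀ i (c : Fin m → F), c ≠ 0 → ∃ d, d ≠ 0 ∧
      (block i c).map (Matrix.mulVecLin (S : Matrix (ι → Fin m) (ι → Fin m) F)) = block (τ i) d := by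
    intro i c hc
    obtain ⟨j, d, hd, hj⟩ := h i c hc
    suffices j = τ i from ⟨d, hd, this ▸ hj⟩
    by_cases hp : ∃ k : F, k • e0 = c
    · obtain ⟨k, rfl⟩ := hp
      rw [block_smul_eq (fun e => hc (by rw [e, zero_smul]))] at hj
      exact factor_eq_of_block_eq hm hd (hd0 i) (hj.symm.trans (hτ i))
    · push Not at hp
      refine (factor_eq_of_disjoint (hd0 i) hd ?_).symm
      rw [← hτ i, ← hj, ← Submodule.map_inf _ hinj, block_inf_eq_bot hc hp, Submodule.map_bot]
  have hτi : Function.Injective τ := by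
    intro i i' hii
    by_contra hne
    by_cases hp : ∃ k : F, k • d0 i = d0 i'
    · obtain ⟨k, hk⟩ := hp
      have h' := hτ i'
      rw [← hii, ← hk, block_smul_eq (fun e => hd0 i' (by rw [← hk, e, zero_smul])), ← hτ i] at h'
      exact hne (factor_eq_of_block_eq hm he0 he0 (Submodule.map_injective_of_injective hinj h').symm)
    · push Not at hp
      have h' := block_inf_eq_bot (i := τ i) (hd0 i') hp
      rw [← hτ i, hii, ← hτ i', ← Submodule.map_inf _ hinj, ← Submodule.map_bot
        (Matrix.mulVecLin (S : Matrix (ι → Fin m) (ι → Fin m) F))] at h'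
      exact hne (factor_eq_of_disjoint he0 he0 (Submodule.map_injective_of_injective hinj h'))
  set π : Equiv.Perm ι := Equiv.ofBijective τ hτi.bijective_of_finite with hπ
  set S' : GL (ι → Fin m) F := (pmG π)⁻¹ * S with hS'
  have hblk : ∀ i (c : Fin m → F), c ≠ 0 → ∃ d, d ≠ 0 ∧
      (block i c).map (Matrix.mulVecLin (S' : Matrix (ι → Fin m) (ι → Fin m) F)) = block i d := by
    intro i c hc
    obtain ⟨d, hd, hj⟩ := hfac i c hc
    have hp : HasPerm ((pmG π)⁻¹ : GL (ι → Fin m) F) π⁻¹ := HasPerm.inv ⟨1, by simp⟩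
    obtain ⟨d', hd', hj'⟩ := hp.map_block (τ i) hd
    refine ⟨d', hd', ?_⟩
    rw [hS', map_block_comp, hj, hj']
    congr 1
    exact Equiv.ofBijective_symm_apply_apply τ _ i
  set K := (S' : Matrix (ι → Fin m) (ι → Fin m) F)
  set o : ι → Fin m := fun _ => 0
  have hK : Function.Injective (Matrix.mulVecLin K) := mulVec_injective_iff_isUnit.mpr S'.isUnit
  -- the image of the basic pure tensor
  choose d hd hdk using fun k => hblk k e0 he0
  have hop : pten (fun _ : ι => e0) = Pi.single o 1 := pten_single o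
  have hmem : ∀ k, K *ᵥ pten (fun _ : ι => e0) ∈ block k (d k) := fun k => by
    rw [← hdk k]; exact ⟨_, pten_mem_block (k := 1) (one_smul _ _).symm, rfl⟩
  obtain ⟨l⟩ := ‹Nonempty ι›
  choose b hb using fun k => Function.ne_iff.mp (hd k)
  have h1 := eq_pten_of_mem_blocks l hd hb fun k _ => hmem k
  set w0 : Fin m → F := fun p =>
    (K *ᵥ pten (fun _ : ι => e0)) (Function.update b l p) / ∏ k ∈ Finset.univ.erase l, d k (b k)
  set ys := Function.update d l w0 with hys'
  have hys : ∀ k, ys k ≠ 0 := by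
    intro k hk
    have : pten (fun _ : ι => e0) = 0 := hK (by
      rw [map_zero, mulVecLin_apply, h1, pten_eq_zero]; exact ⟨k, hk⟩)
    exact pten_ne_zero (fun _ => he0) this
  have hblkys : ∀ k, block k (ys k) = (block k (d k) : Submodule F ((ι → Fin m) → F)) := by
    intro k
    rcases eq_or_ne k l with rfl | hk
    · obtain ⟨c, hc⟩ := prop_of_pten_mem_block (hd k) hys (h1 ▸ hmem k)
      rw [← hc, block_smul_eq (fun e => hys k (by rw [← hc, e, zero_smul]))]
    · rw [hys', Function.update_of_ne hk]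
  choose b' hb' using fun k => Function.ne_iff.mp (hys k)
  -- the factor maps
  let f : ι → (Fin m → F) →ₗ[F] (Fin m → F) := fun k =>
    { toFun := fun z p => (K *ᵥ pten (Function.update (fun _ : ι => e0) k z)) (Function.update b' k p) /
        ∏ j ∈ Finset.univ.erase k, ys j (b' j)
      map_add' := fun z z' => by funext p; rw [pten_update_add, mulVec_add]; simp [add_div]
      map_smul' := fun c z => by funext p; rw [pten_update_smul, mulVec_smul]; simp [mul_div_assoc] }
  have hf : ∀ k z, K *ᵥ pten (Function.update (fun _ : ι => e0) k z) = pten (Function.update ys k (f k z)) :=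
    fun k z => eq_pten_of_mem_blocks k hys hb' fun j hj => by
      rw [hblkys j, ← hdk j]
      exact ⟨_, pten_mem_block (k := 1) (by rw [Function.update_of_ne hj, one_smul]), rfl⟩
  have hfi : ∀ k, Function.Injective (f k) := by
    intro k
    rw [← LinearMap.ker_eq_bot, LinearMap.ker_eq_bot']
    intro z hz
    by_contra hz0
    have h2 : pten (Function.update (fun _ : ι => e0) k z) = 0 := hK (by
      rw [map_zero, mulVecLin_apply, hf, hz, pten_eq_zero]; exact ⟨k, Function.update_self _ _ _⟩)
    refine pten_ne_zero (fun j => ?_) h2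
    rcases eq_or_ne j k with rfl | hj
    · simpa using hz0
    · simpa [hj] using he0
  have hA : ∀ k, IsUnit (LinearMap.toMatrix' (f k)) := fun k => by
    rw [← mulVec_injective_iff_isUnit]
    intro x y hxy
    exact hfi k (by simpa [LinearMap.toMatrix'_mulVec] using hxy)
  set gs : ι → GL (Fin m) F := fun k => (hA k).unit
  have hgs : ∀ k z, (gs k : Matrix (Fin m) (Fin m) F) *ᵥ z = f k z := fun k z => by
    rw [IsUnit.unit_spec, LinearMap.toMatrix'_mulVec]
  have hfe : ∀ k, f k e0 = ys k := fun k => by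
    funext p
    show (K *ᵥ pten (Function.update (fun _ : ι => e0) k e0)) (Function.update b' k p) /
      ∏ j ∈ Finset.univ.erase k, ys j (b' j) = ys k p
    have hc : Function.update (fun _ : ι => e0) k e0 = fun _ : ι => e0 := Function.update_eq_self k _
    rw [hc, h1, pten, ← Finset.mul_prod_erase _ _ (Finset.mem_univ k), Function.update_self,
      Finset.prod_congr rfl (fun j hj => by rw [Function.update_of_ne (Finset.ne_of_mem_erase hj)]),
      mul_div_assoc, div_self (Finset.prod_ne_zero_iff.mpr fun j _ => hb' j), mul_one]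
  set G : GL (ι → Fin m) F := PtG gs
  have hG : ∀ k z, (G : Matrix (ι → Fin m) (ι → Fin m) F) *ᵥ pten (Function.update (fun _ : ι => e0) k z) =
      K *ᵥ pten (Function.update (fun _ : ι => e0) k z) := fun k z => by
    rw [hf, PtG_val, Pt_mulVec_pten]
    congr 1
    funext j
    rcases eq_or_ne j k with rfl | hj
    · simp [hgs]
    · simp [hj, hgs, hfe]
  have hfix : ∀ k z, ((G⁻¹ * S' : GL (ι → Fin m) F) : Matrix (ι → Fin m) (ι → Fin m) F) *ᵥ
      pten (Function.update (fun _ : ι => e0) k z) = pten (Function.update (fun _ : ι => e0) k z) := fun k z => by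
    rw [Units.val_mul, ← mulVec_mulVec, ← hG k z, mulVec_mulVec, Units.inv_mul, one_mulVec]
  have hU : G⁻¹ * S' = 1 := by
    refine eq_one_of_fix_blocks (fun i c hc => ?_) (o := o) ?_
    · obtain ⟨d₁, hd₁, hi⟩ := hblk i c hc
      have hp : HasPerm G⁻¹ (1 : Equiv.Perm ι)⁻¹ := HasPerm.inv ⟨gs, by simp [G]⟩
      obtain ⟨d₂, hd₂, hi'⟩ := hp.map_block i hd₁
      simp only [inv_one, Equiv.Perm.coe_one, id_eq] at hi'
      have heq : (block i c).map (Matrix.mulVecLin
          ((G⁻¹ * S' : GL (ι → Fin m) F) : Matrix (ι → Fin m) (ι → Fin m) F)) = block i d₂ := by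
        rw [map_block_comp, hi, hi']
      have hc' : pten (Function.update (fun _ : ι => e0) i c) ∈ block i d₂ := by
        rw [← heq]
        exact ⟨_, pten_mem_block (k := 1) (by rw [Function.update_self, one_smul]), hfix i c⟩
      obtain ⟨k, hk⟩ := prop_of_pten_mem_block hd₂ (fun j => by
        rcases eq_or_ne j i with rfl | hj
        · simpa using hc
        · simpa [hj] using he0) hc'
      rw [Function.update_self] at hk
      rw [heq, ← hk, block_smul_eq (fun e => hc (by rw [← hk, e, zero_smul]))]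
    · rw [← hop]
      have := hfix l e0
      rwa [Function.update_eq_self] at this
  have hS : S = pmG π * G := by
    rw [inv_mul_eq_one] at hU
    rw [hU, hS', mul_inv_cancel_left]
  rw [hS]
  exact (wreath ι m F).mul_mem (pmG_mem π) (PtG_mem gs)

/-! ### Elements carrying roots into the wreath group -/

variable [Finite F]

/-- An element conjugating all roots into the wreath group carries roots to roots. -/
theorem exists_root_of_conj (hm : 3 ≤ m) {S : GL (ι → Fin m) F}
    (h : ∀ i (c φ : Fin m → F), φ ⬝ᵥ c = 0 → S * root i c φ * S⁻¹ ∈ wreath ι m F) {i : ι} {c φ : Fin m → F}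
    (h0 : φ ⬝ᵥ c = 0) (hc : c ≠ 0) (hφ : φ ≠ 0) :
    ∃ j c' φ', c' ≠ 0 ∧ φ' ≠ 0 ∧ φ' ⬝ᵥ c' = 0 ∧ S * root i c φ * S⁻¹ = root j c' φ' := by
  obtain ⟨p, hp'⟩ := CharP.exists F
  have : Fact p.Prime := ⟨CharP.char_is_prime F p⟩
  have key : ∀ c φ : Fin m → F, φ ⬝ᵥ c = 0 → c ≠ 0 → φ ≠ 0 →
      (∃ j c' φ', c' ≠ 0 ∧ φ' ≠ 0 ∧ φ' ⬝ᵥ c' = 0 ∧ S * root i c φ * S⁻¹ = root j c' φ') ∨
        ∃ a b : ι, a ≠ b ∧ HasPerm (S * root i c φ * S⁻¹) (Equiv.swap a b) := by
    intro c φ h0 hc hφ
    obtain ⟨σ, hσ⟩ := h i c φ h0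
    rcases classify (p := p) hm hσ (by
      have := root_quadratic (i := i) h0
      rw [Units.val_mul, Units.val_mul]
      rw [show (S : Matrix (ι → Fin m) (ι → Fin m) F) * root i c φ * (S⁻¹ : GL (ι → Fin m) F) - 1 =
        (S : Matrix (ι → Fin m) (ι → Fin m) F) * ((root i c φ : Matrix (ι → Fin m) (ι → Fin m) F) - 1) *
          (S⁻¹ : GL (ι → Fin m) F) by rw [mul_sub, sub_mul, mul_one, Units.mul_inv]]
      simp only [mul_assoc]
      rw [Units.inv_mul_cancel_left, ← mul_assoc ((root i c φ : Matrix (ι → Fin m) (ι → Fin m) F) - 1), this,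
        zero_mul, mul_zero])
      (by rw [rank_conj_sub_one', root_rank h0 hc hφ]) with hr | ⟨-, a, b, hab, hp, -⟩
    · exact Or.inl hr
    · exact Or.inr ⟨a, b, hab, hp⟩
  have hsign : ∀ c φ : Fin m → F, φ ⬝ᵥ c = 0 → c ≠ 0 → φ ≠ 0 →
      ∃ σ : Equiv.Perm ι, HasPerm (S * root i c φ * S⁻¹) σ := fun c φ h0 _ _ => h i c φ h0
  rcases key c φ h0 hc hφ with hr | ⟨a, b, hab, hp⟩
  · exact hr
  exfalso
  obtain ⟨d, hd, hcd⟩ : ∃ d, φ ⬝ᵥ d = 0 ∧ ∀ k : F, k • c ≠ d := by
    obtain ⟨x, y, hx, hy, hx0, hxy⟩ := exists_two_in_kerDot hm φ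
    by_cases hcx : ∃ k : F, k • c = x
    · obtain ⟨k, hk⟩ := hcx
      refine ⟨y, hy, fun l hl => hxy (l / k) ?_⟩
      have hk0 : k ≠ 0 := fun e => hx0 (by rw [← hk, e, zero_smul])
      rw [← hk, smul_smul, div_mul_cancel₀ _ hk0, hl]
    · exact ⟨x, hx, fun l hl => hcx ⟨l, hl⟩⟩
  obtain ⟨g, hg0, hg1⟩ := exists_dot_eq_zero_one hcd
  rw [dotProduct_comm] at hg0 hg1
  obtain ⟨σ₁, h₁⟩ := h i c g hg0
  obtain ⟨σ₂, h₂⟩ := h i d φ hd
  have hcomm : root i c g * root i d φ * (root i c g)⁻¹ * (root i d φ)⁻¹ = root i c φ := by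
    rw [root, root, root, ← map_inv, ← map_inv, ← map_mul, ← map_mul, ← map_mul]
    congr 1
    rw [tv_inv, tv_inv]
    apply Units.ext
    rw [Units.val_mul, Units.val_mul, Units.val_mul, tv_coe hg0, tv_coe hd,
      tv_coe (by rw [dotProduct_neg, hg0, neg_zero]), tv_coe (by rw [dotProduct_neg, hd, neg_zero]), tv_coe h0]
    simp only [neg_vecMulVec, add_mul, mul_add, one_mul, mul_one, mul_neg, neg_mul, mul_assoc, neg_zero,
      vecMulVec_mul_vecMulVec, smul_vecMulVec, hg0, hd, h0, hg1, one_smul, zero_smul, vecMulVec_zero,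
      mul_zero, zero_mul, zero_vecMulVec, Matrix.zero_mul, Matrix.mul_zero, add_zero, neg_zero]
    abel
  have h3 := ((h₁.mul h₂).mul h₁.inv).mul h₂.inv
  rw [show S * root i c g * S⁻¹ * (S * root i d φ * S⁻¹) * (S * root i c g * S⁻¹)⁻¹ * (S * root i d φ * S⁻¹)⁻¹ =
    S * (root i c g * root i d φ * (root i c g)⁻¹ * (root i d φ)⁻¹) * S⁻¹ by group, hcomm] at h3
  have := congrArg Equiv.Perm.sign (hp.unique (by omega) h3)
  rw [Equiv.Perm.sign_swap hab] at this
  simp only [map_mul, map_inv] at this
  have h4 : Equiv.Perm.sign σ₁ * Equiv.Perm.sign σ₂ * (Equiv.Perm.sign σ₁)⁻¹ * (Equiv.Perm.sign σ₂)⁻¹ = 1 := by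
    rw [mul_right_comm (Equiv.Perm.sign σ₁), mul_inv_cancel, one_mul, mul_inv_cancel]
  rw [h4] at this
  exact absurd this (by decide)

/-- An element conjugating all roots into the wreath group lies in it. -/
theorem mem_wreath_of_conj_roots [Nonempty ι] (hm : 3 ≤ m) {S : GL (ι → Fin m) F}
    (h : ∀ i (c φ : Fin m → F), φ ⬝ᵥ c = 0 → S * root i c φ * S⁻¹ ∈ wreath ι m F) : S ∈ wreath ι m F := by
  refine mem_wreath_of_map_block (by omega) fun i c hc => ?_
  obtain ⟨φ, hφ, h0⟩ := exists_ortho (by omega) c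
  obtain ⟨j, c', φ', hc', hφ', h', he⟩ := exists_root_of_conj hm h h0 hc hφ
  refine ⟨j, c', hc', ?_⟩
  rw [block_eq_range hφ, block_eq_range hφ', ← root_sub_one h0, ← root_sub_one h', ← he,
    ← LinearMap.range_comp, ← Matrix.mulVecLin_mul]
  have e : ((S * root i c φ * S⁻¹ : GL (ι → Fin m) F) : Matrix (ι → Fin m) (ι → Fin m) F) - 1 =
      (S : Matrix (ι → Fin m) (ι → Fin m) F) * ((root i c φ : Matrix (ι → Fin m) (ι → Fin m) F) - 1) *
        ((S⁻¹ : GL (ι → Fin m) F) : Matrix (ι → Fin m) (ι → Fin m) F) := by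
    rw [Units.val_mul, Units.val_mul, mul_sub, sub_mul, mul_one, Units.mul_inv]
  rw [e, Matrix.mulVecLin_mul (_ * _), LinearMap.range_comp_of_range_eq_top]
  exact LinearMap.range_eq_top.mpr (mulVec_surjective_iff_isUnit.mpr (S⁻¹).isUnit)

end CfsgLib.TWreath
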