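import Cfsg.Agent.TensorWreath.Split
import Cfsg.Agent.TensorWreath.Preserve
import Cfsg.Agent.TensorWreath.Two
import Cfsg.Agent.TensorWreath.Odd
import Cfsg.Agent.TensorMax.Basic

/-!
# Elementary tensors from a fused block

An overgroup of the factor roots outside the wreath group contains all elementary tensor transvections on
some set of at least two factors.
-/

set_option autoImplicit false
set_option linter.unusedSectionVars false

namespace CfsgLib.TWreath

open Matrix CfsgLib.MaxSub Cfsg.Geo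

variable {F : Type*} [Field F] {ι : Type} [Fintype ι] [DecidableEq ι] {m : ℕ}

/-! ### One factor -/

theorem mem_wreath_of_subsingleton [Nonempty ι] [Subsingleton ι] [NeZero m] (g : GL (ι → Fin m) F) :
    g ∈ wreath ι m F := by
  obtain ⟨l⟩ := ‹Nonempty ι›
  have hA : ∀ Y : Matrix (ι → Fin m) (ι → Fin m) F,
      Y = emb l (Matrix.of fun p q => Y (fun _ => p) fun _ => q) := by
    intro Y
    ext a b
    rw [emb, Pt_update_eq, of_apply, Finset.prod_eq_one, mul_one]
    · congr 1 <;> (funext k; rw [Subsingleton.elim k l])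
    · intro k hk
      exact absurd (Subsingleton.elim k l) (Finset.ne_of_mem_erase hk)
  let A : Matrix (Fin m) (Fin m) F := Matrix.of fun p q => (g : Matrix (ι → Fin m) (ι → Fin m) F) (fun _ => p) fun _ => q
  let B : Matrix (Fin m) (Fin m) F :=
    Matrix.of fun p q => ((g⁻¹ : GL (ι → Fin m) F) : Matrix (ι → Fin m) (ι → Fin m) F) (fun _ => p) fun _ => q
  have hAB : A * B = 1 := emb_injective l (by rw [emb_mul, ← hA, ← hA, Units.mul_inv, emb_one])
  have hBA : B * A = 1 := emb_injective l (by rw [emb_mul, ← hA, ← hA, Units.inv_mul, emb_one])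
  have : g = embG l ⟨A, B, hAB, hBA⟩ := Units.ext (hA _)
  rw [this]
  exact embG_mem _ _

/-! ### Small lemmas -/

/-- The roots generate the special linear groups of the factors. -/
theorem embG_mem_of_roots {M : Subgroup (GL (ι → Fin m) F)}
    (hr : ∀ i (c φ : Fin m → F), φ ⬝ᵥ c = 0 → root i c φ ∈ M) (k : ι) {S : GL (Fin m) F}
    (hS : S ∈ specialLinear (Fin m) F) : embG k S ∈ M := by
  refine specialLinear_le_of_forall_tv (M := M.comap (embG k)) (fun v a => ?_) hS
  by_cases h : a ⬝ᵥ v = 0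
  · exact hr k v a h
  · rw [Subgroup.mem_comap, show tv v a = 1 by rw [tv, dif_neg h], map_one]
    exact M.one_mem

theorem map_block_emb [NeZero m] (i : ι) (A : Matrix (Fin m) (Fin m) F) (x : Fin m → F) :
    (block i x).map (Matrix.mulVecLin (emb i A)) = block i (A *ᵥ x) := by
  have hψ : (Pi.single 0 1 : Fin m → F) ≠ 0 := by simp
  rw [block_eq_range hψ, block_eq_range hψ, ← LinearMap.range_comp, ← Matrix.mulVecLin_mul, ← emb_mul,
    mul_vecMulVec]

theorem map_block_pm [NeZero m] (σ : Equiv.Perm ι) (i : ι) (x : Fin m → F) :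
    (block i x).map (Matrix.mulVecLin (pm σ)) = block (σ i) x := by
  have hψ : (Pi.single 0 1 : Fin m → F) ≠ 0 := by simp
  rw [block_eq_range hψ, block_eq_range hψ, ← LinearMap.range_comp, ← Matrix.mulVecLin_mul, pm_mul_emb,
    Matrix.mulVecLin_mul, LinearMap.range_comp_of_range_eq_top]
  exact LinearMap.range_eq_top.mpr (mulVec_surjective_iff_isUnit.mpr (pmG σ).isUnit)

theorem el_map_pm {M M' : Subgroup (GL (ι → Fin m) F)} {σ : Equiv.Perm ι}
    (h : ∀ x ∈ M', pmG σ * x * (pmG σ)⁻¹ ∈ M) {T : Finset ι} (hT : El M' T) : El M (T.map σ.toEmbedding) := by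
  intro a b hne l
  obtain ⟨u, hu, hue⟩ := hT (fun k => a (σ k)) (fun k => b (σ k))
    (fun k hk => hne (σ k) (Finset.mem_map_of_mem _ hk)) l
  refine ⟨_, h u hu, ?_⟩
  have key : pm σ * eT T (fun k => a (σ k)) (fun k => b (σ k)) =
      (eT (T.map σ.toEmbedding) a b : Matrix (ι → Fin m) (ι → Fin m) F) * pm σ := by
    rw [eT, pm_mul_Pt, eT]
    congr 2
    funext k
    simp only [Finset.mem_map_equiv, Equiv.apply_symm_apply]
  rw [Units.val_mul, Units.val_mul, hue, pmG_val, mul_add, add_mul, mul_one, ← pmG_val, Units.mul_inv,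
    pmG_val, mul_smul_comm, key, smul_mul_assoc, mul_assoc, ← pmG_val, Units.mul_inv, mul_one]

theorem blk_mul_emb_single (i : ι) (Y : Matrix (ι → Fin m) (ι → Fin m) F) (p q a b : Fin m) :
    blk i (Y * emb i (Matrix.single p q 1)) a b = if b = q then blk i Y a p else 0 := by
  rw [blk_mul]
  simp only [blk_emb, Matrix.single_apply, mul_smul_comm, mul_one, ite_smul, one_smul, zero_smul]
  by_cases h : b = q
  · subst h; simp
  · simp [h, Ne.symm h]

theorem blk_emb_single_mul (i : ι) (Y : Matrix (ι → Fin m) (ι → Fin m) F) (p q a b : Fin m) :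
    blk i (emb i (Matrix.single p q 1) * Y) a b = if a = p then blk i Y q b else 0 := by
  rw [blk_mul]
  simp only [blk_emb, Matrix.single_apply, smul_mul_assoc, one_mul, ite_smul, one_smul, zero_smul]
  by_cases h : a = p
  · subst h; simp
  · simp [h, Ne.symm h]

theorem blk_emb_mul_oth (i : ι) (A : Matrix (Fin m) (Fin m) F) (X : Matrix (Rest i m) (Rest i m) F)
    (a b : Fin m) : blk i (emb i A * oth i X) a b = A a b • X := by
  rw [blk_mul]
  simp [blk_emb, blk_oth]

theorem othG_comm_embG (i : ι) (g : GL (Rest i m) F) (h : GL (Fin m) F) :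
    othG i g * embG i h = embG i h * othG i g :=
  Units.ext (oth_comm_emb i _ _)

theorem othG_root (i : ι) (k : {j // j ≠ i}) (c φ : Fin m → F) : othG i (root k c φ) = root (k : ι) c φ :=
  Units.ext (by rw [othG_val, root, root, embG_val, embG_val, emb_eq_oth])

theorem vecMulVec_single_single (a b : Fin m) (l : F) :
    vecMulVec (Pi.single a l : Fin m → F) (Pi.single b 1) = l • Matrix.single a b (1 : F) := by
  ext p q
  simp only [vecMulVec_apply, Matrix.smul_apply, Matrix.single_apply, Pi.single_apply, smul_eq_mul]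
  by_cases h1 : p = a
  · by_cases h2 : q = b
    · subst h1 h2; simp
    · simp [h1, h2, Ne.symm h2]
  · simp [h1, Ne.symm h1]

/-! ### The single row -/

/-- The matrices `X` with all `1 + l • (E 0 s ⊗ X)` in `M`. -/
def rowSpace [NeZero m] (M : Subgroup (GL (ι → Fin m) F)) (i : ι) :
    Submodule F (Matrix (Rest i m) (Rest i m) F) where
  carrier := {X | ∀ s : Fin m, s ≠ 0 → ∀ l : F, ∃ g ∈ M,
    (g : Matrix (ι → Fin m) (ι → Fin m) F) = 1 + l • (emb i (Matrix.single 0 s 1) * oth i X)}
  add_mem' {X X'} hX hX' s hs l := by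
    obtain ⟨g, hg, hge⟩ := hX s hs l
    obtain ⟨g', hg', hge'⟩ := hX' s hs l
    refine ⟨g * g', M.mul_mem hg hg', ?_⟩
    have h0 : emb i (Matrix.single 0 s 1) * oth i X * (emb i (Matrix.single 0 s 1) * oth i X') = 0 := by
      rw [mul_assoc, ← mul_assoc (oth i X), oth_comm_emb, ← mul_assoc, ← mul_assoc, ← emb_mul,
        single_mul_single_of_ne _ _ _ _ hs, emb_zero, zero_mul, zero_mul]
    rw [Units.val_mul, hge, hge', oth_add]
    simp only [mul_add, smul_add, mul_one, add_mul, one_mul, smul_mul_smul_comm, h0, smul_zero, add_zero]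
    abel
  zero_mem' s hs l := ⟨1, M.one_mem, by
    have : oth i (0 : Matrix (Rest i m) (Rest i m) F) = 0 := by
      have := oth_smul i (0 : F) (0 : Matrix (Rest i m) (Rest i m) F)
      simpa using this
    simp [this]⟩
  smul_mem' c X hX s hs l := by
    obtain ⟨g, hg, hge⟩ := hX s hs (l * c)
    exact ⟨g, hg, by rw [hge, oth_smul, mul_smul_comm, smul_smul]⟩

variable [NeZero m] {M : Subgroup (GL (ι → Fin m) F)} {i : ι}

theorem mem_rowSpace_of_one (hr : ∀ i (c φ : Fin m → F), φ ⬝ᵥ c = 0 → root i c φ ∈ M)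
    {X : Matrix (Rest i m) (Rest i m) F} {s₀ : Fin m} (hs₀ : s₀ ≠ 0)
    (h : ∀ l : F, ∃ g ∈ M, (g : Matrix (ι → Fin m) (ι → Fin m) F) =
      1 + l • (emb i (Matrix.single 0 s₀ 1) * oth i X)) : X ∈ rowSpace M i := by
  intro s hs l
  rcases eq_or_ne s s₀ with rfl | hne
  · exact h l
  obtain ⟨g, hg, hge⟩ := h l
  obtain ⟨e, he, hee⟩ := exists_root_single hr i hne.symm (1 : F)
  rw [one_smul] at hee
  obtain ⟨v, hv, hve⟩ := comm_left hg he hge hee
    (by
      rw [smul_mul_smul_comm, mul_assoc, ← mul_assoc (oth i X), oth_comm_emb, ← mul_assoc, ← mul_assoc, ← emb_mul,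
        single_mul_single_of_ne _ _ _ _ hs₀, emb_zero, zero_mul, zero_mul, smul_zero])
    (by rw [← emb_mul, single_mul_single_of_ne _ _ _ _ hne, emb_zero])
    (by rw [mul_smul_comm, ← mul_assoc, ← emb_mul, single_mul_single_of_ne _ _ _ _ hs, emb_zero, zero_mul, smul_zero])
  refine ⟨v, hv, ?_⟩
  rw [hve, smul_mul_assoc, mul_assoc, oth_comm_emb, ← mul_assoc, ← emb_mul, single_mul_single_same, mul_one]

theorem one_mem_rowSpace (hr : ∀ i (c φ : Fin m → F), φ ⬝ᵥ c = 0 → root i c φ ∈ M) :
    (1 : Matrix (Rest i m) (Rest i m) F) ∈ rowSpace M i := by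
  intro s hs l
  rw [oth_one, mul_one]
  exact exists_root_single hr i hs.symm l

theorem dInv_rowSpace (hr : ∀ i (c φ : Fin m → F), φ ⬝ᵥ c = 0 → root i c φ ∈ M) :
    DInv (rowSpace M i) := by
  intro k c d hcd X hX
  set E : Matrix (Rest i m) (Rest i m) F := emb k (Matrix.single c d 1) with hE
  suffices h : (1 + E) * X * (1 - E) ∈ rowSpace M i by
    have h' := (rowSpace M i).sub_mem h hX
    convert h' using 1
    simp only [mul_sub, mul_one, add_mul, one_mul]
    abel
  intro s hs l
  obtain ⟨g, hg, hge⟩ := hX s hs l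
  obtain ⟨e, he, hee⟩ := exists_root_single hr (k : ι) hcd (1 : F)
  rw [one_smul, emb_eq_oth i k, ← hE] at hee
  have hsq : E * E = 0 := by rw [hE, ← emb_mul, single_mul_single_of_ne _ _ _ _ hcd.symm, emb_zero]
  have hoth1 : (1 + oth i E) = oth i (1 + E) := by rw [oth_add, oth_one]
  have hei : ((e⁻¹ : GL (ι → Fin m) F) : Matrix (ι → Fin m) (ι → Fin m) F) = oth i (1 - E) :=
    Units.inv_eq_of_mul_eq_one_right (by
      rw [hee, hoth1, ← oth_mul, mul_sub, mul_one, add_mul, one_mul, hsq, add_zero, add_sub_cancel_right,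
        oth_one])
  refine ⟨e * g * e⁻¹, M.mul_mem (M.mul_mem he hg) (M.inv_mem he), ?_⟩
  rw [Units.val_mul, Units.val_mul, hee, hei, hge, hoth1, mul_add, mul_one, add_mul, ← oth_mul]
  congr 1
  · rw [mul_sub, mul_one, add_mul, one_mul, hsq, add_zero, add_sub_cancel_right, oth_one]
  · rw [mul_smul_comm, smul_mul_assoc, ← mul_assoc, oth_comm_emb, mul_assoc, mul_assoc, ← mul_assoc (oth i (1 + E)),
      ← oth_mul, ← oth_mul]

/-- A non-scalar matrix in the row space gives elementary tensors. -/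
theorem el_of_mem_rowSpace (hm : 3 ≤ m) (hr : ∀ i (c φ : Fin m → F), φ ⬝ᵥ c = 0 → root i c φ ∈ M)
    {X : Matrix (Rest i m) (Rest i m) F} (hX : X ∈ rowSpace M i) (hns : ∀ c : F, X ≠ c • 1) :
    ∃ T : Finset ι, 2 ≤ T.card ∧ El M T := by
  obtain ⟨T, a, b, hT, hab, hmem⟩ := exists_eT_mem hm (dInv_rowSpace hr) hX hns
  set s : Fin m := ⟨1, by omega⟩
  have hs : s ≠ 0 := by simp [s, Fin.ext_iff]
  set a' := extend i 0 a with ha'
  set b' := extend i s b with hb'
  set T' := T.map (Function.Embedding.subtype _) with hT'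
  have hi : i ∉ T' := by simp [hT']
  have e : emb i (Matrix.single 0 s 1) * oth i (eT T a b) =
      (eT (insert i T') a' b' : Matrix (ι → Fin m) (ι → Fin m) F) := by
    rw [← emb_single_mul_eT_insert hi, ha', hb', extend_self, extend_self, ← oth_eT, extend_rest, extend_rest]
  refine ⟨insert i T', ?_, el_of_pair hr hm (a₀ := a') (b₀ := b') (fun k hk => ?_) fun l => ?_⟩
  · rw [Finset.card_insert_of_notMem hi, hT', Finset.card_map]
    have := hT.card_pos
    omega
  · rcases Finset.mem_insert.mp hk with rfl | hk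
    · rw [ha', hb', extend_self, extend_self]; exact hs.symm
    · obtain ⟨j, hj, rfl⟩ := Finset.mem_map.mp hk
      simpa [ha', hb', extend, j.2] using hab j hj
  · rw [← e]; exact hmem s hs l

/-! ### A fused block -/

variable [Finite F]

set_option maxHeartbeats 800000 in
/-- The case of an element stabilising a block. -/
theorem exists_el_of_stab [Nontrivial ι] (hm : 3 ≤ m)
    (hr : ∀ i (c φ : Fin m → F), φ ⬝ᵥ c = 0 → root i c φ ∈ M) (i : ι) {y : GL (ι → Fin m) F}
    (hy : ∀ k (c φ : Fin m → F), φ ⬝ᵥ c = 0 → y * root k c φ * y⁻¹ ∈ M)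
    (hst : (block i (Pi.single 0 1)).map (Matrix.mulVecLin (y : Matrix (ι → Fin m) (ι → Fin m) F)) ≤
      block i (Pi.single 0 1))
    (hyW : y ∉ wreath ι m F)
    (IH : ∀ N : Subgroup (GL (Rest i m) F), (∀ k (c φ : Fin m → F), φ ⬝ᵥ c = 0 → root k c φ ∈ N) →
      ¬ N ≤ wreath {j // j ≠ i} m F → ∃ T, 2 ≤ T.card ∧ El N T) :
    ∃ T : Finset ι, 2 ≤ T.card ∧ El M T := by
  classical
  by_contra hcon
  have hsc : ∀ X ∈ rowSpace M i, ∃ c : F, X = c • 1 := fun X hX => by
    by_contra h
    push Not at h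
    exact hcon (el_of_mem_rowSpace hm hr hX h)
  set Y := (y : Matrix (ι → Fin m) (ι → Fin m) F) with hY
  set Z := ((y⁻¹ : GL (ι → Fin m) F) : Matrix (ι → Fin m) (ι → Fin m) F) with hZ
  set e0 : Fin m → F := Pi.single 0 1 with he0
  have hinj : Function.Injective (Matrix.mulVecLin Y) := mulVec_injective_iff_isUnit.mpr y.isUnit
  have hYc : ∀ s : Fin m, s ≠ 0 → blk i Y s 0 = 0 := fun s hs => blk_eq_zero_of_map_le hst hs
  have hst' : (block i e0).map (Matrix.mulVecLin Z) ≤ block i e0 := by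
    have heq : (block i e0).map (Matrix.mulVecLin Y) = block i e0 :=
      Submodule.eq_of_le_of_finrank_eq hst (Submodule.equivMapOfInjective _ hinj _).finrank_eq.symm
    conv_lhs => rw [← heq]
    rw [← Submodule.map_comp, ← Matrix.mulVecLin_mul, hY, hZ, Units.inv_mul, Matrix.mulVecLin_one,
      Submodule.map_id]
  have hZc : ∀ s : Fin m, s ≠ 0 → blk i Z s 0 = 0 := fun s hs => blk_eq_zero_of_map_le hst' hs
  set A := blk i Y 0 0 with hA
  set D := blk i Z 0 0 with hD
  have hAD : A * D = 1 := by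
    have h := congrArg (fun W => blk i W 0 0) (Units.mul_inv y)
    simp only [blk_mul, blk_one, if_true] at h
    rw [Finset.sum_eq_single 0 (fun k _ hk => by rw [← hZ, hZc k hk, mul_zero]) (by simp)] at h
    exact h
  have hDA : D * A = 1 := mul_eq_one_comm.mp hAD
  set S : GL (Rest i m) F := ⟨A, D, hAD, hDA⟩
  -- the rows off `0` are scalar
  have hrow : ∀ t s : Fin m, ∃ c : F, t ≠ 0 → A * blk i Z t s = c • 1 := by
    intro t u
    by_cases ht : t = 0
    · exact ⟨0, fun h => absurd ht h⟩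
    rcases eq_or_ne u 0 with rfl | hu
    · exact ⟨0, fun _ => by rw [hZc t ht, mul_zero, zero_smul]⟩
    obtain ⟨s, hs0, hsu⟩ := exists_third hm 0 u
    suffices hmem : A * blk i Z t u ∈ rowSpace M i by
      obtain ⟨c, hc⟩ := hsc _ hmem
      exact ⟨c, fun _ => hc⟩
    refine mem_rowSpace_of_one hr hs0 fun l => ?_
    obtain ⟨e, he, hee⟩ := exists_root_single hr i hsu.symm (1 : F)
    rw [one_smul] at hee
    have h0 : (Pi.single t (1 : F) : Fin m → F) ⬝ᵥ Pi.single 0 l = 0 := by simp [ht]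
    set n := Y * emb i (Matrix.single 0 t 1) * Z with hn
    have hblk : ∀ a b, blk i n a b = blk i Y a 0 * blk i Z t b := fun a b => by
      rw [hn, blk_mul, Finset.sum_eq_single t (fun k _ hk => by rw [blk_mul_emb_single, if_neg hk, zero_mul])
        (by simp), blk_mul_emb_single, if_pos rfl]
    have hg : ((y * root i (Pi.single 0 l) (Pi.single t 1) * y⁻¹ : GL (ι → Fin m) F) :
        Matrix (ι → Fin m) (ι → Fin m) F) = 1 + l • n := by
      rw [Units.val_mul, Units.val_mul, root_val h0,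
        vecMulVec_single_single,
        emb_smul, mul_add, add_mul, mul_one, Units.mul_inv, mul_smul_comm, smul_mul_assoc]
    have hnn : n * n = 0 := by
      rw [hn, hY, hZ]
      simp only [mul_assoc]
      rw [Units.inv_mul_cancel_left, ← mul_assoc (emb i (Matrix.single 0 t 1)), ← emb_mul,
        single_mul_single_of_ne _ _ _ _ ht, emb_zero, zero_mul, mul_zero]
    obtain ⟨v, hv, hve⟩ := comm_left (hy i _ _ h0) he hg hee
      (by rw [smul_mul_smul_comm, hnn, smul_zero])
      (by rw [← emb_mul, single_mul_single_of_ne _ _ _ _ hsu, emb_zero])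
      (by
        have : emb i (Matrix.single u s 1) * n = 0 := blk_ext (i := i) fun a b => by
          rw [blk_emb_single_mul, hblk, hYc s hs0, zero_mul, ite_self, blk_zero]
        rw [mul_smul_comm, this, smul_zero])
    refine ⟨v, hv, ?_⟩
    have : n * emb i (Matrix.single u s 1) = emb i (Matrix.single 0 s 1) * oth i (A * blk i Z t u) :=
      blk_ext (i := i) fun a b => by
        rw [blk_mul_emb_single, hblk, blk_emb_mul_oth, Matrix.single_apply]
        by_cases ha : a = 0
        · subst ha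
          by_cases hb : b = s
          · subst hb; simp [hA]
          · simp [hb, Ne.symm hb]
        · simp [hYc a ha, Ne.symm ha]
    rw [hve, smul_mul_assoc, this]
  choose ψ hψ using hrow
  set G₀ : Matrix (Fin m) (Fin m) F := Matrix.of fun t s => if t = 0 then (if s = 0 then 1 else 0) else ψ t s
    with hG₀
  have hone : (1 : Matrix (Rest i m) (Rest i m) F) ≠ 0 := one_ne_zero
  have hsmul : ∀ c : F, c • (1 : Matrix (Rest i m) (Rest i m) F) = 0 → c = 0 := fun c h =>
    (smul_eq_zero.mp h).resolve_right hone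
  have hG0 : ∀ t, t ≠ 0 → G₀ t 0 = 0 := fun t ht => by
    rw [hG₀, of_apply, if_neg ht]
    exact hsmul _ (by rw [← hψ t 0 ht, hZc t ht, mul_zero])
  set N := oth i A * Z - emb i G₀ with hN
  have hblkAZ : ∀ a b, blk i (oth i A * Z) a b = A * blk i Z a b := fun a b => by
    rw [blk_mul]; simp [blk_oth]
  have hN0 : ∀ a b, a ≠ 0 → blk i N a b = 0 := fun a b ha => by
    rw [hN, blk_sub, hblkAZ, blk_emb, hψ a b ha, hG₀, of_apply, if_neg ha, sub_self]
  have hN00 : blk i N 0 0 = 0 := by
    rw [hN, blk_sub, hblkAZ, blk_emb, ← hD, hAD, hG₀]; simp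
  have hGu : IsUnit G₀ := by
    rw [← vecMul_injective_iff_isUnit]
    suffices hker : ∀ v, v ᵥ* G₀ = 0 → v = 0 by
      intro u v huv
      refine sub_eq_zero.mp (hker _ ?_)
      rw [sub_vecMul]
      exact sub_eq_zero.mpr huv
    intro v hv
    have hv0 : v 0 = 0 := by
      have h := congrFun hv 0
      rw [Matrix.vecMul, dotProduct, Finset.sum_eq_single 0 (fun k _ hk => by rw [hG0 k hk, mul_zero]) (by simp)] at h
      simpa [hG₀] using h
    have hz : emb i (vecMulVec e0 v) * Z = 0 := blk_ext (i := i) fun a b => by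
      rw [blk_mul, blk_zero]
      have : ∀ k, blk i (emb i (vecMulVec e0 v)) a k * blk i Z k b = (e0 a * (v k * G₀ k b)) • D := by
        intro k
        rw [blk_emb, vecMulVec_apply, smul_mul_assoc, one_mul]
        rcases eq_or_ne k 0 with rfl | hk
        · simp [hv0]
        · have e : blk i Z k b = G₀ k b • D := by
            rw [← one_mul (blk i Z k b), ← hDA, mul_assoc, hψ k b hk, mul_smul_comm, mul_one, hG₀, of_apply, if_neg hk]
          rw [e, smul_smul, mul_assoc]
      rw [Finset.sum_congr rfl (fun k _ => this k), ← Finset.sum_smul, ← Finset.mul_sum,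
        show ∑ k, v k * G₀ k b = (v ᵥ* G₀) b from rfl, hv]
      simp
    have hz' : vecMulVec e0 v = 0 := emb_injective i (by
      rw [emb_zero, ← mul_one (emb i (vecMulVec e0 v)), ← Units.inv_mul y, ← mul_assoc, ← hZ, hz, zero_mul])
    funext k
    simpa [he0, vecMulVec_apply] using congrFun (congrFun hz' 0) k
  set G : GL (Fin m) F := hGu.unit with hG
  have hGv : (G : Matrix (Fin m) (Fin m) F) = G₀ := rfl
  have hGN : emb i G₀ * N = N := blk_ext (i := i) fun a b => by
    rw [blk_mul, Finset.sum_eq_single 0 (fun k _ hk => by rw [hN0 k b hk, mul_zero]) (by simp), blk_emb,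
      smul_mul_assoc, one_mul]
    rcases eq_or_ne a 0 with rfl | ha
    · simp [hG₀]
    · rw [hG0 a ha, zero_smul, hN0 a b ha]
  have hNN : N * N = 0 := blk_ext (i := i) fun a b => by
    rw [blk_mul, blk_zero]
    refine Finset.sum_eq_zero fun k _ => ?_
    rcases eq_or_ne k 0 with rfl | hk
    · rcases eq_or_ne a 0 with rfl | ha
      · rw [hN00, zero_mul]
      · rw [hN0 a 0 ha, zero_mul]
    · rw [hN0 k b hk, mul_zero]
  let nU : GL (ι → Fin m) F := ⟨1 - N, 1 + N,
    by rw [sub_mul, one_mul, mul_add, mul_one, hNN, add_zero, add_sub_cancel_right],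
    by rw [add_mul, one_mul, mul_sub, mul_one, hNN, sub_zero, sub_add_cancel]⟩
  have hy' : y = nU * embG i G⁻¹ * othG i S := by
    refine inv_injective (Units.ext ?_)
    rw [_root_.mul_inv_rev, _root_.mul_inv_rev, ← map_inv, ← map_inv, inv_inv, Units.val_mul, Units.val_mul,
      othG_val, embG_val, hGv]
    show Z = oth i D * (emb i G₀ * (1 + N))
    rw [mul_add, mul_one, hGN, hN, add_sub_cancel, ← mul_assoc, ← oth_mul, hDA, oth_one, one_mul]
  -- the row of `N` is scalar
  have hNrow : ∀ s : Fin m, ∃ c : F, blk i N 0 s = c • 1 := by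
    intro s
    rcases eq_or_ne s 0 with rfl | hs
    · exact ⟨0, by rw [hN00, zero_smul]⟩
    obtain ⟨u, hu0, hus⟩ := exists_third hm 0 s
    refine hsc _ (mem_rowSpace_of_one hr hu0 fun l => ?_)
    have h0 : (Pi.single u (1 : F) : Fin m → F) ⬝ᵥ Pi.single s (-l) = 0 := by simp [hus]
    have hr' := hy i ((G : Matrix (Fin m) (Fin m) F) *ᵥ Pi.single s (-l))
      ((Pi.single u (1 : F)) ᵥ* ((G⁻¹ : GL (Fin m) F) : Matrix (Fin m) (Fin m) F)) (by rw [dot_conj, h0])
    have hconj : y * root i ((G : Matrix (Fin m) (Fin m) F) *ᵥ Pi.single s (-l))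
        ((Pi.single u (1 : F)) ᵥ* ((G⁻¹ : GL (Fin m) F) : Matrix (Fin m) (Fin m) F)) * y⁻¹ =
        nU * root i (Pi.single s (-l)) (Pi.single u 1) * nU⁻¹ := by
      have hyg : y * embG i G = nU * othG i S := by
        rw [hy', mul_assoc, othG_comm_embG, ← mul_assoc, mul_assoc nU, ← map_mul, inv_mul_cancel, map_one, mul_one]
      rw [root, ← conj_tv, map_mul, map_mul, map_inv, root,
        show y * (embG i G * embG i (tv (Pi.single s (-l)) (Pi.single u 1)) * (embG i G)⁻¹) * y⁻¹ =
          (y * embG i G) * embG i (tv (Pi.single s (-l)) (Pi.single u 1)) * (y * embG i G)⁻¹ by group, hyg,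
        mul_assoc nU, othG_comm_embG]
      group
    rw [hconj] at hr'
    obtain ⟨e, he, hee⟩ := exists_root_single hr i hus.symm l
    refine ⟨(nU * root i (Pi.single s (-l)) (Pi.single u 1) * nU⁻¹ * e), M.mul_mem hr' he, ?_⟩
    have hP : emb i (Matrix.single s u 1) * N = 0 := blk_ext (i := i) fun a b => by
      rw [blk_emb_single_mul, hN0 u b hu0, ite_self, blk_zero]
    have hNE : N * emb i (Matrix.single s u 1) = emb i (Matrix.single 0 u 1) * oth i (blk i N 0 s) :=
      blk_ext (i := i) fun a b => by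
        rw [blk_mul_emb_single, blk_emb_mul_oth, Matrix.single_apply]
        by_cases ha : a = 0
        · subst ha
          by_cases hb : b = u
          · subst hb; simp
          · simp [hb, Ne.symm hb]
        · simp [hN0 a s ha, Ne.symm ha]
    rw [← hNE, Units.val_mul, Units.val_mul, Units.val_mul, hee, root_val h0,
      vecMulVec_single_single,
      emb_smul]
    show (1 - N) * (1 + (-l) • emb i (Matrix.single s u 1)) * (1 + N) * (1 + l • emb i (Matrix.single s u 1)) = _
    have hEE : emb i (Matrix.single s u (1 : F)) * emb i (Matrix.single s u 1) =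
        (0 : Matrix (ι → Fin m) (ι → Fin m) F) := by
      rw [← emb_mul, single_mul_single_of_ne _ _ _ _ hus, emb_zero]
    simp only [sub_mul, mul_add, add_mul, one_mul, mul_one, mul_assoc, smul_mul_assoc, mul_smul_comm, hP, hNN,
      hEE, neg_smul, mul_zero, smul_zero, add_zero, mul_neg, neg_mul]
    abel_nf
    simp [mul_assoc, hP, hNN, hEE]
  choose κ hκ using hNrow
  -- `nU` is a root
  have hκ0 : κ 0 = 0 := hsmul _ (by rw [← hκ 0, hN00])
  have h0 : (fun b => -κ b) ⬝ᵥ e0 = 0 := by simp [he0, hκ0]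
  have hnU : nU = root i e0 (fun b => -κ b) := by
    refine Units.ext ?_
    rw [root_val h0]
    show 1 - N = _
    rw [sub_eq_add_neg]
    congr 1
    refine blk_ext (i := i) fun a b => ?_
    rw [blk_emb, vecMulVec_apply, show -N = (-1 : F) • N by simp, blk_smul]
    rcases eq_or_ne a 0 with rfl | ha
    · simp [he0, hκ b]
    · simp [he0, ha, hN0 a b ha]
  have hnM : nU ∈ M := hnU ▸ hr i _ _ h0
  have hS : S ∉ wreath {j // j ≠ i} m F := fun h => hyW (by
    rw [hy', hnU]
    exact (wreath ι m F).mul_mem ((wreath ι m F).mul_mem (root_mem_wreath _ _ _) (embG_mem _ _))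
      (othG_mem_wreath h))
  set MR := M.comap (othG i) with hMR
  have hMRr : ∀ k (c φ : Fin m → F), φ ⬝ᵥ c = 0 → root k c φ ∈ MR := fun k c φ h => by
    rw [hMR, Subgroup.mem_comap, othG_root]; exact hr k c φ h
  have hMRS : ∀ k (c φ : Fin m → F), φ ⬝ᵥ c = 0 → S * root k c φ * S⁻¹ ∈ MR := fun k c φ h => by
    have h1 := M.mul_mem (M.mul_mem (M.inv_mem hnM) (hy k c φ h)) hnM
    rw [hMR, Subgroup.mem_comap]
    convert h1 using 1
    rw [← othG_root i k, hy', _root_.mul_inv_rev, _root_.mul_inv_rev, ← map_inv, ← map_inv, inv_inv]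
    simp only [mul_assoc, inv_mul_cancel_left, inv_mul_cancel, mul_one]
    rw [← mul_assoc (othG i S) (othG i (root k c φ)), ← map_mul, ← mul_assoc (othG i _) (othG i S⁻¹), ← map_mul,
      ← mul_assoc (embG i G⁻¹), ← othG_comm_embG, mul_assoc, ← map_mul, inv_mul_cancel, map_one, mul_one]
    simp only [mul_assoc]
  by_cases hle : MR ≤ wreath {j // j ≠ i} m F
  · have : Nonempty {j // j ≠ i} := by
      obtain ⟨j, hj⟩ := exists_ne i
      exact ⟨⟨j, hj⟩⟩
    exact hS (mem_wreath_of_conj_roots hm fun k c φ h => hle (hMRS k c φ h))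
  obtain ⟨T, hT2, hT⟩ := IH MR hMRr hle
  refine hcon ⟨T.map (Function.Embedding.subtype _), by rwa [Finset.card_map], fun a b hne l => ?_⟩
  obtain ⟨g, hg, hge⟩ := hT (fun j => a j) (fun j => b j)
    (fun k hk => hne (k : ι) (Finset.mem_map_of_mem _ hk)) l
  exact ⟨othG i g, hg, by rw [othG_val, hge, oth_add, oth_one, oth_smul, oth_eT]⟩

omit [NeZero m] in
theorem exists_el_aux (hm : 3 ≤ m) : ∀ (n : ℕ) (κ : Type) [Fintype κ] [DecidableEq κ] [Nonempty κ],
    Fintype.card κ = n → ∀ N : Subgroup (GL (κ → Fin m) F),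
      (∀ i (c φ : Fin m → F), φ ⬝ᵥ c = 0 → root i c φ ∈ N) → ¬ N ≤ wreath κ m F →
      ∃ T : Finset κ, 2 ≤ T.card ∧ El N T := by
  intro n
  induction n using Nat.strong_induction_on with
  | _ n ih =>
  intro κ _ _ _ hn N hr hN
  have : NeZero m := ⟨by omega⟩
  rcases subsingleton_or_nontrivial κ with hs | hs
  · exact absurd (fun g _ => mem_wreath_of_subsingleton g) hN
  obtain ⟨p, hp'⟩ := CharP.exists F
  have : Fact p.Prime := ⟨CharP.char_is_prime F p⟩
  obtain ⟨y, hyN, i, j, c, c', hc, hc', hmap, hyW⟩ : ∃ y ∈ N, ∃ (i j : κ) (c c' : Fin m → F), c ≠ 0 ∧ c' ≠ 0 ∧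
      (block i c).map (Matrix.mulVecLin (y : Matrix (κ → Fin m) (κ → Fin m) F)) ≤ block j c' ∧
      y ∉ wreath κ m F := by
    by_contra hcon
    push Not at hcon
    have hR : Rigid N := ⟨hm, hr, fun y hy i j c c' hc hc' h => hcon y hy i j c c' hc hc' h⟩
    rcases eq_or_ne p 2 with rfl | hp2
    · exact hN hR.le_wreath_of_char_two
    · exact hN (hR.le_wreath_of_char_odd hp2)
  set e0 : Fin m → F := Pi.single 0 1 with he0
  have he0' : e0 ≠ 0 := by simp [he0]
  obtain ⟨S, hS, k, hk, hSe⟩ := CfsgLib.TensorMax.exists_move he0' hc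
  obtain ⟨S', hS', k', hk', hSc⟩ := CfsgLib.TensorMax.exists_move hc' he0'
  set y₁ := embG j S' * y * embG i S with hy₁
  have hy₁N : y₁ ∈ N :=
    N.mul_mem (N.mul_mem (embG_mem_of_roots hr j hS') hyN) (embG_mem_of_roots hr i hS)
  have hy₁W : y₁ ∉ wreath κ m F := fun h => hyW (by
    have := (wreath κ m F).mul_mem ((wreath κ m F).mul_mem ((wreath κ m F).inv_mem (embG_mem j S')) h)
      ((wreath κ m F).inv_mem (embG_mem i S))
    simpa [hy₁, mul_assoc] using this)
  set π : Equiv.Perm κ := Equiv.swap i j with hπ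
  set P : GL (κ → Fin m) F := pmG π with hP
  set y₀ := P * y₁ with hy₀
  set N₀ := N.map (MulAut.conj P).toMonoidHom with hN₀
  have hmem₀ : ∀ x ∈ N, P * x * P⁻¹ ∈ N₀ := fun x hx => ⟨x, hx, rfl⟩
  have hr₀ : ∀ q (u φ : Fin m → F), φ ⬝ᵥ u = 0 → root q u φ ∈ N₀ := fun q u φ h => by
    refine ⟨root (π.symm q) u φ, hr _ u φ h, Units.ext ?_⟩
    show ((P * root (π.symm q) u φ * P⁻¹ : GL (κ → Fin m) F) : Matrix (κ → Fin m) (κ → Fin m) F) = _
    rw [Units.val_mul, Units.val_mul, hP, pmG_val, root, embG_val, pm_mul_emb, Equiv.apply_symm_apply,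
      mul_assoc, ← pmG_val, Units.mul_inv, mul_one]
    rfl
  have hy₀N : ∀ q (u φ : Fin m → F), φ ⬝ᵥ u = 0 → y₀ * root q u φ * y₀⁻¹ ∈ N₀ := fun q u φ h => by
    have := hmem₀ _ (N.mul_mem (N.mul_mem hy₁N (hr q u φ h)) (N.inv_mem hy₁N))
    simpa [hy₀, mul_assoc] using this
  have hst : (block i e0).map (Matrix.mulVecLin (y₀ : Matrix (κ → Fin m) (κ → Fin m) F)) ≤ block i e0 := by
    rw [hy₀, map_block_comp, hP, pmG_val]
    refine le_trans (Submodule.map_mono (?_ : _ ≤ block j e0)) (le_of_eq ?_)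
    · rw [hy₁, map_block_comp, map_block_comp, embG_val, embG_val, map_block_emb, hSe, block_smul_eq hk]
      refine le_trans (Submodule.map_mono hmap) (le_of_eq ?_)
      rw [map_block_emb, hSc, block_smul_eq hk']
    · rw [map_block_pm, hπ, Equiv.swap_apply_right]
  have hy₀W : y₀ ∉ wreath κ m F := fun h => hy₁W (by
    have := (wreath κ m F).mul_mem ((wreath κ m F).inv_mem (pmG_mem π)) h
    simpa [hy₀, hP, mul_assoc] using this)
  have : Nonempty {q // q ≠ i} := by
    obtain ⟨q, hq⟩ := exists_ne i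
    exact ⟨⟨q, hq⟩⟩
  have hlt : Fintype.card {q // q ≠ i} < n := by
    rw [← hn, Fintype.card_subtype_compl, Fintype.card_subtype_eq]
    have := Fintype.card_pos (α := κ)
    omega
  obtain ⟨T, hT2, hT⟩ := exists_el_of_stab hm hr₀ i hy₀N hst hy₀W fun N' h1 h2 =>
    ih _ hlt {q // q ≠ i} rfl N' h1 h2
  refine ⟨T.map π⁻¹.toEmbedding, by rwa [Finset.card_map], el_map_pm ?_ hT⟩
  rintro _ ⟨x, hx, rfl⟩
  rw [map_inv, inv_inv]
  show P⁻¹ * (P * x * P⁻¹) * P ∈ N
  simpa [mul_assoc] using hx

omit [NeZero m] in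
/-- An overgroup of the factor roots outside the wreath group contains elementary tensors on two factors. -/
theorem exists_el [Nonempty ι] (hm : 3 ≤ m) {M : Subgroup (GL (ι → Fin m) F)}
    (hr : ∀ i (c φ : Fin m → F), φ ⬝ᵥ c = 0 → root i c φ ∈ M) (hM : ¬ M ≤ wreath ι m F) :
    ∃ T : Finset ι, 2 ≤ T.card ∧ El M T :=
  exists_el_aux hm _ ι rfl M hr hM

end CfsgLib.TWreath
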