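import Cfsg.Agent.TensorWreath.Classify

/-!
# Uniqueness of factors, root groups and pure subspaces
-/

set_option autoImplicit false
set_option linter.unusedSectionVars false

namespace CfsgLib.TWreath

open Matrix CfsgLib.MaxSub

variable {F : Type*} [Field F] {ι : Type} [Fintype ι] [DecidableEq ι] {m : ℕ}

theorem emb_injective [NeZero m] (i : ι) :
    Function.Injective (emb (F := F) (m := m) i) := by
  intro A B h
  refine Matrix.ext_of_mulVec_single fun j => ?_
  have := congrArg (· *ᵥ lift i (Pi.single j 1) (fun _ => (1 : F))) h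
  simp only [emb_mulVec_lift] at this
  funext k
  have h' := congrFun this (extend i k fun _ => 0)
  simpa [lift_apply, extend_self] using h'

theorem embG_injective [NeZero m] (i : ι) : Function.Injective (embG (F := F) (m := m) i) := by
  intro g h hgh
  refine Units.ext (emb_injective i ?_)
  rw [← embG_val, ← embG_val, hgh]

theorem embG_comm {i j : ι} (hij : i ≠ j) (g h : GL (Fin m) F) : embG i g * embG j h = embG j h * embG i g :=
  Units.ext (emb_comm hij _ _)

/-- Equal products have proportional factors. -/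
theorem PtG_eq_smul [NeZero m] {gs hs : ι → GL (Fin m) F} (h : PtG gs = PtG hs) (k : ι) :
    ∃ c : F, (hs k : Matrix (Fin m) (Fin m) F) = c • (gs k : Matrix (Fin m) (Fin m) F) := by
  have h1 : PtG (gs⁻¹ * hs) = (1 : GL (ι → Fin m) F) := by rw [map_mul, map_inv, h, inv_mul_cancel]
  have h2 := congrArg Units.val h1
  rw [PtG_val, Units.val_one] at h2
  obtain ⟨l, hl, -⟩ := exists_scalar_of_Pt_eq_one h2
  refine ⟨l k, ?_⟩
  have := congrArg ((gs k : Matrix (Fin m) (Fin m) F) * ·) (hl k)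
  simpa [← mul_assoc] using this

/-- A product equal to a matrix in one factor is scalar in the others. -/
theorem exists_scalar_of_PtG_eq_embG [NeZero m] {gs : ι → GL (Fin m) F} {l : ι} {A : GL (Fin m) F}
    (h : PtG gs = embG l A) {k : ι} (hk : k ≠ l) :
    ∃ c : F, (gs k : Matrix (Fin m) (Fin m) F) = c • 1 := by
  rw [embG_eq_PtG] at h
  obtain ⟨c, hc⟩ := PtG_eq_smul h.symm k
  exact ⟨c, by simpa [Function.update_of_ne hk] using hc⟩

theorem tv_ne_smul_one {c φ : Fin m → F} (h : φ ⬝ᵥ c = 0) (hc : c ≠ 0) (hφ : φ ≠ 0) (k : F) :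
    (tv c φ : Matrix (Fin m) (Fin m) F) ≠ k • 1 := by
  intro he
  obtain ⟨d, hd⟩ := exists_dot_eq_one hφ
  rw [dotProduct_comm] at hd
  have h1 := congrArg (· *ᵥ c) he
  have h2 := congrArg (· *ᵥ d) he
  simp only [tv_mulVec h, smul_mulVec, one_mulVec, hd, one_smul, h, zero_smul, add_zero] at h1 h2
  have hk : k = 1 := by
    obtain ⟨j, hj⟩ := Function.ne_iff.mp hc
    have := congrFun h1 j
    simp only [Pi.smul_apply, smul_eq_mul] at this
    exact (mul_right_cancel₀ hj (by rw [one_mul]; exact this.symm))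
  rw [hk, one_smul, add_eq_left] at h2
  exact hc h2

/-- An element of the wreath group carries roots to roots. -/
theorem HasPerm.conj_root {g : GL (ι → Fin m) F} {σ : Equiv.Perm ι} (hg : HasPerm g σ) {i : ι}
    {c φ : Fin m → F} (h0 : φ ⬝ᵥ c = 0) (hc : c ≠ 0) (hφ : φ ≠ 0) :
    ∃ c' φ', c' ≠ 0 ∧ φ' ≠ 0 ∧ φ' ⬝ᵥ c' = 0 ∧ g * root i c φ * g⁻¹ = root (σ i) c' φ' := by
  obtain ⟨h, hh⟩ := hg.conj_emb
  refine ⟨(h i : Matrix (Fin m) (Fin m) F) *ᵥ c, φ ᵥ* (((h i)⁻¹ : GL (Fin m) F) : Matrix (Fin m) (Fin m) F),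
    fun e => hc ((mulVec_injective_iff_isUnit.mpr (h i).isUnit) (e.trans (mulVec_zero _).symm)),
    fun e => hφ ((vecMul_injective_iff_isUnit.mpr ((h i)⁻¹).isUnit) (e.trans (zero_vecMul _).symm)), ?_, ?_⟩
  · rw [← dotProduct_mulVec, mulVec_mulVec, Units.inv_mul, one_mulVec, h0]
  rw [mul_inv_eq_iff_eq_mul]
  apply Units.ext
  rw [Units.val_mul, Units.val_mul, root_val h0, root_val, mul_add, add_mul, mul_one, one_mul, hh,
    mul_vecMulVec, vecMulVec_mul]
  rw [← dotProduct_mulVec, mulVec_mulVec, Units.inv_mul, one_mulVec, h0]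

/-! ### Root groups -/

/-- The kernel of the pairing with `φ`. -/
def kerDot (φ : Fin m → F) : Submodule F (Fin m → F) where
  carrier := {c | φ ⬝ᵥ c = 0}
  add_mem' {c d} (hc : φ ⬝ᵥ c = 0) (hd : φ ⬝ᵥ d = 0) :=
    show φ ⬝ᵥ (c + d) = 0 by rw [dotProduct_add, hc, hd, add_zero]
  zero_mem' := dotProduct_zero φ
  smul_mem' k c (hc : φ ⬝ᵥ c = 0) := show φ ⬝ᵥ (k • c) = 0 by rw [dotProduct_smul, hc, smul_zero]

/-- The root group of the factor `i` and the axis `φ`. -/
noncomputable def rootHom (i : ι) (φ : Fin m → F) : Multiplicative (kerDot φ) →* GL (ι → Fin m) F where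
  toFun c := root i (c.toAdd : Fin m → F) φ
  map_one' := by show root i (0 : Fin m → F) φ = 1; rw [root, tv_zero_left, map_one]
  map_mul' c d := (root_add c.toAdd.2 d.toAdd.2).symm

/-- The root group as a subgroup. -/
noncomputable def rootGroup (i : ι) (φ : Fin m → F) : Subgroup (GL (ι → Fin m) F) := (rootHom i φ).range

theorem mem_rootGroup {i : ι} {φ : Fin m → F} {g : GL (ι → Fin m) F} :
    g ∈ rootGroup i φ ↔ ∃ c, φ ⬝ᵥ c = 0 ∧ g = root i c φ :=
  ⟨fun ⟨c, hc⟩ => ⟨_, c.toAdd.2, hc.symm⟩, fun ⟨c, hc, hg⟩ => ⟨Multiplicative.ofAdd ⟨c, hc⟩, hg.symm⟩⟩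

theorem root_sub_one {i : ι} {c φ : Fin m → F} (h : φ ⬝ᵥ c = 0) :
    (root i c φ : Matrix (ι → Fin m) (ι → Fin m) F) - 1 = emb i (vecMulVec c φ) := by
  rw [root_val h, add_sub_cancel_left]

theorem root_quadratic {i : ι} {c φ : Fin m → F} (h : φ ⬝ᵥ c = 0) :
    ((root i c φ : Matrix (ι → Fin m) (ι → Fin m) F) - 1) *
      ((root i c φ : Matrix (ι → Fin m) (ι → Fin m) F) - 1) = 0 := by
  rw [root_sub_one h, ← emb_mul, vecMulVec_sq h, emb_zero]

theorem root_rank {i : ι} {c φ : Fin m → F} (h : φ ⬝ᵥ c = 0) (hc : c ≠ 0) (hφ : φ ≠ 0) :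
    ((root i c φ : Matrix (ι → Fin m) (ι → Fin m) F) - 1).rank = bdim ι m := by
  rw [root_sub_one h, Matrix.rank, ← block_eq_range hφ, finrank_block hc]

theorem root_pow {p : ℕ} [Fact p.Prime] [CharP F p] [NeZero m] {i : ι} {c φ : Fin m → F}
    (h : φ ⬝ᵥ c = 0) : root i c φ ^ p = 1 := pow_prime_eq_one (root_quadratic h)

theorem isPGroup_rootGroup {p : ℕ} [Fact p.Prime] [CharP F p] [NeZero m] (i : ι) (φ : Fin m → F) :
    IsPGroup p (rootGroup i φ) := by
  rintro ⟨g, hg⟩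
  obtain ⟨c, hc, rfl⟩ := mem_rootGroup.mp hg
  exact ⟨1, Subtype.ext (by rw [pow_one]; exact root_pow hc)⟩

theorem exists_two_in_kerDot (hm : 3 ≤ m) (φ : Fin m → F) :
    ∃ c d : Fin m → F, φ ⬝ᵥ c = 0 ∧ φ ⬝ᵥ d = 0 ∧ c ≠ 0 ∧ ∀ k : F, k • c ≠ d := by
  let fn : (Fin m → F) →ₗ[F] F :=
    { toFun := fun x => φ ⬝ᵥ x
      map_add' := fun x y => dotProduct_add φ x y
      map_smul' := fun k x => dotProduct_smul k φ x }
  have h3 : Module.finrank F (LinearMap.range fn) ≤ 1 :=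
    (Submodule.finrank_le _).trans (le_of_eq (Module.finrank_self F))
  have h2 := fn.finrank_range_add_finrank_ker
  rw [Module.finrank_fin_fun] at h2
  obtain ⟨c, hc, hc0⟩ : ∃ c, c ∈ LinearMap.ker fn ∧ c ≠ 0 := by
    refine Submodule.exists_mem_ne_zero_of_ne_bot fun h => ?_
    rw [h, finrank_bot] at h2
    omega
  by_contra hcon
  push Not at hcon
  have hle : LinearMap.ker fn ≤ Submodule.span F {c} := fun d hd =>
    Submodule.mem_span_singleton.mpr (hcon c d hc hd hc0)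
  have h1 := (Submodule.finrank_mono hle).trans (le_of_eq (finrank_span_singleton hc0))
  omega

theorem exists_two_ortho (hm : 3 ≤ m) (c : Fin m → F) :
    ∃ φ ψ : Fin m → F, φ ⬝ᵥ c = 0 ∧ ψ ⬝ᵥ c = 0 ∧ φ ≠ 0 ∧ ∀ k : F, k • φ ≠ ψ := by
  obtain ⟨φ, ψ, h1, h2, h3, h4⟩ := exists_two_in_kerDot hm c
  exact ⟨φ, ψ, by rwa [dotProduct_comm], by rwa [dotProduct_comm], h3, h4⟩

/-! ### Subspaces of pure tensors -/

theorem exists_dot_both {x y : Fin m → F} (hx : x ≠ 0) (hy : y ≠ 0) :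
    ∃ φ : Fin m → F, φ ⬝ᵥ x ≠ 0 ∧ φ ⬝ᵥ y ≠ 0 := by
  obtain ⟨f, hf⟩ := exists_dot_eq_one hx
  obtain ⟨g, hg⟩ := exists_dot_eq_one hy
  by_cases h1 : f ⬝ᵥ y = 0
  · by_cases h2 : g ⬝ᵥ x = 0
    · exact ⟨f + g, by rw [add_dotProduct, hf, h2, add_zero]; exact one_ne_zero,
        by rw [add_dotProduct, h1, hg, zero_add]; exact one_ne_zero⟩
    · exact ⟨g, h2, by rw [hg]; exact one_ne_zero⟩
  · exact ⟨f, by rw [hf]; exact one_ne_zero, h1⟩

/-- If the sum of two pure tensors is pure, they differ in at most one factor. -/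
theorem prop_of_pure_add {xs ys zs : ι → Fin m → F} (hx : ∀ k, xs k ≠ 0) (hy : ∀ k, ys k ≠ 0)
    (h : pten xs + pten ys = pten zs) {l l' : ι} (hll : l ≠ l') (hl : ∀ c : F, c • xs l ≠ ys l) :
    ∃ c : F, c • xs l' = ys l' := by
  by_contra hl'
  push Not at hl'
  choose φ hφ₁ hφ₂ using fun k => exists_dot_both (hx k) (hy k)
  obtain ⟨a, ha₀, ha₁⟩ := exists_dot_eq_zero_one hl
  obtain ⟨a', ha₀', ha₁'⟩ := exists_dot_eq_zero_one hl'
  rw [dotProduct_comm] at ha₀ ha₁ ha₀' ha₁'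
  obtain ⟨b, hb⟩ := exists_dot_eq_one (hx l)
  obtain ⟨b', hb'⟩ := exists_dot_eq_one (hx l')
  -- `u` sees only `x`, `a` sees only `y`
  set u := b - (b ⬝ᵥ ys l) • a with hu
  set u' := b' - (b' ⬝ᵥ ys l') • a' with hu'
  have hu1 : u ⬝ᵥ xs l = 1 := by rw [hu, sub_dotProduct, smul_dotProduct, hb, ha₀]; simp
  have hu2 : u ⬝ᵥ ys l = 0 := by rw [hu, sub_dotProduct, smul_dotProduct, ha₁]; simp
  have hu1' : u' ⬝ᵥ xs l' = 1 := by rw [hu', sub_dotProduct, smul_dotProduct, hb', ha₀']; simp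
  have hu2' : u' ⬝ᵥ ys l' = 0 := by rw [hu', sub_dotProduct, smul_dotProduct, ha₁']; simp
  let sel : (Fin m → F) → (Fin m → F) → ι → Fin m → F := fun p q =>
    Function.update (Function.update φ l p) l' q
  have hsel : ∀ p q (ws : ι → Fin m → F), pten (sel p q) ⬝ᵥ pten ws =
      (p ⬝ᵥ ws l) * (q ⬝ᵥ ws l') * ∏ k ∈ (Finset.univ.erase l').erase l, φ k ⬝ᵥ ws k := by
    intro p q ws
    rw [pten_dot, ← Finset.mul_prod_erase _ _ (Finset.mem_univ l'),
      ← Finset.mul_prod_erase _ _ (Finset.mem_erase.mpr ⟨hll, Finset.mem_univ l⟩)]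
    simp only [sel, Function.update_self, Function.update_of_ne hll]
    rw [mul_comm (p ⬝ᵥ ws l) (q ⬝ᵥ ws l'), mul_assoc]
    congr 2
    refine Finset.prod_congr rfl fun k hk => ?_
    simp only [Finset.mem_erase] at hk
    rw [Function.update_of_ne hk.2.1, Function.update_of_ne hk.1]
  set R : (ι → Fin m → F) → F := fun ws => ∏ k ∈ (Finset.univ.erase l').erase l, φ k ⬝ᵥ ws k
  have hRx : R xs ≠ 0 := Finset.prod_ne_zero_iff.mpr fun k _ => hφ₁ k
  have hRy : R ys ≠ 0 := Finset.prod_ne_zero_iff.mpr fun k _ => hφ₂ k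
  have key : ∀ p q, (p ⬝ᵥ xs l) * (q ⬝ᵥ xs l') * R xs + (p ⬝ᵥ ys l) * (q ⬝ᵥ ys l') * R ys =
      (p ⬝ᵥ zs l) * (q ⬝ᵥ zs l') * R zs := fun p q => by
    rw [← hsel, ← hsel, ← hsel, ← dotProduct_add, h]
  have k11 := key u u'
  have k22 := key a a'
  have k12 := key u a'
  have k21 := key a u'
  simp only [hu1, hu2, hu1', hu2', ha₀, ha₁, ha₀', ha₁', one_mul, mul_one, zero_mul, mul_zero, add_zero,
    zero_add] at k11 k22 k12 k21
  have hprod : R xs * R ys = 0 := by
    rw [k11, k22]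
    linear_combination ((-1) * (a ⬝ᵥ zs l) * (u' ⬝ᵥ zs l') * R zs) * k12
  exact (mul_eq_zero.mp hprod).elim hRx hRy

theorem pten_update_prop {xs ys : ι → Fin m → F} (l : ι) (c : ι → F) (h : ∀ k, k ≠ l → ys k = c k • xs k) :
    ∃ z, pten ys = pten (Function.update xs l z) := by
  refine ⟨(∏ k ∈ Finset.univ.erase l, c k) • ys l, ?_⟩
  funext a
  rw [pten_update, pten, ← Finset.mul_prod_erase _ _ (Finset.mem_univ l), Pi.smul_apply, smul_eq_mul,
    Finset.prod_congr rfl (fun k hk => show ys k (a k) = c k * xs k (a k) by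
      rw [h k (Finset.ne_of_mem_erase hk)]; rfl), Finset.prod_mul_distrib]
  ring

/-- A linear family of pure tensors of dimension `m` consists of all changes of one factor. -/
theorem exists_factor_of_pure_family (hm : 2 ≤ m) (f : (Fin m → F) →ₗ[F] ((ι → Fin m) → F))
    (hf : ∀ z, z ≠ 0 → IsPure (f z)) :
    ∃ (l : ι) (y : ι → Fin m → F), (∀ k, y k ≠ 0) ∧
      (∀ z, ∃ z', f z = pten (Function.update y l z')) ∧
      ∀ z', ∃ z, f z = pten (Function.update y l z') := by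
  have hfi : Function.Injective f := by
    rw [← LinearMap.ker_eq_bot, LinearMap.ker_eq_bot']
    intro z hz
    by_contra hne
    obtain ⟨ys, hys, he⟩ := hf z hne
    exact pten_ne_zero hys (he.symm.trans hz)
  let e0 : Fin m → F := Pi.single ⟨0, by omega⟩ 1
  have he0 : e0 ≠ 0 := by simp [e0]
  obtain ⟨y, hy, hfy⟩ := hf e0 he0
  obtain ⟨e1, he1⟩ := exists_indep hm e0
  have he1' : e1 ≠ 0 := fun h => he1 0 (by rw [zero_smul, h])
  obtain ⟨y1, hy1, hfy1⟩ := hf e1 he1'
  have hsum : ∀ a b ys ys', f a = pten ys → f b = pten ys' → a + b ≠ 0 →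
      ∃ zs, pten ys + pten ys' = pten zs := fun a b ys ys' ha hb hab => by
    obtain ⟨zs, -, h⟩ := hf _ hab
    exact ⟨zs, by rw [← ha, ← hb, ← map_add]; exact h⟩
  obtain ⟨l, hl⟩ : ∃ l, ∀ c : F, c • y l ≠ y1 l := by
    by_contra hc
    push Not at hc
    choose c hc using hc
    have : f e1 = (∏ k, c k) • f e0 := by
      rw [hfy1, hfy, ← pten_smul]; exact congrArg pten (funext fun k => (hc k).symm)
    rw [← map_smul] at this
    exact he1 _ (hfi this).symm
  have hs : ∃ zs, pten y + pten y1 = pten zs := hsum _ _ _ _ hfy hfy1 fun h => he1 (-1) (by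
    rw [neg_one_smul]; exact neg_eq_of_add_eq_zero_right h)
  obtain ⟨zs, hzs⟩ := hs
  have hy1prop : ∀ k, k ≠ l → ∃ c : F, c • y k = y1 k := fun k hk =>
    prop_of_pure_add hy hy1 hzs hk.symm hl
  have hall : ∀ z, ∃ z', f z = pten (Function.update y l z') := by
    intro z
    rcases eq_or_ne z 0 with rfl | hz
    · exact ⟨0, by rw [map_zero, eq_comm, pten_eq_zero]; exact ⟨l, Function.update_self _ _ _⟩⟩
    obtain ⟨ys, hys, hfz⟩ := hf z hz
    have hprop : ∀ k, k ≠ l → ∃ c : F, c • y k = ys k := by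
      intro k hk
      by_contra hkk
      push Not at hkk
      by_cases hz0 : e0 + z = 0
      · rw [add_eq_zero_iff_eq_neg'.mp hz0, map_neg, ← neg_one_smul F (f e0), hfy] at hfz
        obtain ⟨z', hz'⟩ : ∃ z', (-1 : F) • pten y = pten (Function.update y l z') :=
          ⟨(-1 : F) • y l, by rw [pten_update_smul, Function.update_eq_self]⟩
        rw [hz'] at hfz
        have hne : pten (Function.update y l z') ≠ (0 : (ι → Fin m) → F) := hfz ▸ pten_ne_zero hys
        obtain ⟨c, -, hc⟩ := prop_of_pten_eq hne hfz k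
        rw [Function.update_of_ne hk] at hc
        exact hkk c hc.symm
      obtain ⟨w, hw⟩ := hsum _ _ _ _ hfy hfz hz0
      obtain ⟨c, hc⟩ := prop_of_pure_add hy hys hw hk hkk
      obtain ⟨d, hd⟩ := hy1prop k hk
      have hd0 : d ≠ 0 := fun h => hy1 k (by rw [← hd, h, zero_smul])
      have hk1 : ∀ a : F, a • y1 k ≠ ys k := fun a ha => hkk (a * d) (by rw [mul_smul, hd, ha])
      by_cases hz1 : e1 + z = 0
      · rw [add_eq_zero_iff_eq_neg'.mp hz1, map_neg, ← neg_one_smul F (f e1), hfy1] at hfz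
        have hne : pten (Function.update y1 k ((-1 : F) • y1 k)) ≠ (0 : (ι → Fin m) → F) := by
          rw [pten_update_smul, Function.update_eq_self]; exact hfz ▸ pten_ne_zero hys
        rw [show (-1 : F) • pten y1 = pten (Function.update y1 k ((-1 : F) • y1 k)) by
          rw [pten_update_smul, Function.update_eq_self]] at hfz
        obtain ⟨a, -, ha⟩ := prop_of_pten_eq hne hfz k
        rw [Function.update_self, smul_smul] at ha
        exact hk1 _ ha.symm
      obtain ⟨w', hw'⟩ := hsum _ _ _ _ hfy1 hfz hz1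
      obtain ⟨c', hc'⟩ := prop_of_pure_add hy1 hys hw' hk hk1
      have hc0 : c' ≠ 0 := fun h => hys l (by rw [← hc', h, zero_smul])
      exact hl (c'⁻¹ * c) (by rw [mul_smul, hc, ← hc', smul_smul, inv_mul_cancel₀ hc0, one_smul])
    choose c hc using fun k => fun hk : k ≠ l => hprop k hk
    obtain ⟨z', hz'⟩ := pten_update_prop (xs := y) (ys := ys) l (fun k => if hk : k ≠ l then c k hk else 0)
      (fun k hk => by rw [dif_pos hk, hc])
    exact ⟨z', by rw [hfz, hz']⟩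
  refine ⟨l, y, hy, hall, fun z' => ?_⟩
  -- dimensions
  let g : (Fin m → F) →ₗ[F] ((ι → Fin m) → F) :=
    { toFun := fun w => pten (Function.update y l w)
      map_add' := fun a b => pten_update_add y l a b
      map_smul' := fun a b => pten_update_smul y l a b }
  have hle : LinearMap.range f ≤ LinearMap.range g := by
    rintro _ ⟨z, rfl⟩; obtain ⟨w, hw⟩ := hall z; exact ⟨w, hw.symm⟩
  have heq : LinearMap.range f = LinearMap.range g := Submodule.eq_of_le_of_finrank_le hle (by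
    rw [LinearMap.finrank_range_of_inj hfi]; exact LinearMap.finrank_range_le g)
  have : g z' ∈ LinearMap.range f := heq ▸ ⟨z', rfl⟩
  exact this

end CfsgLib.TWreath
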