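import Cfsg.Agent.TensorWreath.Pure

/-!
# Elements of the wreath group with quadratic action and the rank of a root element
-/

set_option autoImplicit false
set_option linter.unusedSectionVars false

namespace CfsgLib.TWreath

open Matrix CfsgLib.MaxSub

variable {F : Type*} [Field F] {ι : Type} [Fintype ι] [DecidableEq ι] {m : ℕ}

theorem rank_conj_sub_one' (g u : GL (ι → Fin m) F) :
    (((g * u * g⁻¹ : GL (ι → Fin m) F) : Matrix (ι → Fin m) (ι → Fin m) F) - 1).rank =
      ((u : Matrix (ι → Fin m) (ι → Fin m) F) - 1).rank := by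
  have : ((g * u * g⁻¹ : GL (ι → Fin m) F) : Matrix (ι → Fin m) (ι → Fin m) F) - 1 =
      (g : Matrix (ι → Fin m) (ι → Fin m) F) * ((u : Matrix (ι → Fin m) (ι → Fin m) F) - 1) *
        ((g⁻¹ : GL (ι → Fin m) F) : Matrix (ι → Fin m) (ι → Fin m) F) := by
    rw [Units.val_mul, Units.val_mul, mul_sub, sub_mul, mul_one, Units.mul_inv]
  rw [this, rank_mul_eq_left_of_isUnit_det _ _ ((Matrix.isUnit_iff_isUnit_det _).mp (g⁻¹).isUnit),
    rank_mul_eq_right_of_isUnit_det _ _ ((Matrix.isUnit_iff_isUnit_det _).mp g.isUnit)]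

/-- An element moving two factors, whose image contains a degenerate vector outside all blocks. -/
def SwapType (u : GL (ι → Fin m) F) : Prop :=
  ∃ a b : ι, a ≠ b ∧ HasPerm u (Equiv.swap a b) ∧ ∃ x,
    Deg (((u : Matrix (ι → Fin m) (ι → Fin m) F) - 1) *ᵥ x) ∧
    ¬ OneRank (((u : Matrix (ι → Fin m) (ι → Fin m) F) - 1) *ᵥ x)

theorem exists_indep (hm : 2 ≤ m) (c : Fin m → F) : ∃ f : Fin m → F, ∀ k : F, k • c ≠ f := by
  have hne : Submodule.span F ({c} : Set (Fin m → F)) ≠ ⊤ := by
    intro h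
    have := finrank_span_le_card ({c} : Set (Fin m → F)) (R := F)
    rw [h, finrank_top, Module.finrank_fin_fun] at this
    simp at this
    omega
  obtain ⟨f, -, hf⟩ := SetLike.exists_of_lt (lt_top_iff_ne_top.mpr hne)
  exact ⟨f, fun k hk => hf (Submodule.mem_span_singleton.mpr ⟨k, hk⟩)⟩

theorem scalar_of_eigen (A : Matrix (Fin m) (Fin m) F) [NeZero m]
    (h : ∀ x : Fin m → F, x ≠ 0 → ∃ c : F, A *ᵥ x = c • x) : ∃ c : F, A = c • 1 := by
  choose k hk using h
  have h0 : (Pi.single 0 1 : Fin m → F) ≠ 0 := by simp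
  refine ⟨k _ h0, Matrix.ext_of_mulVec_single fun j => ?_⟩
  rw [smul_mulVec, one_mulVec]
  have hj : (Pi.single j 1 : Fin m → F) ≠ 0 := by simp
  rcases eq_or_ne j 0 with rfl | hj0
  · exact hk _ hj
  have hs : (Pi.single j 1 + Pi.single 0 1 : Fin m → F) ≠ 0 := fun h => by
    simpa [hj0] using congrFun h j
  have h1 := hk _ hs
  rw [mulVec_add, hk _ hj, hk _ h0] at h1
  have e1 := congrFun h1 j
  have e2 := congrFun h1 0
  simp [hj0, Ne.symm hj0] at e1 e2
  rw [hk _ hj, e2, ← e1]

theorem exists_scalar_of_Pt_eq_one [NeZero m] {hs : ι → Matrix (Fin m) (Fin m) F} (h : Pt hs = 1) :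
    ∃ l : ι → F, (∀ k, hs k = l k • 1) ∧ ∏ k, l k = 1 := by
  have hsc : ∀ k, ∃ c : F, hs k = c • 1 := by
    intro k
    refine scalar_of_eigen _ fun x hx => ?_
    let xs : ι → Fin m → F := Function.update (fun _ => Pi.single 0 1) k x
    have hne : pten xs ≠ 0 := pten_ne_zero fun l => by
      simp only [xs]
      rcases eq_or_ne l k with rfl | hl
      · simpa using hx
      · simp [hl]
    obtain ⟨c, -, hc⟩ := prop_of_pten_eq hne
      (show pten xs = pten fun l => hs l *ᵥ xs l by rw [← Pt_mulVec_pten, h, one_mulVec]) k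
    exact ⟨c, by simpa [xs] using hc⟩
  choose l hl using hsc
  refine ⟨l, hl, ?_⟩
  have := congrFun (congrFun ((show Pt hs = (∏ k, l k) • (1 : Matrix (ι → Fin m) (ι → Fin m) F) by
    rw [← Pt_one (ι := ι), ← Pt_smul]; exact congrArg Pt (funext hl)).symm.trans h) (fun _ => 0)) (fun _ => 0)
  simpa using this

/-- A quadratic element permutes the factors by an involution. -/
theorem HasPerm.sq_eq_one_of_quadratic (hm : 2 ≤ m) {u : GL (ι → Fin m) F} {σ : Equiv.Perm ι}
    (hσ : HasPerm u σ)
    (h2 : ((u : Matrix (ι → Fin m) (ι → Fin m) F) - 1) * ((u : Matrix (ι → Fin m) (ι → Fin m) F) - 1) = 0) :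
    σ * σ = 1 := by
  obtain ⟨gs, rfl⟩ := hσ
  by_contra hne
  obtain ⟨i, hi⟩ : ∃ i, σ (σ i) ≠ i := by
    by_contra hc
    push Not at hc
    exact hne (Equiv.ext hc)
  have hi1 : σ i ≠ i := fun h => hi (by rw [h, h])
  have h21 : σ (σ i) ≠ σ i := fun h => hi1 (σ.injective h)
  let g : ι → Matrix (Fin m) (Fin m) F := fun k => (gs k : Matrix (Fin m) (Fin m) F)
  let e : Fin m → F := Pi.single ⟨0, by omega⟩ 1
  obtain ⟨d, hd⟩ := exists_dot_eq_one (x := e) (by simp [e])
  obtain ⟨f₁, hf₁⟩ := exists_indep hm (g (σ i) *ᵥ e)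
  obtain ⟨f₂, hf₂⟩ := exists_indep hm (g (σ (σ i)) *ᵥ (g (σ i) *ᵥ e))
  obtain ⟨φ₁, hφ₁, hφ₁'⟩ := exists_dot_eq_zero_one hf₁
  obtain ⟨φ₂, hφ₂, hφ₂'⟩ := exists_dot_eq_zero_one hf₂
  let xs : ι → Fin m → F := Function.update (Function.update (fun _ => e) (σ i) f₁) (σ (σ i)) f₂
  let φs : ι → Fin m → F := Function.update (Function.update (fun _ => d) (σ i) φ₁) (σ (σ i)) φ₂
  set U := ((PtG gs * pmG σ : GL (ι → Fin m) F) : Matrix (ι → Fin m) (ι → Fin m) F) with hU
  have hUx : ∀ ys, U *ᵥ pten ys = pten fun k => g k *ᵥ ys (σ.symm k) := fun ys => by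
    rw [hU, Units.val_mul, PtG_val, pmG_val, ← mulVec_mulVec, pm_mulVec_pten, Pt_mulVec_pten]
  have hxi : xs i = e := by simp [xs, Ne.symm hi1, Ne.symm hi]
  have e0 : pten φs ⬝ᵥ pten xs = 1 := by
    rw [pten_dot]
    refine Finset.prod_eq_one fun k _ => ?_
    simp only [φs, xs]
    rcases eq_or_ne k (σ (σ i)) with rfl | hk2
    · rw [Function.update_self, Function.update_self, dotProduct_comm]; exact hφ₂'
    rcases eq_or_ne k (σ i) with rfl | hk1
    · rw [Function.update_of_ne hk2, Function.update_of_ne hk2, Function.update_self, Function.update_self,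
        dotProduct_comm]
      exact hφ₁'
    · simp [hk2, hk1, hd]
  have e1 : pten φs ⬝ᵥ (U *ᵥ pten xs) = 0 := by
    rw [hUx, pten_dot]
    refine Finset.prod_eq_zero (Finset.mem_univ (σ i)) ?_
    simp only [φs, Equiv.symm_apply_apply, hxi, Function.update_of_ne h21.symm, Function.update_self]
    rw [dotProduct_comm]; exact hφ₁
  have e2 : pten φs ⬝ᵥ (U *ᵥ (U *ᵥ pten xs)) = 0 := by
    rw [hUx, hUx, pten_dot]
    refine Finset.prod_eq_zero (Finset.mem_univ (σ (σ i))) ?_
    simp only [φs, Equiv.symm_apply_apply, hxi, Function.update_self]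
    rw [dotProduct_comm]; exact hφ₂
  have := congrArg (fun A => pten φs ⬝ᵥ (A *ᵥ pten xs)) h2
  simp only [sub_mul, mul_sub, mul_one, one_mul, sub_mulVec, ← mulVec_mulVec, one_mulVec, dotProduct_sub,
    zero_mulVec, dotProduct_zero, e0, e1, e2, sub_zero, zero_sub, neg_neg] at this
  exact one_ne_zero this

theorem pow_prime_eq_one {p : ℕ} [Fact p.Prime] [CharP F p] [NeZero m] {u : GL (ι → Fin m) F}
    (h2 : ((u : Matrix (ι → Fin m) (ι → Fin m) F) - 1) * ((u : Matrix (ι → Fin m) (ι → Fin m) F) - 1) = 0) :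
    u ^ p = 1 := by
  apply Units.ext
  rw [Units.val_pow_eq_pow_val, ← sub_add_cancel (u : Matrix (ι → Fin m) (ι → Fin m) F) 1,
    add_pow_char_of_commute _ (Commute.one_right _),
    pow_eq_zero_of_le (Fact.out (p := p.Prime)).two_le (by rw [pow_two, h2]), one_pow, zero_add, Units.val_one]

theorem HasPerm.pow {g : GL (ι → Fin m) F} {σ : Equiv.Perm ι} (hg : HasPerm g σ) (n : ℕ) :
    HasPerm (g ^ n) (σ ^ n) := by
  induction n with
  | zero => exact HasPerm.one
  | succ n ih => rw [pow_succ, pow_succ]; exact ih.mul hg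

set_option maxHeartbeats 800000 in
/-- A pure element of rank `bdim` is a root element. -/
theorem classify_pure [Finite F] (hm : 3 ≤ m) {p : ℕ} [Fact p.Prime] [CharP F p] {gs : ι → GL (Fin m) F}
    (hu : (PtG gs : GL (ι → Fin m) F) ^ p = 1)
    (hrank : (((PtG gs : GL (ι → Fin m) F) : Matrix (ι → Fin m) (ι → Fin m) F) - 1).rank = bdim ι m) :
    ∃ j c φ, c ≠ 0 ∧ φ ≠ 0 ∧ φ ⬝ᵥ c = 0 ∧ PtG gs = root j c φ := by
  classical
  have : NeZero m := ⟨by omega⟩
  have hp : Fact p.Prime := inferInstance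
  -- unipotent factors
  have h1 : Pt (fun k => (gs k : Matrix (Fin m) (Fin m) F) ^ p) = 1 := by
    have h := congrArg Units.val hu
    rw [← map_pow, PtG_val, Units.val_one] at h
    simpa using h
  obtain ⟨l, hl, hlprod⟩ := exists_scalar_of_Pt_eq_one h1
  have hsurj : Function.Surjective (frobenius F p) :=
    Finite.surjective_of_injective (frobenius F p).injective
  choose μ hμ using fun k => hsurj (l k)
  simp only [frobenius_def] at hμ
  have hμprod : ∏ k, μ k = 1 := by
    refine (frobenius F p).injective ?_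
    rw [map_one, frobenius_def, ← Finset.prod_pow, Finset.prod_congr rfl fun k _ => hμ k, hlprod]
  have hμ0 : ∀ k, μ k ≠ 0 := fun k h0 => by
    rw [Finset.prod_eq_zero (Finset.mem_univ k) h0] at hμprod
    exact zero_ne_one hμprod
  let g : ι → Matrix (Fin m) (Fin m) F := fun k => (μ k)⁻¹ • (gs k : Matrix (Fin m) (Fin m) F)
  set U := ((PtG gs : GL (ι → Fin m) F) : Matrix (ι → Fin m) (ι → Fin m) F) with hU
  have hUg : U = Pt g := by
    rw [hU, PtG_val]
    conv_rhs => rw [show g = fun k => (μ k)⁻¹ • (gs k : Matrix (Fin m) (Fin m) F) from rfl,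
      Pt_smul, Finset.prod_inv_distrib, hμprod, inv_one, one_smul]
  have hgp : ∀ k, g k ^ p = 1 := fun k => by
    rw [smul_pow, hl, smul_smul, ← hμ k, inv_pow, inv_mul_cancel₀ (pow_ne_zero _ (hμ0 k)), one_smul]
  have hnil : ∀ k, (g k - 1) ^ p = 0 := fun k => by
    rw [sub_pow_char_of_commute _ (Commute.one_right _), hgp, one_pow, sub_self]
  have hb0 : 0 < bdim ι m := pow_pos (by omega) _
  obtain ⟨i, hi⟩ : ∃ i, g i ≠ 1 := by
    by_contra hc
    push Not at hc
    rw [hUg, show g = 1 from funext hc, Pt_one, sub_self, Matrix.rank_zero] at hrank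
    omega
  set N := g i - 1 with hN
  obtain ⟨x₀, hx₀⟩ : ∃ x, N *ᵥ x ≠ 0 := by
    by_contra hc
    push Not at hc
    exact hi (sub_eq_zero.mp (Matrix.ext_of_mulVec_single fun j => by rw [hc, zero_mulVec]))
  set y₀ := N *ᵥ x₀ with hy₀
  set H := Pt (fun j : {j // j ≠ i} => g j) with hH
  have hUlift : ∀ x w, U *ᵥ lift i x w = lift i (g i *ᵥ x) (H *ᵥ w) := fun x w => by
    rw [hUg, Pt_mulVec_lift]
  set D := LinearMap.range (U - 1).mulVecLin with hD
  by_cases hH1 : H = 1
  · -- only one factor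
    have hlift : ∀ x w, lift i (N *ᵥ x) w ∈ D := fun x w => by
      refine ⟨lift i x w, ?_⟩
      rw [mulVecLin_apply, sub_mulVec, one_mulVec, hUlift, hH1, one_mulVec, hN, sub_mulVec, one_mulVec,
        ]
      funext a; simp [lift_apply, sub_mul]
    have hblock : ∀ x, N *ᵥ x ≠ 0 → block i (N *ᵥ x) ≤ D := fun x hx v hv => by
      obtain ⟨w, rfl⟩ := exists_lift_of_mem_block hx hv; exact hlift x w
    have hDb : block i y₀ = D :=
      Submodule.eq_of_le_of_finrank_eq (hblock _ hx₀) (by rw [finrank_block hx₀, ← hrank]; rfl)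
    obtain ⟨f, hf, -⟩ : ∃ f : Fin m → F, f ⬝ᵥ y₀ = 1 ∧ True := by
      obtain ⟨f, hf⟩ := exists_dot_eq_one hx₀; exact ⟨f, hf, trivial⟩
    have hrow : ∀ x, N *ᵥ x = (f ⬝ᵥ (N *ᵥ x)) • y₀ := by
      intro x
      funext j
      have hmem : lift i (N *ᵥ x) (fun _ => (1 : F)) ∈ block i y₀ := hDb ▸ hlift x _
      have h := congrFun (hmem (Pi.single j 1 - y₀ j • f)
        (by rw [sub_dotProduct, smul_dotProduct, hf, single_dotProduct]; simp)) fun _ => 0
      rw [ctr_lift, mul_one, sub_dotProduct, smul_dotProduct, single_dotProduct, one_mul, Pi.zero_apply,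
        sub_eq_zero] at h
      rw [h, Pi.smul_apply, smul_eq_mul, smul_eq_mul, mul_comm]
    set φ := f ᵥ* N with hφ
    have hNe : N = vecMulVec y₀ φ := by
      refine Matrix.ext_of_mulVec_single fun j => ?_
      rw [vecMulVec_mulVec', ← dotProduct_mulVec]
      exact hrow _
    have hφ0 : φ ≠ 0 := fun h0 => hx₀ (by rw [hy₀, hrow x₀, dotProduct_mulVec, ← hφ, h0, zero_dotProduct, zero_smul])
    have hdot : φ ⬝ᵥ y₀ = 0 := by
      by_contra hne
      have hev : ∀ j : ℕ, N ^ j *ᵥ y₀ = (φ ⬝ᵥ y₀) ^ j • y₀ := by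
        intro j
        induction j with
        | zero => simp
        | succ j ih =>
          rw [pow_succ', ← mulVec_mulVec, ih, mulVec_smul, hNe, vecMulVec_mulVec', smul_smul, pow_succ]
      have := hev p
      rw [hN, hnil i, zero_mulVec] at this
      exact hne (eq_zero_of_pow_eq_zero ((smul_eq_zero.mp this.symm).resolve_right hx₀))
    refine ⟨i, y₀, φ, hx₀, hφ0, hdot, Units.ext ?_⟩
    rw [← hU, root_val hdot, ← hNe, hN, emb_sub, emb_one, add_sub_cancel]
    refine ext_pten fun xs => ?_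
    have e : pten xs = lift i (xs i) (pten fun j : {j // j ≠ i} => xs j) := by
      rw [lift_pten, Function.update_eq_self]
    rw [e, hUlift, hH1, one_mulVec, emb_mulVec_lift]
  · -- two non-trivial factors
    exfalso
    set δ := H - 1 with hδ
    have hδp : δ ^ p = 0 := by
      have hHp : H ^ p = 1 := by
        have : ∀ n, H ^ n = Pt (fun j : {j // j ≠ i} => g j ^ n) := by
          intro n
          induction n with
          | zero => simp only [pow_zero]; exact Pt_one.symm
          | succ n ih => rw [pow_succ, ih, hH, Pt_mul]; simp only [pow_succ]; rfl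
        rw [this]; simp only [hgp]; exact Pt_one
      rw [hδ, sub_pow_char_of_commute _ (Commute.one_right _), hHp, one_pow, sub_self]
    obtain ⟨w₁, hw₁⟩ : ∃ w, δ *ᵥ w ≠ 0 := by
      by_contra hc
      push Not at hc
      exact hH1 (sub_eq_zero.mp (Matrix.ext_of_mulVec_single fun j => by rw [hc, zero_mulVec]))
    obtain ⟨w₀, hw₀, hδw₀⟩ : ∃ w, w ≠ 0 ∧ δ *ᵥ w = 0 := by
      rw [Matrix.exists_mulVec_eq_zero_iff]
      have : Nonempty (Rest i m) := ⟨fun _ => 0⟩
      have := congrArg Matrix.det hδp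
      rw [det_pow, det_zero] at this
      exact eq_zero_of_pow_eq_zero this
    have hmv : ∀ x w, (U - 1) *ᵥ lift i x w = lift i (g i *ᵥ x) (H *ᵥ w) - lift i x w := fun x w => by
      rw [sub_mulVec, one_mulVec, hUlift]
    have hker : ∀ x w, δ *ᵥ w = 0 → (U - 1) *ᵥ lift i x w = lift i (N *ᵥ x) w := fun x w h => by
      rw [hmv]
      rw [hδ, sub_mulVec, one_mulVec, sub_eq_zero] at h
      rw [h, hN, sub_mulVec, one_mulVec]
      funext a; simp [lift_apply, sub_mul]
    -- the choice of the functional and of the extra vector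
    obtain ⟨l, hl0, hlN, e, he, hle, hex⟩ : ∃ l : Fin m → F, l ≠ 0 ∧ l ᵥ* N = 0 ∧
        ∃ e, e ∈ D ∧ (∀ r, (l ⬝ᵥ fun k => e (extend i k r)) = 0) ∧
          ∀ w, δ *ᵥ w = 0 → lift i y₀ w ≠ e := by
      by_cases hrk : ∃ x, ∀ k : F, k • y₀ ≠ N *ᵥ x
      · obtain ⟨x₁, hx₁⟩ := hrk
        obtain ⟨l, hl0, hl⟩ : ∃ l, l ≠ 0 ∧ l ᵥ* N = 0 := by
          rw [Matrix.exists_vecMul_eq_zero_iff]
          have := congrArg Matrix.det (hnil i)
          rw [det_pow, det_zero] at this
          exact eq_zero_of_pow_eq_zero this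
        refine ⟨l, hl0, hl, lift i (N *ᵥ x₁) w₀, ⟨_, hker x₁ w₀ hδw₀⟩, fun r => ?_, fun w _ hw => ?_⟩
        · simp only [lift_apply, extend_self, extend_rest, dotProduct, ← mul_assoc, ← Finset.sum_mul]
          rw [show ∑ k, l k * (N *ᵥ x₁) k = l ⬝ᵥ (N *ᵥ x₁) from rfl, dotProduct_mulVec, hl,
            zero_dotProduct, zero_mul]
        · obtain ⟨ψ, hψ0, hψ1⟩ := exists_dot_eq_zero_one hx₁
          obtain ⟨r, hr⟩ := Function.ne_iff.mp hw₀
          have h := congrArg (fun v => ψ ⬝ᵥ fun k => v (extend i k r)) hw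
          simp only [lift_apply, extend_self, extend_rest, dotProduct, ← mul_assoc, ← Finset.sum_mul] at h
          rw [show ∑ k, ψ k * y₀ k = ψ ⬝ᵥ y₀ from rfl, show ∑ k, ψ k * (N *ᵥ x₁) k = ψ ⬝ᵥ (N *ᵥ x₁) from rfl,
            dotProduct_comm, hψ0, dotProduct_comm, hψ1, zero_mul, one_mul] at h
          exact hr h.symm
      · push Not at hrk
        choose k hk using hrk
        obtain ⟨f, hf⟩ := exists_dot_eq_one hx₀
        set φ := f ᵥ* N with hφ
        have hrow : ∀ x, N *ᵥ x = (φ ⬝ᵥ x) • y₀ := fun x => by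
          have h' := congrArg (f ⬝ᵥ ·) (hk x)
          simp only [dotProduct_smul, hf, smul_eq_mul, mul_one] at h'
          rw [hφ, ← dotProduct_mulVec, ← h', hk]
        have hφy : φ ⬝ᵥ y₀ = 0 := by
          by_contra hne
          have hev : ∀ j : ℕ, N ^ j *ᵥ y₀ = (φ ⬝ᵥ y₀) ^ j • y₀ := by
            intro j
            induction j with
            | zero => simp
            | succ j ih => rw [pow_succ', ← mulVec_mulVec, ih, mulVec_smul, hrow, smul_smul, pow_succ]
          have := hev p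
          rw [hN, hnil i, zero_mulVec] at this
          exact hne (eq_zero_of_pow_eq_zero ((smul_eq_zero.mp this.symm).resolve_right hx₀))
        have hφ0 : φ ≠ 0 := fun h0 => hx₀ (by rw [hy₀, hrow x₀, h0, zero_dotProduct, zero_smul])
        -- a vector of the kernel independent of `y₀`
        obtain ⟨c, hφc, hc⟩ : ∃ c, φ ⬝ᵥ c = 0 ∧ ∀ k : F, k • y₀ ≠ c := by
          by_contra hcon
          push Not at hcon
          let fn : (Fin m → F) →ₗ[F] F :=
            { toFun := fun x => φ ⬝ᵥ x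
              map_add' := fun x y => dotProduct_add φ x y
              map_smul' := fun k x => dotProduct_smul k φ x }
          have hle : LinearMap.ker fn ≤ Submodule.span F {y₀} := fun c hc =>
            Submodule.mem_span_singleton.mpr (hcon c hc)
          have h1 := (Submodule.finrank_mono hle).trans
            (le_of_eq (finrank_span_singleton (show y₀ ≠ 0 from hx₀)))
          have h2 := fn.finrank_range_add_finrank_ker
          have h3 : Module.finrank F (LinearMap.range fn) ≤ 1 :=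
            (Submodule.finrank_le _).trans (le_of_eq (Module.finrank_self F))
          rw [Module.finrank_fin_fun] at h2
          omega
        refine ⟨φ, hφ0, ?_, lift i c (δ *ᵥ w₁), ⟨lift i c w₁, ?_⟩, fun r => ?_, fun w _ hw => ?_⟩
        · refine dotProduct_eq_zero _ fun x => ?_
          rw [← dotProduct_mulVec, hrow, dotProduct_smul, hφy, smul_zero]
        · have hgc : g i *ᵥ c = c := by
            rw [← sub_eq_zero]
            have := hrow c
            rw [hφc, zero_smul, hN, sub_mulVec, one_mulVec] at this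
            exact this
          rw [mulVecLin_apply, hmv, hgc, hδ, sub_mulVec, one_mulVec, map_sub]
        · simp only [lift_apply, extend_self, extend_rest, dotProduct, ← mul_assoc, ← Finset.sum_mul]
          rw [show ∑ k, φ k * c k = φ ⬝ᵥ c from rfl, hφc, zero_mul]
        · obtain ⟨ψ, hψ0, hψ1⟩ := exists_dot_eq_zero_one hc
          obtain ⟨r, hr⟩ := Function.ne_iff.mp hw₁
          have h := congrArg (fun v => ψ ⬝ᵥ fun k => v (extend i k r)) hw
          simp only [lift_apply, extend_self, extend_rest, dotProduct, ← mul_assoc, ← Finset.sum_mul] at h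
          rw [show ∑ k, ψ k * y₀ k = ψ ⬝ᵥ y₀ from rfl, show ∑ k, ψ k * c k = ψ ⬝ᵥ c from rfl,
            dotProduct_comm, hψ0, dotProduct_comm, hψ1, zero_mul, one_mul] at h
          exact hr h.symm
    let π : ((ι → Fin m) → F) →ₗ[F] (Rest i m → F) :=
      { toFun := fun v r => l ⬝ᵥ fun k => v (extend i k r)
        map_add' := fun u v => by funext r; exact dotProduct_add l _ _
        map_smul' := fun c v => by funext r; exact dotProduct_smul c l _ }
    have hπ : ∀ x w, π (lift i x w) = (l ⬝ᵥ x) • w := fun x w => by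
      funext r
      show (l ⬝ᵥ fun k => lift i x w (extend i k r)) = _
      simp only [lift_apply, extend_self, extend_rest, dotProduct, ← mul_assoc, ← Finset.sum_mul]
      rfl
    obtain ⟨z, hz⟩ := exists_dot_eq_one hl0
    rw [dotProduct_comm] at hz
    let π' := π.domRestrict D
    have hr1 : LinearMap.range δ.mulVecLin ≤ LinearMap.range π' := by
      rintro _ ⟨w, rfl⟩
      refine ⟨⟨_, ⟨lift i z w, rfl⟩⟩, ?_⟩
      show π ((U - 1) *ᵥ lift i z w) = δ *ᵥ w
      have hlg : l ⬝ᵥ (g i *ᵥ z) = 1 := by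
        have h' : l ⬝ᵥ (N *ᵥ z) = 0 := by rw [dotProduct_mulVec, hlN, zero_dotProduct]
        rwa [hN, sub_mulVec, one_mulVec, dotProduct_sub, hz, sub_eq_zero] at h'
      rw [hmv, map_sub, hπ, hπ, hlg, hz, one_smul, one_smul, hδ, sub_mulVec, one_mulVec]
    set K := LinearMap.ker δ.mulVecLin with hK
    have hly : l ⬝ᵥ y₀ = 0 := by rw [hy₀, dotProduct_mulVec, hlN, zero_dotProduct]
    have hS : K.map (lift i y₀) < D ⊓ LinearMap.ker π := by
      refine lt_of_le_of_ne ?_ fun heq => ?_
      · rintro _ ⟨w, hw, rfl⟩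
        exact ⟨⟨lift i x₀ w, by rw [mulVecLin_apply, hker x₀ w hw]⟩,
          show π _ = 0 by rw [hπ, hly, zero_smul]⟩
      · obtain ⟨w, hw, hwe⟩ : e ∈ K.map (lift i y₀) := heq ▸
          ⟨he, show π e = 0 from funext hle⟩
        exact hex w hw hwe
    have h1' := Submodule.finrank_lt_finrank_of_lt hS
    rw [← (Submodule.equivMapOfInjective _ (lift_injective hx₀) K).finrank_eq] at h1'
    have h2' : Module.finrank F (D ⊓ LinearMap.ker π : Submodule F _) ≤
        Module.finrank F (LinearMap.ker π') := by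
      let f : (D ⊓ LinearMap.ker π : Submodule F _) →ₗ[F] LinearMap.ker π' :=
        { toFun := fun v => ⟨⟨v.1, v.2.1⟩, v.2.2⟩
          map_add' := fun _ _ => rfl
          map_smul' := fun _ _ => rfl }
      exact LinearMap.finrank_le_finrank_of_injective (f := f) fun u v h =>
        Subtype.ext (congrArg (fun w : LinearMap.ker π' => (w.1 : (ι → Fin m) → F)) h)
    have h3 := π'.finrank_range_add_finrank_ker
    have h4 := δ.mulVecLin.finrank_range_add_finrank_ker
    rw [Module.finrank_pi, card_rest, ← hK] at h4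
    have h5 := Submodule.finrank_mono hr1
    have hr' : Module.finrank F D = bdim ι m := hrank
    linarith

section swap

variable {a b : ι}

/-- The indices other than `a` and `b`. -/
abbrev Rest2 (a b : ι) (m : ℕ) : Type := {j // j ≠ a ∧ j ≠ b} → Fin m

/-- `x ⊗ y ⊗ w` with `x`, `y` in the factors `a`, `b`. -/
def lift2 (a b : ι) (x y : Fin m → F) : (Rest2 a b m → F) →ₗ[F] ((ι → Fin m) → F) where
  toFun w t := x (t a) * y (t b) * w fun j => t j
  map_add' u v := by funext t; exact mul_add _ _ _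
  map_smul' c v := by funext t; simp [mul_left_comm]

theorem lift2_apply (x y : Fin m → F) (w : Rest2 a b m → F) (t : ι → Fin m) :
    lift2 a b x y w t = x (t a) * y (t b) * w fun j => t j := rfl

theorem lift2_pten (hab : a ≠ b) (x y : Fin m → F) (zs : ι → Fin m → F) :
    lift2 a b x y (pten fun j : {j // j ≠ a ∧ j ≠ b} => zs j) =
      pten (Function.update (Function.update zs b y) a x) := by
  funext t
  rw [lift2_apply, pten_update, mul_assoc]
  congr 1
  rw [← Finset.mul_prod_erase _ _ (Finset.mem_erase.mpr ⟨hab.symm, Finset.mem_univ b⟩), Function.update_self]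
  congr 1
  show ∏ j : {j // j ≠ a ∧ j ≠ b}, zs j (t j) = _
  rw [← Finset.prod_subtype ((Finset.univ.erase a).erase b) (p := fun j => j ≠ a ∧ j ≠ b)
    (fun j => by simp [and_comm]) fun j => zs j (t j)]
  exact Finset.prod_congr rfl fun j hj => by rw [Function.update_of_ne (Finset.ne_of_mem_erase hj)]

theorem bdim_eq_mul_card_rest2 (hab : a ≠ b) :
    bdim ι m = m * Fintype.card (Rest2 a b m) := by
  rw [bdim, Fintype.card_fun, Fintype.card_fin]
  have h2 : Fintype.card {j // j ≠ a ∧ j ≠ b} + 2 = Fintype.card ι := by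
    rw [Fintype.card_subtype, show (Finset.univ.filter fun j => j ≠ a ∧ j ≠ b) = (Finset.univ.erase a).erase b by
      ext j; simp [and_comm]]
    rw [Finset.card_erase_of_mem (by simp [hab.symm]), Finset.card_erase_of_mem (Finset.mem_univ a),
      Finset.card_univ]
    have : 2 ≤ Fintype.card ι := by
      rw [← Finset.card_univ]
      exact le_trans (by rw [Finset.card_pair hab]) (Finset.card_le_card (Finset.subset_univ {a, b}))
    omega
  rw [← h2, ← pow_succ']
  rfl

set_option maxHeartbeats 1600000 in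
/-- A quadratic element of rank `bdim` moving a factor is of swap type (characteristic two). -/
theorem classify_swap [CharP F 2] (hm : 3 ≤ m) {u : GL (ι → Fin m) F} {σ : Equiv.Perm ι}
    (hu : HasPerm u σ) (hσ : σ ≠ 1)
    (h2 : ((u : Matrix (ι → Fin m) (ι → Fin m) F) - 1) * ((u : Matrix (ι → Fin m) (ι → Fin m) F) - 1) = 0)
    (hrank : ((u : Matrix (ι → Fin m) (ι → Fin m) F) - 1).rank = bdim ι m) :
    SwapType u := by
  classical
  have : NeZero m := ⟨by omega⟩
  have hσσ := hu.sq_eq_one_of_quadratic (by omega) h2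
  have hinv : ∀ k, σ (σ k) = k := fun k => by rw [← Equiv.Perm.mul_apply, hσσ]; rfl
  have hsymm : σ.symm = σ := Equiv.ext fun k => σ.injective (by simp [hinv])
  obtain ⟨a, ha⟩ : ∃ a, σ a ≠ a := by
    by_contra hc
    push Not at hc
    exact hσ (Equiv.ext hc)
  set b := σ a with hb
  have hab : a ≠ b := Ne.symm ha
  have hbb : σ b = a := hinv a
  obtain ⟨gs, hgs⟩ := hu
  -- normalise the factor `b`
  set h := (gs b)⁻¹ with hh
  set P := (embG b h : GL (ι → Fin m) F) with hP
  set gs' : ι → GL (Fin m) F :=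
    Function.update (1 : ι → GL (Fin m) F) b h * (gs * fun k => (Function.update (1 : ι → GL (Fin m) F) b h)⁻¹ (σ.symm k)) with hgs'
  set u' := P * u * P⁻¹ with hu'
  have hu'e : u' = PtG gs' * pmG σ := by
    rw [hu', hP, hgs, hgs', embG_eq_PtG, ← map_inv, map_mul, map_mul]
    simp only [mul_assoc]
    rw [pmG_mul_PtG]
  have hgb : gs' b = 1 := by
    rw [hgs']
    simp only [Pi.mul_apply, Pi.inv_apply, Function.update_self, hsymm, hbb, Function.update_of_ne hab,
      Pi.one_apply, inv_one, mul_one]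
    rw [hh, inv_mul_cancel]
  set U := (u' : Matrix (ι → Fin m) (ι → Fin m) F) with hU
  have hUU : U * U = 1 := by
    have h22 : (U - 1) * (U - 1) = 0 := by
      have e : U - 1 = (P : Matrix (ι → Fin m) (ι → Fin m) F) *
          ((u : Matrix (ι → Fin m) (ι → Fin m) F) - 1) * ((P⁻¹ : GL (ι → Fin m) F) : Matrix (ι → Fin m) (ι → Fin m) F) := by
        rw [hU, hu', Units.val_mul, Units.val_mul, mul_sub, sub_mul, mul_one, Units.mul_inv]
      rw [e, mul_assoc, ← mul_assoc (((P⁻¹ : GL (ι → Fin m) F)) : Matrix (ι → Fin m) (ι → Fin m) F),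
        ← mul_assoc (((P⁻¹ : GL (ι → Fin m) F)) : Matrix (ι → Fin m) (ι → Fin m) F), Units.inv_mul, one_mul,
        ← mul_assoc, mul_assoc (P : Matrix (ι → Fin m) (ι → Fin m) F), h2, mul_zero, zero_mul]
    have h20 : (2 : Matrix (ι → Fin m) (ι → Fin m) F) = 0 := CharTwo.two_eq_zero
    have : U * U = (U - 1) * (U - 1) + 2 * U - 1 := by noncomm_ring
    rw [this, h22, h20, zero_mul, add_zero, zero_sub, CharTwo.neg_eq]
  let g : ι → Matrix (Fin m) (Fin m) F := fun k => (gs' k : Matrix (Fin m) (Fin m) F)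
  have hUp : ∀ ys, U *ᵥ pten ys = pten fun k => g k *ᵥ ys (σ k) := fun ys => by
    rw [hU, hu'e, Units.val_mul, PtG_val, pmG_val, ← mulVec_mulVec, pm_mulVec_pten, Pt_mulVec_pten, hsymm]
  obtain ⟨l, hl, -⟩ := exists_scalar_of_Pt_eq_one (hs := fun k => g k * g (σ k)) (by
    refine ext_pten fun ys => ?_
    rw [Pt_mulVec_pten, ← hUU, ← mulVec_mulVec, hUp, hUp]
    simp only [mulVec_mulVec, hinv])
  have hga : g a = l a • 1 := by
    have := hl a
    simp only [g] at this ⊢
    rwa [← hb, hgb, Units.val_one, mul_one] at this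
  have hsub : ∀ k, (k ≠ a ∧ k ≠ b) ↔ (σ k ≠ a ∧ σ k ≠ b) := fun k => by
    constructor
    · rintro ⟨h1, h2⟩
      exact ⟨fun h => h2 (σ.injective (h.trans hbb.symm)), fun h => h1 (σ.injective (h.trans hb))⟩
    · rintro ⟨h1, h2⟩
      exact ⟨fun h => h2 (by rw [h, hb]), fun h => h1 (by rw [h, hbb])⟩
  let σ' : Equiv.Perm {j // j ≠ a ∧ j ≠ b} := σ.subtypePerm fun k => (hsub k).symm
  set H := l a • (Pt (fun j : {j // j ≠ a ∧ j ≠ b} => g j) * pm σ') with hHdef
  have hUl : ∀ x y w, U *ᵥ lift2 a b x y w = lift2 a b y x (H *ᵥ w) := by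
    intro x y w
    conv_lhs => rw [eq_sum_pten w, map_sum]
    conv_rhs => rw [eq_sum_pten w]
    rw [mulVec_sum, mulVec_sum, map_sum]
    refine Finset.sum_congr rfl fun r _ => ?_
    rw [map_smul, mulVec_smul, mulVec_smul, map_smul]
    congr 1
    let zs : ι → Fin m → F := fun j => if h : j ≠ a ∧ j ≠ b then Pi.single (r ⟨j, h⟩) 1 else 0
    have hzs : (fun j : {j // j ≠ a ∧ j ≠ b} => Pi.single (r j) (1 : F)) =
        fun j : {j // j ≠ a ∧ j ≠ b} => zs j := by
      funext j; simp [zs, j.2]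
    rw [hzs, lift2_pten hab, hUp, hHdef, smul_mulVec, map_smul, ← mulVec_mulVec, pm_mulVec_pten, Pt_mulVec_pten]
    have hs' : ∀ j : {j // j ≠ a ∧ j ≠ b}, (σ'.symm j : ι) = σ j := fun j => by
      refine σ.injective ?_
      rw [hinv]
      exact congrArg Subtype.val (σ'.apply_symm_apply j)
    rw [show (fun k : {j // j ≠ a ∧ j ≠ b} => g k *ᵥ zs (σ'.symm k)) =
      (fun k : {j // j ≠ a ∧ j ≠ b} => g k *ᵥ zs (σ k)) by funext k; rw [hs'],
      lift2_pten hab y x (fun k => g k *ᵥ zs (σ k)), ← pten_update_smul]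
    congr 1
    funext k
    rcases eq_or_ne k a with rfl | hka
    · rw [Function.update_self, ← hb, hga, smul_mulVec, one_mulVec, Function.update_of_ne hab.symm,
        Function.update_self]
    rcases eq_or_ne k b with rfl | hkb
    · rw [Function.update_of_ne hka, Function.update_self, hbb, Function.update_self]
      simp only [g, hgb, Units.val_one, one_mulVec]
    · have := ((hsub k).mp ⟨hka, hkb⟩)
      rw [Function.update_of_ne hka, Function.update_of_ne hkb, Function.update_of_ne this.1,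
        Function.update_of_ne this.2]
  -- coordinates
  let e : Fin m → Fin m → F := fun i => Pi.single i 1
  let ext2 : Fin m → Fin m → Rest2 a b m → (ι → Fin m) := fun p q r j =>
    if h : j ≠ a ∧ j ≠ b then r ⟨j, h⟩ else if j = a then p else q
  have hext : ∀ p q r, ext2 p q r a = p ∧ ext2 p q r b = q ∧ (fun j : {j // j ≠ a ∧ j ≠ b} => ext2 p q r j) = r := by
    intro p q r
    exact ⟨by simp [ext2], by simp [ext2, hab.symm], funext fun j => by simp [ext2, j.2]⟩
  have hread : ∀ (x y : Fin m → F) (w : Rest2 a b m → F) p q r,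
      lift2 a b x y w (ext2 p q r) = x p * y q * w r := fun x y w p q r => by
    rw [lift2_apply, (hext p q r).1, (hext p q r).2.1, (hext p q r).2.2]
  set T := U - 1 with hT
  have hTl : ∀ x y w, T *ᵥ lift2 a b x y w = lift2 a b y x (H *ᵥ w) - lift2 a b x y w := fun x y w => by
    rw [hT, sub_mulVec, one_mulVec, hUl]
  have hrankT : T.rank = bdim ι m := by
    rw [← hrank, hT, hU, hu', rank_conj_sub_one' P u]
  let P2 := {pq : Fin m × Fin m // pq.1 < pq.2}
  let Φ : (P2 → Rest2 a b m → F) →ₗ[F] ((ι → Fin m) → F) :=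
    ∑ pq : P2, T.mulVecLin ∘ₗ lift2 a b (e pq.1.1) (e pq.1.2) ∘ₗ LinearMap.proj pq
  have hΦ : ∀ f, Φ f = ∑ pq : P2, T *ᵥ lift2 a b (e pq.1.1) (e pq.1.2) (f pq) := fun f => by
    simp [Φ, LinearMap.sum_apply]
  have hΦval : ∀ f p q r, p ≤ q → Φ f (ext2 p q r) = if h : p < q then - f ⟨(p, q), h⟩ r else 0 := by
    intro f p q r hpq
    rw [hΦ, Finset.sum_apply]
    have hterm : ∀ x : P2, (T *ᵥ lift2 a b (e x.1.1) (e x.1.2) (f x)) (ext2 p q r) =
        if x.1 = (p, q) then - f x r else 0 := by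
      rintro ⟨⟨p', q'⟩, hlt⟩
      rw [hTl, Pi.sub_apply, hread, hread]
      have h1 : e q' p * e p' q = 0 := by
        simp only [e, Pi.single_apply]
        split_ifs with h1 h2 <;> simp
        subst h1 h2
        exact absurd hlt (not_lt.mpr hpq)
      rw [h1, zero_mul, zero_sub]
      simp only [e, Pi.single_apply]
      by_cases hp : p = p'
      · by_cases hq : q = q'
        · subst hp hq; simp
        · simp [hq, Ne.symm hq]
      · simp [hp, Ne.symm hp]
    simp only [hterm]
    split_ifs with hlt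
    · rw [Finset.sum_eq_single ⟨(p, q), hlt⟩ (fun x _ hx => if_neg fun h => hx (Subtype.ext h))
        (by simp)]
      simp
    · exact Finset.sum_eq_zero fun x _ => if_neg fun h => hlt (by have := x.2; rw [h] at this; exact this)
  have hΦi : Function.Injective Φ := by
    intro f f' hff
    funext pq r
    have := congrFun hff (ext2 pq.1.1 pq.1.2 r)
    rw [hΦval _ _ _ _ pq.2.le, hΦval _ _ _ _ pq.2.le, dif_pos pq.2, dif_pos pq.2, neg_inj] at this
    exact this
  have hΦD : LinearMap.range Φ ≤ LinearMap.range T.mulVecLin := by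
    rintro _ ⟨f, rfl⟩
    rw [hΦ]
    exact Submodule.sum_mem _ fun pq _ => ⟨_, rfl⟩
  have hcard := LinearMap.finrank_range_of_inj hΦi
  rw [Module.finrank_pi_fintype] at hcard
  simp only [Module.finrank_pi, Finset.sum_const, Finset.card_univ, smul_eq_mul] at hcard
  have hle := Submodule.finrank_mono hΦD
  rw [Matrix.rank, bdim_eq_mul_card_rest2 hab] at hrankT
  rw [hcard, hrankT] at hle
  have hpos : 0 < Fintype.card (Rest2 a b m) := Fintype.card_pos_iff.mpr ⟨fun _ => 0⟩
  obtain rfl : m = 3 := by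
    by_contra hm3
    have h4 : m + 1 ≤ Fintype.card P2 := by
      let f : Fin (m + 1) → P2 := fun k =>
        if h : k.val + 1 < m then ⟨(⟨0, by omega⟩, ⟨k.val + 1, h⟩), Fin.mk_lt_mk.mpr (Nat.succ_pos _)⟩
        else if k.val + 1 = m then ⟨(⟨1, by omega⟩, ⟨2, by omega⟩), Fin.mk_lt_mk.mpr (by omega)⟩
        else ⟨(⟨1, by omega⟩, ⟨3, by omega⟩), Fin.mk_lt_mk.mpr (by omega)⟩
      have hf : Function.Injective f := by
        intro k k' h
        simp only [f] at h
        ext
        have := k.isLt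
        have := k'.isLt
        split_ifs at h <;> simp only [P2, Subtype.mk.injEq, Prod.mk.injEq, Fin.mk.injEq] at h <;> omega
      simpa using Fintype.card_le_of_injective f hf
    have h5 := le_of_mul_le_mul_right hle hpos
    omega
  have hP2 : Fintype.card P2 = 3 := rfl
  have hH1 : H = 1 := by
    by_contra hne
    obtain ⟨w, hw⟩ : ∃ w, H *ᵥ w ≠ w := by
      by_contra hc
      push Not at hc
      exact hne (Matrix.ext_of_mulVec_single fun j => by rw [hc, one_mulVec])
    obtain ⟨r, hr⟩ := Function.ne_iff.mp hw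
    have hlt : LinearMap.range Φ < LinearMap.range T.mulVecLin := by
      refine lt_of_le_of_ne hΦD fun heq => ?_
      obtain ⟨f, hf⟩ : T *ᵥ lift2 a b (e 0) (e 0) w ∈ LinearMap.range Φ := heq ▸ ⟨_, rfl⟩
      have := congrFun hf (ext2 0 0 r)
      rw [hΦval _ _ _ _ le_rfl, dif_neg (lt_irrefl _), hTl, Pi.sub_apply, hread, hread] at this
      simp [e] at this
      exact hr (sub_eq_zero.mp this.symm)
    have := Submodule.finrank_lt_finrank_of_lt hlt
    rw [hcard, hrankT, hP2] at this
    omega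
  -- the witness
  let X : Rest2 a b 3 → F := fun r => if ∀ j, r j = 0 then 1 else 0
  let Y : Rest2 a b 3 → F := fun r => if ∀ j, r j = 1 then 1 else 0
  set v := T *ᵥ (lift2 a b (e 0) (e 1) X + lift2 a b (e 0) (e 2) Y) with hv
  have hvt : ∀ t, v t =
      e 1 (t a) * e 0 (t b) * X (fun j => t j) - e 0 (t a) * e 1 (t b) * X (fun j => t j) +
      (e 2 (t a) * e 0 (t b) * Y (fun j => t j) - e 0 (t a) * e 2 (t b) * Y (fun j => t j)) := fun t => by
    rw [hv, mulVec_add, hTl, hTl, hH1, one_mulVec, one_mulVec]; rfl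
  have hdeg : Deg v := by
    by_cases hne : ∃ j, j ≠ a ∧ j ≠ b
    · obtain ⟨j, hj⟩ := hne
      refine ⟨j, e 2, by simp [e], funext fun t => ?_⟩
      show e 2 ⬝ᵥ (fun k => v (Function.update t j k)) = 0
      rw [show e 2 = Pi.single 2 1 from rfl, single_dotProduct, one_mul, hvt]
      have hX : X (fun i => Function.update t j 2 i) = 0 := if_neg fun h => by
        have := h ⟨j, hj⟩; simp at this
      have hY : Y (fun i => Function.update t j 2 i) = 0 := if_neg fun h => by
        have := h ⟨j, hj⟩; simp at this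
      simp [hX, hY]
    · push Not at hne
      refine ⟨a, e 1 + e 2, fun h => by simpa [e] using congrFun h 1, funext fun t => ?_⟩
      have hX : ∀ r, X r = 1 := fun r => if_pos (fun j : {j // j ≠ a ∧ j ≠ b} => absurd (hne j.1 j.2.1) j.2.2)
      have hY : ∀ r, Y r = 1 := fun r => if_pos (fun j : {j // j ≠ a ∧ j ≠ b} => absurd (hne j.1 j.2.1) j.2.2)
      show (e 1 + e 2) ⬝ᵥ (fun k => v (Function.update t a k)) = 0
      simp [e, add_dotProduct, hvt, hX, hY, Function.update_of_ne hab.symm, CharTwo.add_self_eq_zero]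
  have hnone : ¬ OneRank v := by
    rintro ⟨k, c, hc, hmem⟩
    obtain ⟨w, hw⟩ := exists_lift_of_mem_block hc hmem
    have hcr : ∀ (x y : Fin 3) (t : ι → Fin 3),
        v (Function.update t k x) * c y = v (Function.update t k y) * c x := fun x y t => by
      rw [hw, lift_apply, lift_apply, update_eq_extend, update_eq_extend, extend_self, extend_self,
        extend_rest, extend_rest]
      ring
    have hupd : ∀ p q r, (k = a → ∀ x, v (Function.update (ext2 p q r) k x) = v (ext2 x q r)) ∧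
        (k = b → ∀ x, v (Function.update (ext2 p q r) k x) = v (ext2 p x r)) := fun p q r => by
      constructor <;> intro hk x <;> rw [hk] <;> refine congrArg v (funext fun j => ?_) <;>
        by_cases hja : j = a <;> by_cases hjb : j = b <;>
        simp [ext2, hja, hjb, hab, hab.symm]
    have hve : ∀ p q r, v (ext2 p q r) = e 1 p * e 0 q * X r - e 0 p * e 1 q * X r +
        (e 2 p * e 0 q * Y r - e 0 p * e 2 q * Y r) := fun p q r => by
      rw [hvt, (hext p q r).1, (hext p q r).2.1, (hext p q r).2.2]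
    let r0 : Rest2 a b 3 := fun _ => 0
    have hX0 : X r0 = 1 := if_pos fun _ => rfl
    refine hc (funext fun i => ?_)
    rcases eq_or_ne k a with hka | hka
    · have E : ∀ q x y, v (ext2 x q r0) * c y = v (ext2 y q r0) * c x := fun q x y => by
        have := hcr x y (ext2 0 q r0)
        rwa [(hupd _ _ _).1 hka, (hupd _ _ _).1 hka] at this
      have h1 := E 1 0 1
      have h2 := E 1 0 2
      have h3 := E 0 1 0
      simp [hve, e, hX0] at h1 h2 h3
      fin_cases i <;> simp_all
    rcases eq_or_ne k b with hkb | hkb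
    · have E : ∀ p x y, v (ext2 p x r0) * c y = v (ext2 p y r0) * c x := fun p x y => by
        have := hcr x y (ext2 p 0 r0)
        rwa [(hupd _ _ _).2 hkb, (hupd _ _ _).2 hkb] at this
      have h1 := E 1 0 1
      have h2 := E 1 0 2
      have h3 := E 0 1 0
      simp [hve, e, hX0] at h1 h2 h3
      fin_cases i <;> simp_all
    · let r1 : Rest2 a b 3 := fun _ => 1
      let j : {j // j ≠ a ∧ j ≠ b} := ⟨k, hka, hkb⟩
      have hup : ∀ p q r x, Function.update (ext2 p q r) k x = ext2 p q (Function.update r j x) := by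
        intro p q r x
        funext i
        by_cases hik : i = k
        · subst hik; simp [ext2, hka, hkb, j]
        · by_cases hi : i ≠ a ∧ i ≠ b
          · simp [ext2, hik, hi, j]
          · simp [ext2, hik, hi]
      have h1 := hcr 0 1 (ext2 1 0 r0)
      have h2 := hcr 0 2 (ext2 1 0 r0)
      have h3 := hcr 1 0 (ext2 2 0 r1)
      have u0 : Function.update r0 j 0 = r0 := Function.update_eq_self j r0
      have u1 : Function.update r1 j 1 = r1 := Function.update_eq_self j r1
      have hX1 : X (Function.update r0 j 1) = 0 := if_neg fun h => by simpa using h j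
      have hX2 : X (Function.update r0 j 2) = 0 := if_neg fun h => by simpa using h j
      have hY0 : Y (Function.update r1 j 0) = 0 := if_neg fun h => by simpa using h j
      have hY1 : Y r1 = 1 := if_pos fun _ => rfl
      simp [hup, hve, e, u0, u1, hX0, hX1, hX2, hY0, hY1] at h1 h2 h3
      fin_cases i <;> simp_all
  -- transfer back
  have hσe : σ = Equiv.swap a b := by
    refine Equiv.ext fun k => ?_
    rcases eq_or_ne k a with rfl | hka
    · rw [Equiv.swap_apply_left]
    rcases eq_or_ne k b with rfl | hkb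
    · rw [Equiv.swap_apply_right, hbb]
    rw [Equiv.swap_apply_of_ne_of_ne hka hkb]
    by_contra hne
    -- a second moved pair contradicts `H = 1`
    have hz : HasPerm (1 : GL (Rest2 a b 3) F) σ' := by
      have hdetl : l a ≠ 0 := fun h0 => by
        rw [hHdef, h0, zero_smul] at hH1; exact zero_ne_one hH1
      let gl : {j // j ≠ a ∧ j ≠ b} → GL (Fin 3) F := fun j =>
        if j.1 = k then GeneralLinearGroup.mkOfDetNeZero (l a • g j)
          (by
            rw [det_smul]
            exact mul_ne_zero (pow_ne_zero _ hdetl)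
              ((Matrix.isUnit_iff_isUnit_det _).mp (gs' j).isUnit).ne_zero)
        else gs' j
      refine ⟨gl, Units.ext ?_⟩
      rw [Units.val_one, ← hH1, hHdef, Units.val_mul, PtG_val, pmG_val, ← smul_mul]
      congr 1
      rw [show (fun j : {j // j ≠ a ∧ j ≠ b} => (gl j : Matrix (Fin 3) (Fin 3) F)) =
        fun j : {j // j ≠ a ∧ j ≠ b} => (if j.1 = k then l a else 1) • g j by funext j; simp only [gl, g]; split_ifs <;> simp]
      rw [Pt_smul, Finset.prod_eq_single (⟨k, hka, hkb⟩ : {j // j ≠ a ∧ j ≠ b})]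
      · simp
      · intro j _ hj; rw [if_neg fun h => hj (Subtype.ext h)]
      · simp
    have := congrArg (fun π : Equiv.Perm {j // j ≠ a ∧ j ≠ b} => (π ⟨k, hka, hkb⟩).1)
      (hz.unique (by norm_num) HasPerm.one)
    exact hne this
  have hPi : HasPerm P⁻¹ 1 := by
    rw [hP, embG_eq_PtG, ← map_inv]; exact ⟨(Function.update 1 b h)⁻¹, by simp⟩
  refine ⟨a, b, hab, hσe ▸ ⟨gs, hgs⟩, ((P⁻¹ : GL (ι → Fin 3) F) : Matrix (ι → Fin 3) (ι → Fin 3) F) *ᵥ
    (lift2 a b (e 0) (e 1) X + lift2 a b (e 0) (e 2) Y), ?_⟩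
  have hback : ((u : Matrix (ι → Fin 3) (ι → Fin 3) F) - 1) *
      ((P⁻¹ : GL (ι → Fin 3) F) : Matrix (ι → Fin 3) (ι → Fin 3) F) =
      ((P⁻¹ : GL (ι → Fin 3) F) : Matrix (ι → Fin 3) (ι → Fin 3) F) * T := by
    rw [hT, hU, mul_sub, sub_mul, one_mul, mul_one, ← Units.val_mul, ← Units.val_mul, hu']
    simp [mul_assoc]
  rw [mulVec_mulVec, hback, ← mulVec_mulVec, ← hv]
  refine ⟨hPi.map_deg hdeg, fun hor => hnone ?_⟩
  have := hPi.inv.map_oneRank hor
  rwa [inv_inv, mulVec_mulVec, Units.mul_inv, one_mulVec] at this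

end swap

/-- Quadratic elements of the wreath group of rank `bdim`: root elements, or swaps in characteristic two. -/
theorem classify [Finite F] (hm : 3 ≤ m) {p : ℕ} [Fact p.Prime] [CharP F p] {u : GL (ι → Fin m) F}
    {σ : Equiv.Perm ι} (hu : HasPerm u σ)
    (h2 : ((u : Matrix (ι → Fin m) (ι → Fin m) F) - 1) * ((u : Matrix (ι → Fin m) (ι → Fin m) F) - 1) = 0)
    (hr : ((u : Matrix (ι → Fin m) (ι → Fin m) F) - 1).rank = bdim ι m) :
    (∃ j c φ, c ≠ 0 ∧ φ ≠ 0 ∧ φ ⬝ᵥ c = 0 ∧ u = root j c φ) ∨ (p = 2 ∧ SwapType u) := by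
  have : NeZero m := ⟨by omega⟩
  by_cases hσ : σ = 1
  · subst hσ
    obtain ⟨gs, rfl⟩ := hu
    rw [map_one, mul_one] at h2 hr ⊢
    exact Or.inl (classify_pure hm (pow_prime_eq_one (p := p) h2) hr)
  · have hσ2 := hu.sq_eq_one_of_quadratic (by omega) h2
    have hσp : σ ^ p = 1 := by
      have := hu.pow p
      rw [pow_prime_eq_one h2] at this
      exact (HasPerm.one.unique (by omega) this).symm
    have hp2 : p = 2 := by
      by_contra hne
      obtain ⟨k, hk⟩ := (Fact.out (p := p.Prime)).odd_of_ne_two hne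
      rw [hk, pow_succ, pow_mul, pow_two, hσ2, one_pow, one_mul] at hσp
      exact hσ hσp
    subst hp2
    exact Or.inr ⟨rfl, classify_swap hm hu hσ h2 hr⟩

end CfsgLib.TWreath
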