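import Cfsg.Agent.TensorWreath.Basic

/-!
# Elementary tensor transvections

`El M T`: `M` contains `1 + l • E` for every tensor product `E` of off-diagonal matrix units on the factors
in `T` (identity elsewhere).  Such sets merge along overlaps, and `El M univ` gives the special linear group.
-/

set_option autoImplicit false
set_option linter.unusedSectionVars false

namespace CfsgLib.TWreath

open Matrix CfsgLib.MaxSub Cfsg.Geo

variable {F : Type*} [Field F] {ι : Type} [Fintype ι] [DecidableEq ι] {m : ℕ}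

/-- The tensor product of the matrix units `(a k, b k)` over `k ∈ T`. -/
def eT (T : Finset ι) (a b : ι → Fin m) : Matrix (ι → Fin m) (ι → Fin m) F :=
  Pt fun k => if k ∈ T then Matrix.single (a k) (b k) 1 else 1

/-- `M` contains all elementary tensor transvections on `T`. -/
def El (M : Subgroup (GL (ι → Fin m) F)) (T : Finset ι) : Prop :=
  ∀ a b : ι → Fin m, (∀ k ∈ T, a k ≠ b k) → ∀ l : F,
    ∃ g ∈ M, (g : Matrix (ι → Fin m) (ι → Fin m) F) = 1 + l • eT T a b

theorem Pt_eq_zero {gs : ι → Matrix (Fin m) (Fin m) F} {k : ι} (h : gs k = 0) : Pt gs = 0 := by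
  ext x y
  exact Finset.prod_eq_zero (Finset.mem_univ k) (by rw [h]; rfl)

theorem eT_congr {T : Finset ι} {a b a' b' : ι → Fin m} (ha : ∀ k ∈ T, a k = a' k) (hb : ∀ k ∈ T, b k = b' k) :
    (eT T a b : Matrix (ι → Fin m) (ι → Fin m) F) = eT T a' b' := by
  unfold eT
  congr 1
  funext k
  split_ifs with h
  · rw [ha k h, hb k h]
  · rfl

theorem eT_mul_eT_eq_zero {T T' : Finset ι} {a b a' b' : ι → Fin m} {k : ι} (hk : k ∈ T) (hk' : k ∈ T')
    (h : b k ≠ a' k) : (eT T a b : Matrix (ι → Fin m) (ι → Fin m) F) * eT T' a' b' = 0 := by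
  rw [eT, eT, Pt_mul]
  refine Pt_eq_zero (k := k) ?_
  rw [Pi.mul_apply, if_pos hk, if_pos hk', single_mul_single_of_ne _ _ _ _ h]

theorem eT_sq {T : Finset ι} {a b : ι → Fin m} {k : ι} (hk : k ∈ T) (h : a k ≠ b k) :
    (eT T a b : Matrix (ι → Fin m) (ι → Fin m) F) * eT T a b = 0 := eT_mul_eT_eq_zero hk hk h.symm

theorem emb_single_mul_eT {T : Finset ι} {a b : ι → Fin m} {k : ι} (hk : k ∈ T) (c : Fin m) :
    emb k (Matrix.single c (a k) (1 : F)) * eT T a b = eT T (Function.update a k c) b := by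
  rw [eT, eT, emb, Pt_mul]
  congr 1
  funext j
  rcases eq_or_ne j k with rfl | hj
  · simp [hk]
  · simp [hj]

theorem eT_mul_emb_single {T : Finset ι} {a b : ι → Fin m} {k : ι} (hk : k ∈ T) (d : Fin m) :
    eT T a b * emb k (Matrix.single (b k) d (1 : F)) = eT T a (Function.update b k d) := by
  rw [eT, eT, emb, Pt_mul]
  congr 1
  funext j
  rcases eq_or_ne j k with rfl | hj
  · simp [hk]
  · simp [hj]

theorem emb_single_eq (k : ι) (c d : Fin m) :
    emb k (Matrix.single c d (1 : F)) = eT {k} (fun _ => c) fun _ => d := by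
  rw [emb, eT]
  congr 1
  funext j
  rcases eq_or_ne j k with rfl | hj
  · simp
  · simp [hj]

/-- The root element of a matrix unit. -/
theorem exists_root_single {M : Subgroup (GL (ι → Fin m) F)}
    (hr : ∀ i (c φ : Fin m → F), φ ⬝ᵥ c = 0 → root i c φ ∈ M) (k : ι) {c d : Fin m} (hcd : c ≠ d) (l : F) :
    ∃ g ∈ M, (g : Matrix (ι → Fin m) (ι → Fin m) F) = 1 + l • emb k (Matrix.single c d (1 : F)) := by
  have h : (Pi.single d (1 : F) : Fin m → F) ⬝ᵥ Pi.single c l = 0 := by simp [hcd.symm]
  refine ⟨_, hr k _ _ h, ?_⟩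
  rw [root_val h, ← emb_smul]
  congr 2
  ext p q
  simp only [vecMulVec_apply, Matrix.smul_apply, Matrix.single_apply, Pi.single_apply, smul_eq_mul]
  by_cases hp : p = c
  · by_cases hq : q = d
    · subst hp hq; simp
    · simp [hp, hq, Ne.symm hq]
  · simp [hp, Ne.symm hp]

variable {M : Subgroup (GL (ι → Fin m) F)}

/-- Commutator of quadratic elements. -/
theorem comm_left {g h : GL (ι → Fin m) F} (hg : g ∈ M) (hh : h ∈ M) {n X : Matrix (ι → Fin m) (ι → Fin m) F}
    (hge : (g : Matrix (ι → Fin m) (ι → Fin m) F) = 1 + n)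
    (hhe : (h : Matrix (ι → Fin m) (ι → Fin m) F) = 1 + X)
    (hn : n * n = 0) (hX : X * X = 0) (hXn : X * n = 0) :
    ∃ u ∈ M, (u : Matrix (ι → Fin m) (ι → Fin m) F) = 1 + n * X := by
  refine ⟨g * h * g⁻¹ * h⁻¹, M.mul_mem (M.mul_mem (M.mul_mem hg hh) (M.inv_mem hg)) (M.inv_mem hh), ?_⟩
  have hgi : ((g⁻¹ : GL (ι → Fin m) F) : Matrix (ι → Fin m) (ι → Fin m) F) = 1 - n :=
    Units.inv_eq_of_mul_eq_one_right (by rw [hge, mul_sub, mul_one, add_mul, one_mul, hn, add_zero, add_sub_cancel_right])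
  have hhi : ((h⁻¹ : GL (ι → Fin m) F) : Matrix (ι → Fin m) (ι → Fin m) F) = 1 - X :=
    Units.inv_eq_of_mul_eq_one_right (by rw [hhe, mul_sub, mul_one, add_mul, one_mul, hX, add_zero, add_sub_cancel_right])
  rw [Units.val_mul, Units.val_mul, Units.val_mul, hge, hhe, hgi, hhi]
  have e1 : (1 + n) * (1 + X) * (1 - n) = 1 + X + n * X := by
    simp only [mul_sub, mul_one, mul_add, add_mul, one_mul, mul_assoc, hn, hXn, mul_zero, add_zero]
    abel
  rw [e1]
  simp only [mul_sub, mul_one, add_mul, one_mul, mul_assoc, hX, mul_zero, add_zero]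
  abel

/-- One elementary tensor transvection family gives all on the same factors. -/
theorem el_of_pair (hr : ∀ i (c φ : Fin m → F), φ ⬝ᵥ c = 0 → root i c φ ∈ M) (hm : 3 ≤ m) {T : Finset ι}
    {a₀ b₀ : ι → Fin m} (hab : ∀ k ∈ T, a₀ k ≠ b₀ k)
    (h : ∀ l : F, ∃ g ∈ M, (g : Matrix (ι → Fin m) (ι → Fin m) F) = 1 + l • eT T a₀ b₀) : El M T := by
  classical
  let P : (ι → Fin m) → (ι → Fin m) → Prop := fun a b =>
    (∀ k ∈ T, a k ≠ b k) ∧ ∀ l : F, ∃ g ∈ M, (g : Matrix (ι → Fin m) (ι → Fin m) F) = 1 + l • eT T a b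
  have movea : ∀ a b k, k ∈ T → P a b → ∀ c, c ≠ b k → P (Function.update a k c) b := by
    intro a b k hk ⟨hne, hP⟩ c hcb
    rcases eq_or_ne c (a k) with rfl | hca
    · rw [Function.update_eq_self]; exact ⟨hne, hP⟩
    refine ⟨fun j hj => ?_, fun l => ?_⟩
    · rcases eq_or_ne j k with rfl | hjk
      · rwa [Function.update_self]
      · rw [Function.update_of_ne hjk]; exact hne j hj
    obtain ⟨g, hg, hge⟩ := exists_root_single hr k hca (1 : F)
    obtain ⟨u, hu, hue⟩ := hP l
    rw [one_smul] at hge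
    obtain ⟨v, hv, hve⟩ := comm_left hg hu hge hue
      (by rw [← emb_mul, single_mul_single_of_ne _ _ _ _ hca.symm, emb_zero])
      (by rw [smul_mul_smul_comm, eT_sq hk (hne k hk), smul_zero])
      (by rw [smul_mul_assoc, emb_single_eq, eT_mul_eT_eq_zero hk (Finset.mem_singleton_self k) hcb.symm, smul_zero])
    exact ⟨v, hv, by rw [hve, mul_smul_comm, emb_single_mul_eT hk]⟩
  have moveb : ∀ a b k, k ∈ T → P a b → ∀ d, d ≠ a k → P a (Function.update b k d) := by
    intro a b k hk ⟨hne, hP⟩ d hda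
    rcases eq_or_ne d (b k) with rfl | hdb
    · rw [Function.update_eq_self]; exact ⟨hne, hP⟩
    refine ⟨fun j hj => ?_, fun l => ?_⟩
    · rcases eq_or_ne j k with rfl | hjk
      · rw [Function.update_self]; exact hda.symm
      · rw [Function.update_of_ne hjk]; exact hne j hj
    obtain ⟨g, hg, hge⟩ := exists_root_single hr k hdb.symm (1 : F)
    obtain ⟨u, hu, hue⟩ := hP l
    rw [one_smul] at hge
    obtain ⟨v, hv, hve⟩ := comm_left hu hg hue hge
      (by rw [smul_mul_smul_comm, eT_sq hk (hne k hk), smul_zero])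
      (by rw [← emb_mul, single_mul_single_of_ne _ _ _ _ hdb, emb_zero])
      (by rw [mul_smul_comm, emb_single_eq, eT_mul_eT_eq_zero (Finset.mem_singleton_self k) hk hda, smul_zero])
    exact ⟨v, hv, by rw [hve, smul_mul_assoc, eT_mul_emb_single hk]⟩
  intro a b hne
  have hgen : ∀ S : Finset ι, S ⊆ T → ∃ a' b', P a' b' ∧ ∀ k ∈ S, a' k = a k ∧ b' k = b k := by
    intro S
    induction S using Finset.induction with
    | empty => exact fun _ => ⟨a₀, b₀, ⟨hab, h⟩, by simp⟩
    | insert k S hkS ih =>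
      intro hS
      obtain ⟨a', b', hP, hag⟩ := ih ((Finset.subset_insert k S).trans hS)
      have hk : k ∈ T := hS (Finset.mem_insert_self k S)
      have hfin : ∀ a'' b'', P a'' b'' → a k ≠ b'' k →
          (∀ j, j ≠ k → a'' j = a' j ∧ b'' j = b' j) →
          ∃ a3 b3, P a3 b3 ∧ ∀ j ∈ insert k S, a3 j = a j ∧ b3 j = b j := by
        intro a'' b'' hP'' hne'' hsame
        have h1 := movea a'' b'' k hk hP'' (a k) hne''
        have h2 := moveb _ b'' k hk h1 (b k) (by rw [Function.update_self]; exact (hne k hk).symm)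
        refine ⟨_, _, h2, fun j hj => ?_⟩
        rcases eq_or_ne j k with rfl | hjk
        · simp
        · rw [Finset.mem_insert] at hj
          have hjS := hj.resolve_left hjk
          rw [Function.update_of_ne hjk, Function.update_of_ne hjk, (hsame j hjk).1, (hsame j hjk).2]
          exact hag j hjS
      by_cases hcase : a k = b' k
      · obtain ⟨d, hd⟩ := Finset.exists_mem_notMem_of_card_lt_card (s := ({a' k, b' k} : Finset (Fin m)))
          (t := Finset.univ) (by
            rw [Finset.card_univ, Fintype.card_fin]; exact lt_of_le_of_lt Finset.card_le_two (by omega))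
        simp only [Finset.mem_insert, Finset.mem_singleton, not_or] at hd
        refine hfin a' _ (moveb a' b' k hk hP d hd.2.1) (by rw [Function.update_self, hcase]; exact Ne.symm hd.2.2)
          fun j hj => ⟨rfl, Function.update_of_ne hj _ _⟩
      · exact hfin a' b' hP hcase fun j _ => ⟨rfl, rfl⟩
  obtain ⟨a', b', ⟨-, hP⟩, hag⟩ := hgen T (Finset.Subset.refl T)
  rw [eT_congr (fun k hk => ((hag k hk).1).symm) (fun k hk => ((hag k hk).2).symm)]
  exact hP

theorem exists_third (hm : 3 ≤ m) (p q : Fin m) : ∃ r, r ≠ p ∧ r ≠ q := by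
  obtain ⟨d, -, hd⟩ := Finset.exists_mem_notMem_of_card_lt_card (s := ({p, q} : Finset (Fin m)))
    (t := Finset.univ) (by rw [Finset.card_univ, Fintype.card_fin]; exact lt_of_le_of_lt Finset.card_le_two (by omega))
  simp only [Finset.mem_insert, Finset.mem_singleton, not_or] at hd
  exact ⟨d, hd⟩

/-- Overlapping sets merge. -/
theorem El.union (hm : 3 ≤ m) {T T' : Finset ι} (hT : El M T) (hT' : El M T') {j : ι} (hj : j ∈ T) (hj' : j ∈ T') :
    El M (T ∪ T') := by
  intro a b hne l
  choose c hc using fun k => exists_third hm (a k) (b k)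
  let b₁ : ι → Fin m := fun k => if k ∈ T' then c k else b k
  let a₂ : ι → Fin m := fun k => if k ∈ T then c k else a k
  have h1 : ∀ k ∈ T, a k ≠ b₁ k := fun k hk => by
    simp only [b₁]; split_ifs
    · exact (hc k).1.symm
    · exact hne k (Finset.mem_union_left _ hk)
  have h2 : ∀ k ∈ T', a₂ k ≠ b k := fun k hk => by
    simp only [a₂]; split_ifs
    · exact (hc k).2
    · exact hne k (Finset.mem_union_right _ hk)
  obtain ⟨g, hg, hge⟩ := hT a b₁ h1 l
  obtain ⟨h, hh, hhe⟩ := hT' a₂ b h2 1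
  rw [one_smul] at hhe
  obtain ⟨v, hv, hve⟩ := comm_left hg hh hge hhe
    (by rw [smul_mul_smul_comm, eT_sq hj (h1 j hj), smul_zero])
    (eT_sq hj' (h2 j hj'))
    (by rw [mul_smul_comm, eT_mul_eT_eq_zero hj' hj (hne j (Finset.mem_union_left _ hj)).symm, smul_zero])
  refine ⟨v, hv, ?_⟩
  rw [hve, smul_mul_assoc, eT, eT, Pt_mul, eT]
  congr 3
  funext k
  simp only [Pi.mul_apply, b₁, a₂, Finset.mem_union]
  by_cases hk : k ∈ T <;> by_cases hk' : k ∈ T' <;> simp [hk, hk']

theorem eT_univ (a b : ι → Fin m) :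
    (eT Finset.univ a b : Matrix (ι → Fin m) (ι → Fin m) F) = Matrix.single a b 1 := by
  ext x y
  rw [eT, Pt, Matrix.single_apply]
  by_cases h : a = x ∧ b = y
  · rw [if_pos h, ← h.1, ← h.2]; simp
  · rw [if_neg h]
    obtain ⟨k, hk⟩ : ∃ k, ¬ (a k = x k ∧ b k = y k) := by
      by_contra hc
      push Not at hc
      exact h ⟨funext fun k => (hc k).1, funext fun k => (hc k).2⟩
    refine Finset.prod_eq_zero (Finset.mem_univ k) ?_
    rw [if_pos (Finset.mem_univ k), Matrix.single_apply, if_neg hk]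

/-- All elementary tensor transvections give the special linear group. -/
theorem specialLinear_le_of_el [Nonempty ι] (hm : 3 ≤ m) (h : El M Finset.univ) :
    specialLinear (ι → Fin m) F ≤ M := by
  obtain ⟨j⟩ := ‹Nonempty ι›
  have hsing : ∀ x z : ι → Fin m, x ≠ z → ∀ l : F,
      tv (Pi.single x l) (Pi.single z (1 : F)) ∈ M := by
    intro x z hxz l
    choose y hy using fun k => exists_third hm (x k) (z k)
    obtain ⟨g, hg, hge⟩ := h x y (fun k _ => (hy k).1.symm) l
    obtain ⟨u, hu, hue⟩ := h y z (fun k _ => (hy k).2) 1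
    rw [one_smul] at hue
    obtain ⟨k, hk⟩ := Function.ne_iff.mp hxz
    obtain ⟨v, hv, hve⟩ := comm_left hg hu hge hue
      (by rw [smul_mul_smul_comm, eT_sq (Finset.mem_univ j) (hy j).1.symm, smul_zero])
      (eT_sq (Finset.mem_univ j) (hy j).2)
      (by rw [mul_smul_comm, eT_mul_eT_eq_zero (Finset.mem_univ k) (Finset.mem_univ k) hk.symm, smul_zero])
    have : tv (Pi.single x l) (Pi.single z (1 : F)) = v := by
      apply Units.ext
      rw [hve, tv_single hxz, smul_mul_assoc, eT_univ, eT_univ, single_mul_single_same, mul_one,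
        Matrix.transvection, smul_single, smul_eq_mul, mul_one]
    rw [this]; exact hv
  set x₀ : ι → Fin m := fun _ => ⟨0, by omega⟩
  refine specialLinear_le_of_fullAxis (a := Pi.single x₀ (1 : F)) ?_ (by simp) ?_
  · -- irreducibility
    intro W hW
    rcases eq_or_ne W ⊥ with hb | hb
    · exact Or.inl hb
    refine Or.inr ?_
    obtain ⟨v, hvW, hv⟩ := Submodule.exists_mem_ne_zero_of_ne_bot hb
    obtain ⟨z, hz⟩ := Function.ne_iff.mp hv
    have hone : ∀ z x, x ≠ z → ∀ v ∈ W, v z ≠ 0 → (Pi.single x 1 : (ι → Fin m) → F) ∈ W := by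
      intro z x hxz v hvW hz
      have hd : (Pi.single z (1 : F) : (ι → Fin m) → F) ⬝ᵥ Pi.single x 1 = 0 := by simp [hxz.symm]
      have := W.sub_mem (hW _ (hsing x z hxz 1) v hvW) hvW
      rw [tv_mulVec hd, add_sub_cancel_left, single_dotProduct, one_mul] at this
      simpa [smul_smul, inv_mul_cancel₀ hz] using W.smul_mem (v z)⁻¹ this
    have hall : ∀ x, (Pi.single x 1 : (ι → Fin m) → F) ∈ W := by
      intro x
      by_cases hxz : x = z
      · subst hxz
        choose y hy using fun k => exists_third hm (x k) (x k)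
        have hyx : y ≠ x := fun e => (hy j).1 (congrFun e j)
        exact hone y x hyx.symm _ (hone x y hyx v hvW hz) (by simp)
      · exact hone z x hxz v hvW hz
    rw [Submodule.eq_top_iff']
    intro w
    rw [pi_eq_sum_univ w]
    refine W.sum_mem fun x _ => W.smul_mem _ ?_
    convert hall x using 1
    funext q; simp [Pi.single_apply, eq_comm]
  · intro v hv
    have hv0 : v x₀ = 0 := by simpa using hv
    have hd : ∀ x : ι → Fin m, x ≠ x₀ → tv (Pi.single x (v x)) (Pi.single x₀ (1 : F)) ∈ M := fun x hx =>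
      hsing x x₀ hx _
    have hgen : ∀ S : Finset (ι → Fin m), x₀ ∉ S →
        tv (∑ x ∈ S, Pi.single x (v x)) (Pi.single x₀ (1 : F)) ∈ M := by
      intro S
      induction S using Finset.induction with
      | empty => intro _; rw [Finset.sum_empty, tv_zero_left]; exact M.one_mem
      | insert x S hxS ih =>
        intro hx0
        rw [Finset.mem_insert, not_or] at hx0
        rw [Finset.sum_insert hxS]
        refine tv_mem_add_left ?_ ?_ (hd x (Ne.symm hx0.1)) (ih hx0.2)
        · simp [hx0.1]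
        · rw [dotProduct_sum]
          exact Finset.sum_eq_zero fun q hq => by
            have : x₀ ≠ q := fun e => hx0.2 (e ▸ hq)
            simp [this]
    have := hgen (Finset.univ.erase x₀) (Finset.notMem_erase _ _)
    rwa [show (∑ x ∈ Finset.univ.erase x₀, Pi.single x (v x)) = v by
      funext q
      rw [Finset.sum_apply]
      rcases eq_or_ne q x₀ with rfl | hq
      · rw [hv0]; exact Finset.sum_eq_zero fun x hx => by simp [Ne.symm (Finset.ne_of_mem_erase hx)]
      · rw [Finset.sum_eq_single q (fun x _ hx => by simp [Ne.symm hx]) (by simp [hq])]; simp] at this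

/-- Transport by a diagonal times a factor permutation. -/
theorem El.conj {g : GL (ι → Fin m) F} (hg : ∀ x ∈ M, g * x * g⁻¹ ∈ M) {T : Finset ι} (hT : El M T)
    {σ : Equiv.Perm ι} {d : ι → Fin m → Fˣ}
    (he : (g : Matrix (ι → Fin m) (ι → Fin m) F) = Pt (fun k => Matrix.diagonal fun p => (d k p : F)) * pm σ) :
    El M (T.map σ.toEmbedding) := by
  intro a b hne l
  set t : F := ∏ k, if k ∈ T.map σ.toEmbedding then ((d k (a k) : F) / (d k (b k) : F)) else 1 with ht
  have ht0 : t ≠ 0 := Finset.prod_ne_zero_iff.mpr fun k _ => by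
    split_ifs
    · exact div_ne_zero (d k _).ne_zero (d k _).ne_zero
    · exact one_ne_zero
  obtain ⟨u, hu, hue⟩ := hT (fun k => a (σ k)) (fun k => b (σ k))
    (fun k hk => hne (σ k) (Finset.mem_map_of_mem _ hk)) (l / t)
  refine ⟨g * u * g⁻¹, hg u hu, ?_⟩
  have key : (g : Matrix (ι → Fin m) (ι → Fin m) F) * eT T (fun k => a (σ k)) (fun k => b (σ k)) =
      t • (eT (T.map σ.toEmbedding) a b * (g : Matrix (ι → Fin m) (ι → Fin m) F)) := by
    rw [he, eT, mul_assoc, pm_mul_Pt, ← mul_assoc, Pt_mul, eT, ← mul_assoc, Pt_mul, ← smul_mul_assoc]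
    congr 1
    rw [ht, ← Pt_smul]
    congr 1
    funext k
    simp only [Pi.mul_apply, Finset.mem_map_equiv, Equiv.apply_symm_apply]
    by_cases hk : σ.symm k ∈ T
    · simp only [if_pos hk]
      ext p q
      simp only [Matrix.smul_apply, smul_eq_mul, Matrix.diagonal_mul, Matrix.mul_diagonal, Matrix.single_apply]
      by_cases hpq : a k = p ∧ b k = q
      · rw [if_pos hpq, ← hpq.1, ← hpq.2]; field_simp
      · rw [if_neg hpq]; simp
    · simp only [if_neg hk, one_mul, mul_one, one_smul]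
  rw [Units.val_mul, Units.val_mul, hue, mul_add, add_mul, mul_one, Units.mul_inv, mul_smul_comm, key,
    smul_smul, smul_mul_assoc, mul_assoc, Units.mul_inv, mul_one, div_mul_cancel₀ _ ht0]

end CfsgLib.TWreath
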