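import Cfsg.Prelude.Def_GeometricClasses
import Cfsg.Agent.MaxSub.Transvection

/-!
# Tensor powers: pure tensors, factorwise matrices and the wreath group
-/

set_option autoImplicit false
set_option linter.unusedSectionVars false

namespace CfsgLib.TWreath

open Matrix CfsgLib.MaxSub

variable {F : Type*} [Field F] {ι : Type} [Fintype ι] [DecidableEq ι] {m : ℕ}

/-- The pure tensor of a family of vectors. -/
def pten (xs : ι → Fin m → F) : (ι → Fin m) → F := fun a => ∏ k, xs k (a k)

/-- The tensor product of a family of matrices. -/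
def Pt (gs : ι → Matrix (Fin m) (Fin m) F) : Matrix (ι → Fin m) (ι → Fin m) F :=
  fun a b => ∏ k, gs k (a k) (b k)

/-- The matrix `A` in the factor `i`. -/
def emb (i : ι) (A : Matrix (Fin m) (Fin m) F) : Matrix (ι → Fin m) (ι → Fin m) F :=
  Pt (Function.update 1 i A)

/-- Contraction of the factor `i` with `φ`. -/
def ctr (i : ι) (φ : Fin m → F) : ((ι → Fin m) → F) →ₗ[F] ((ι → Fin m) → F) where
  toFun v a := φ ⬝ᵥ fun k => v (Function.update a i k)
  map_add' u v := by funext a; exact dotProduct_add φ _ _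
  map_smul' c v := by funext a; exact dotProduct_smul c φ _

/-- The permutation of the factors. -/
def pm (σ : Equiv.Perm ι) : Matrix (ι → Fin m) (ι → Fin m) F :=
  fun a b => if b = a ∘ σ then 1 else 0

theorem prod_update_apply {M : Type*} [CommMonoid M] {β : ι → Type*} (f : ∀ k, β k → M) (x : ∀ k, β k)
    (i : ι) (y : β i) : ∏ k, f k (Function.update x i y k) = f i y * ∏ k ∈ Finset.univ.erase i, f k (x k) := by
  rw [← Finset.mul_prod_erase _ _ (Finset.mem_univ i), Function.update_self]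
  congr 1
  exact Finset.prod_congr rfl fun k hk => by rw [Function.update_of_ne (Finset.ne_of_mem_erase hk)]

theorem pten_update (xs : ι → Fin m → F) (i : ι) (y : Fin m → F) (a : ι → Fin m) :
    pten (Function.update xs i y) a = y (a i) * ∏ k ∈ Finset.univ.erase i, xs k (a k) :=
  prod_update_apply (fun k (g : Fin m → F) => g (a k)) xs i y

theorem pten_update_add (xs : ι → Fin m → F) (i : ι) (y z : Fin m → F) :
    pten (Function.update xs i (y + z)) = pten (Function.update xs i y) + pten (Function.update xs i z) := by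
  funext a; simp [pten_update, add_mul]

theorem pten_update_smul (xs : ι → Fin m → F) (i : ι) (c : F) (y : Fin m → F) :
    pten (Function.update xs i (c • y)) = c • pten (Function.update xs i y) := by
  funext a; simp [pten_update, mul_assoc]

theorem pten_smul (cs : ι → F) (xs : ι → Fin m → F) :
    pten (fun k => cs k • xs k) = (∏ k, cs k) • pten xs := by
  funext a; simp [pten, Finset.prod_mul_distrib]

theorem pten_eq_zero {xs : ι → Fin m → F} : pten xs = 0 ↔ ∃ k, xs k = 0 := by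
  constructor
  · intro h
    by_contra hc
    push Not at hc
    choose a ha using fun k => Function.ne_iff.mp (hc k)
    exact Finset.prod_ne_zero_iff.mpr (fun k _ => ha k) (congrFun h a)
  · rintro ⟨k, hk⟩
    funext a
    exact Finset.prod_eq_zero (Finset.mem_univ k) (by rw [hk]; rfl)

theorem pten_ne_zero {xs : ι → Fin m → F} (h : ∀ k, xs k ≠ 0) : pten xs ≠ 0 :=
  fun he => (pten_eq_zero.mp he).elim h

/-- Basis vectors are pure. -/
theorem pten_single (a : ι → Fin m) :
    pten (fun k => Pi.single (a k) (1 : F)) = Pi.single a 1 := by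
  funext b
  by_cases h : b = a
  · subst h; simp [pten]
  · obtain ⟨k, hk⟩ := Function.ne_iff.mp h
    rw [Pi.single_eq_of_ne h]
    exact Finset.prod_eq_zero (Finset.mem_univ k) (Pi.single_eq_of_ne hk _)

/-- The product of two pairings is the pairing of the products. -/
theorem pten_dot (φs xs : ι → Fin m → F) : pten φs ⬝ᵥ pten xs = ∏ k, φs k ⬝ᵥ xs k := by
  simp only [dotProduct, pten, ← Finset.prod_mul_distrib]
  rw [Fintype.prod_sum]

theorem eq_sum_pten (v : (ι → Fin m) → F) :
    v = ∑ a, v a • pten (fun k => Pi.single (a k) (1 : F)) := by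
  simp only [pten_single]
  funext b
  simp [Finset.sum_apply, Pi.single_apply]

theorem ext_pten {A B : Matrix (ι → Fin m) (ι → Fin m) F}
    (h : ∀ xs, A *ᵥ pten xs = B *ᵥ pten xs) : A = B := by
  refine Matrix.ext_of_mulVec_single fun a => ?_
  rw [← pten_single]; exact h _

theorem Pt_mulVec_pten (gs : ι → Matrix (Fin m) (Fin m) F) (xs : ι → Fin m → F) :
    Pt gs *ᵥ pten xs = pten fun k => gs k *ᵥ xs k := by
  funext a
  simp only [mulVec, dotProduct, Pt, pten, ← Finset.prod_mul_distrib]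
  rw [Fintype.prod_sum]

theorem Pt_mul (gs hs : ι → Matrix (Fin m) (Fin m) F) : Pt gs * Pt hs = Pt (gs * hs) :=
  ext_pten fun xs => by
    rw [← mulVec_mulVec, Pt_mulVec_pten, Pt_mulVec_pten, Pt_mulVec_pten]
    simp only [mulVec_mulVec, Pi.mul_apply]

@[simp] theorem Pt_one : Pt (1 : ι → Matrix (Fin m) (Fin m) F) = 1 :=
  ext_pten fun xs => by rw [Pt_mulVec_pten, one_mulVec]; simp

theorem Pt_smul (cs : ι → F) (gs : ι → Matrix (Fin m) (Fin m) F) :
    Pt (fun k => cs k • gs k) = (∏ k, cs k) • Pt gs := by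
  ext a b; simp [Pt, Finset.prod_mul_distrib]

theorem Pt_update_eq (gs : ι → Matrix (Fin m) (Fin m) F) (i : ι) (A : Matrix (Fin m) (Fin m) F)
    (a b : ι → Fin m) : Pt (Function.update gs i A) a b =
      A (a i) (b i) * ∏ k ∈ Finset.univ.erase i, gs k (a k) (b k) :=
  prod_update_apply (fun k (g : Matrix (Fin m) (Fin m) F) => g (a k) (b k)) gs i A

theorem Pt_update_add (gs : ι → Matrix (Fin m) (Fin m) F) (i : ι) (A B : Matrix (Fin m) (Fin m) F) :
    Pt (Function.update gs i (A + B)) = Pt (Function.update gs i A) + Pt (Function.update gs i B) := by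
  ext a b; simp [Pt_update_eq, add_mul]

theorem Pt_update_smul (gs : ι → Matrix (Fin m) (Fin m) F) (i : ι) (c : F) (A : Matrix (Fin m) (Fin m) F) :
    Pt (Function.update gs i (c • A)) = c • Pt (Function.update gs i A) := by
  ext a b; simp [Pt_update_eq, mul_assoc]

/-- Matrices in the factor `i`, as an algebra map. -/
def embAlg (i : ι) : Matrix (Fin m) (Fin m) F →ₐ[F] Matrix (ι → Fin m) (ι → Fin m) F :=
  AlgHom.ofLinearMap
    { toFun := emb i
      map_add' := fun A B => Pt_update_add 1 i A B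
      map_smul' := fun c A => Pt_update_smul 1 i c A }
    (by show emb i 1 = 1; rw [emb]; simp [Function.update_eq_self_iff])
    (fun A B => by
      show emb i (A * B) = emb i A * emb i B
      rw [emb, emb, emb, Pt_mul]
      congr 1
      funext k
      rcases eq_or_ne k i with rfl | hk
      · simp
      · simp [hk])

@[simp] theorem embAlg_apply (i : ι) (A : Matrix (Fin m) (Fin m) F) : embAlg i A = emb i A := rfl

theorem emb_mul (i : ι) (A B : Matrix (Fin m) (Fin m) F) : emb i (A * B) = emb i A * emb i B :=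
  map_mul (embAlg i) A B

theorem emb_add (i : ι) (A B : Matrix (Fin m) (Fin m) F) : emb i (A + B) = emb i A + emb i B :=
  map_add (embAlg i) A B

theorem emb_sub (i : ι) (A B : Matrix (Fin m) (Fin m) F) : emb i (A - B) = emb i A - emb i B :=
  map_sub (embAlg i) A B

theorem emb_smul (i : ι) (c : F) (A : Matrix (Fin m) (Fin m) F) : emb i (c • A) = c • emb i A :=
  map_smul (embAlg i) c A

theorem emb_one (i : ι) : emb i (1 : Matrix (Fin m) (Fin m) F) = 1 := map_one (embAlg i)

theorem emb_zero (i : ι) : emb i (0 : Matrix (Fin m) (Fin m) F) = 0 := map_zero (embAlg i)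

theorem emb_mulVec_pten (i : ι) (A : Matrix (Fin m) (Fin m) F) (xs : ι → Fin m → F) :
    emb i A *ᵥ pten xs = pten (Function.update xs i (A *ᵥ xs i)) := by
  rw [emb, Pt_mulVec_pten]
  congr 1
  funext k
  rcases eq_or_ne k i with rfl | hk
  · simp
  · simp [hk]

theorem emb_comm {i j : ι} (hij : i ≠ j) (A B : Matrix (Fin m) (Fin m) F) :
    emb i A * emb j B = emb j B * emb i A := by
  rw [emb, emb, Pt_mul, Pt_mul]
  congr 1
  funext k
  rcases eq_or_ne k i with rfl | hk
  · simp [hij]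
  · rcases eq_or_ne k j with rfl | hk'
    · simp [hk]
    · simp [hk, hk']

/-- Factorwise products with one factor split off. -/
theorem Pt_eq_emb_mul (gs : ι → Matrix (Fin m) (Fin m) F) (i : ι) :
    Pt gs = emb i (gs i) * Pt (Function.update gs i 1) := by
  rw [emb, Pt_mul]
  congr 1
  funext k
  rcases eq_or_ne k i with rfl | hk
  · simp
  · simp [hk]

theorem Pt_mul_emb (gs : ι → Matrix (Fin m) (Fin m) F) (i : ι) {A A' : Matrix (Fin m) (Fin m) F}
    (h : gs i * A = A' * gs i) : Pt gs * emb i A = emb i A' * Pt gs := by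
  rw [emb, emb, Pt_mul, Pt_mul]
  congr 1
  funext k
  rcases eq_or_ne k i with rfl | hk
  · simpa using h
  · simp [hk]

theorem emb_mulVec (i : ι) (A : Matrix (Fin m) (Fin m) F) (v : (ι → Fin m) → F) (a : ι → Fin m) :
    (emb i A *ᵥ v) a = ctr i (A (a i)) v a := by
  show ∑ b, emb i A a b * v b = ∑ k, A (a i) k * v (Function.update a i k)
  refine (Finset.sum_subset (Finset.subset_univ (Finset.univ.image (Function.update a i))) ?_).symm.trans ?_
  · intro b _ hb
    obtain ⟨k, hk, hne⟩ : ∃ k, k ≠ i ∧ a k ≠ b k := by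
      by_contra hc
      push Not at hc
      refine hb (Finset.mem_image.mpr ⟨b i, Finset.mem_univ _, ?_⟩)
      funext k
      rcases eq_or_ne k i with rfl | hk
      · simp
      · simp [hk, hc k hk]
    rw [emb, Pt_update_eq, Finset.prod_eq_zero (Finset.mem_erase.mpr ⟨hk, Finset.mem_univ k⟩)
      (by simp [hne]), mul_zero, zero_mul]
  · rw [Finset.sum_image fun x _ y _ h => by simpa using congrFun h i]
    refine Finset.sum_congr rfl fun k _ => ?_
    rw [emb, Pt_update_eq, Finset.prod_eq_one fun j hj => by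
      rw [Pi.one_apply, Function.update_of_ne (Finset.ne_of_mem_erase hj), one_apply_eq], mul_one, Function.update_self]

theorem emb_vecMulVec_mulVec (i : ι) (c φ : Fin m → F) (v : (ι → Fin m) → F) :
    emb i (vecMulVec c φ) *ᵥ v = fun a => c (a i) * ctr i φ v a := by
  funext a
  rw [emb_mulVec]
  show ((fun k => c (a i) * φ k) ⬝ᵥ _) = c (a i) * (φ ⬝ᵥ _)
  rw [show (fun k => c (a i) * φ k) = c (a i) • φ from rfl, smul_dotProduct]
  rfl

theorem emb_vecMulVec_eq_zero {i : ι} {c φ : Fin m → F} (hc : c ≠ 0) {v : (ι → Fin m) → F} :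
    emb i (vecMulVec c φ) *ᵥ v = 0 ↔ ctr i φ v = 0 := by
  rw [emb_vecMulVec_mulVec]
  constructor
  · intro h
    funext a
    obtain ⟨j, hj⟩ := Function.ne_iff.mp hc
    have := congrFun h (Function.update a i j)
    simp only [Function.update_self, Pi.zero_apply, mul_eq_zero] at this
    have h' := this.resolve_left hj
    simpa [ctr] using h'
  · intro h
    funext a
    rw [h]; simp

/-! ### The wreath group -/

theorem pm_mulVec (σ : Equiv.Perm ι) (v : (ι → Fin m) → F) : pm σ *ᵥ v = fun a => v (a ∘ σ) := by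
  funext a; simp [pm, mulVec, dotProduct]

theorem pm_mulVec_pten (σ : Equiv.Perm ι) (xs : ι → Fin m → F) :
    pm σ *ᵥ pten xs = pten fun k => xs (σ.symm k) := by
  rw [pm_mulVec]
  funext a
  exact Fintype.prod_equiv σ _ _ fun k => by simp

theorem pm_mul (σ τ : Equiv.Perm ι) : (pm σ : Matrix (ι → Fin m) _ F) * pm τ = pm (σ * τ) :=
  ext_pten fun xs => by
    rw [← mulVec_mulVec, pm_mulVec_pten, pm_mulVec_pten, pm_mulVec_pten]
    rfl

theorem pm_one : (pm (1 : Equiv.Perm ι) : Matrix (ι → Fin m) _ F) = 1 :=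
  ext_pten fun xs => by rw [pm_mulVec_pten, one_mulVec]; rfl

theorem pm_mul_Pt (σ : Equiv.Perm ι) (gs : ι → Matrix (Fin m) (Fin m) F) :
    pm σ * Pt gs = Pt (fun k => gs (σ.symm k)) * pm σ :=
  ext_pten fun xs => by
    rw [← mulVec_mulVec, Pt_mulVec_pten, pm_mulVec_pten, ← mulVec_mulVec, pm_mulVec_pten, Pt_mulVec_pten]

theorem pm_mul_emb (σ : Equiv.Perm ι) (k : ι) (A : Matrix (Fin m) (Fin m) F) :
    pm σ * emb k A = emb (σ k) A * pm σ := by
  rw [emb, pm_mul_Pt, emb]
  congr 2
  funext j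
  rcases eq_or_ne (σ.symm j) k with h | h
  · subst h; simp
  · rw [Function.update_of_ne h, Function.update_of_ne (fun hj => h (by simp [hj]))]; rfl

/-- Factorwise invertible matrices. -/
def PtG : (ι → GL (Fin m) F) →* GL (ι → Fin m) F :=
  MonoidHom.toHomUnits
    { toFun := fun gs => Pt fun k => (gs k : Matrix (Fin m) (Fin m) F)
      map_one' := Pt_one
      map_mul' := fun gs hs => by rw [Pt_mul]; rfl }

theorem PtG_val (gs : ι → GL (Fin m) F) :
    (PtG gs : Matrix (ι → Fin m) (ι → Fin m) F) = Pt fun k => (gs k : Matrix (Fin m) (Fin m) F) := rfl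

/-- Factor permutations. -/
def pmG : Equiv.Perm ι →* GL (ι → Fin m) F :=
  MonoidHom.toHomUnits { toFun := pm, map_one' := pm_one, map_mul' := fun σ τ => (pm_mul σ τ).symm }

theorem pmG_val (σ : Equiv.Perm ι) : ((pmG σ : GL (ι → Fin m) F) : Matrix (ι → Fin m) (ι → Fin m) F) = pm σ := rfl

theorem pmG_mul_PtG (σ : Equiv.Perm ι) (gs : ι → GL (Fin m) F) :
    pmG σ * PtG gs = PtG (fun k => gs (σ.symm k)) * pmG σ :=
  Units.ext (pm_mul_Pt σ _)

/-- `g` permutes the factors by `σ`. -/
def HasPerm (g : GL (ι → Fin m) F) (σ : Equiv.Perm ι) : Prop :=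
  ∃ gs : ι → GL (Fin m) F, g = PtG gs * pmG σ

theorem HasPerm.mul {g h : GL (ι → Fin m) F} {σ τ : Equiv.Perm ι} (hg : HasPerm g σ) (hh : HasPerm h τ) :
    HasPerm (g * h) (σ * τ) := by
  obtain ⟨gs, rfl⟩ := hg
  obtain ⟨hs, rfl⟩ := hh
  refine ⟨gs * fun k => hs (σ.symm k), ?_⟩
  simp only [map_mul, mul_assoc]
  rw [← mul_assoc (pmG σ) (PtG hs), pmG_mul_PtG, mul_assoc]

theorem HasPerm.one : HasPerm (1 : GL (ι → Fin m) F) 1 := ⟨1, by simp⟩

theorem HasPerm.inv {g : GL (ι → Fin m) F} {σ : Equiv.Perm ι} (hg : HasPerm g σ) : HasPerm g⁻¹ σ⁻¹ := by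
  obtain ⟨gs, rfl⟩ := hg
  refine ⟨fun k => (gs (σ k))⁻¹, ?_⟩
  rw [_root_.mul_inv_rev, ← map_inv, ← map_inv, pmG_mul_PtG]
  rfl

/-- The group of the pure tensors and the factor permutations. -/
def wreath (ι : Type) [Fintype ι] [DecidableEq ι] (m : ℕ) (F : Type*) [Field F] :
    Subgroup (GL (ι → Fin m) F) where
  carrier := {g | ∃ σ, HasPerm g σ}
  mul_mem' := fun ⟨σ, hσ⟩ ⟨τ, hτ⟩ => ⟨σ * τ, hσ.mul hτ⟩
  one_mem' := ⟨1, HasPerm.one⟩
  inv_mem' := fun ⟨σ, hσ⟩ => ⟨σ⁻¹, hσ.inv⟩

theorem mem_wreath {g : GL (ι → Fin m) F} : g ∈ wreath ι m F ↔ ∃ σ, HasPerm g σ := Iff.rfl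

theorem PtG_mem (gs : ι → GL (Fin m) F) : PtG gs ∈ wreath ι m F := ⟨1, gs, by simp⟩

theorem pmG_mem (σ : Equiv.Perm ι) : (pmG σ : GL (ι → Fin m) F) ∈ wreath ι m F := ⟨σ, 1, by simp⟩

/-- An element of the wreath group permutes the single factor matrices. -/
theorem HasPerm.conj_emb {g : GL (ι → Fin m) F} {σ : Equiv.Perm ι} (hg : HasPerm g σ) :
    ∃ h : ι → GL (Fin m) F, ∀ k A, (g : Matrix (ι → Fin m) (ι → Fin m) F) * emb k A =
      emb (σ k) ((h k : Matrix (Fin m) (Fin m) F) * A * (((h k)⁻¹ : GL (Fin m) F) : Matrix (Fin m) (Fin m) F)) *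
        (g : Matrix (ι → Fin m) (ι → Fin m) F) := by
  obtain ⟨gs, rfl⟩ := hg
  refine ⟨fun k => gs (σ k), fun k A => ?_⟩
  rw [Units.val_mul, PtG_val, pmG_val, mul_assoc, pm_mul_emb, ← mul_assoc]
  rw [Pt_mul_emb (A' := (gs (σ k) : Matrix (Fin m) (Fin m) F) * A * (((gs (σ k))⁻¹ : GL (Fin m) F) : Matrix (Fin m) (Fin m) F)) _ _
    (by rw [mul_assoc _ _ (gs (σ k) : Matrix (Fin m) (Fin m) F), Units.inv_mul, mul_one]), mul_assoc]

/-- An invertible matrix in the factor `i`. -/
def embG (i : ι) : GL (Fin m) F →* GL (ι → Fin m) F :=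
  Units.map (embAlg i).toMonoidHom

theorem embG_val (i : ι) (g : GL (Fin m) F) :
    (embG i g : Matrix (ι → Fin m) (ι → Fin m) F) = emb i (g : Matrix (Fin m) (Fin m) F) := rfl

theorem embG_eq_PtG (i : ι) (g : GL (Fin m) F) : embG i g = PtG (Function.update 1 i g) := by
  apply Units.ext
  rw [embG_val, PtG_val, emb]
  congr 1
  funext k
  rcases eq_or_ne k i with rfl | hk
  · simp
  · simp [hk]

theorem embG_mem (i : ι) (g : GL (Fin m) F) : embG i g ∈ wreath ι m F := embG_eq_PtG i g ▸ PtG_mem _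

/-- The root element of the factor `i`. -/
noncomputable def root (i : ι) (c φ : Fin m → F) : GL (ι → Fin m) F := embG i (tv c φ)

theorem root_val {i : ι} {c φ : Fin m → F} (h : φ ⬝ᵥ c = 0) :
    (root i c φ : Matrix (ι → Fin m) (ι → Fin m) F) = 1 + emb i (vecMulVec c φ) := by
  rw [root, embG_val, tv_coe h, emb_add, emb_one]

theorem root_mem_wreath (i : ι) (c φ : Fin m → F) : root i c φ ∈ wreath ι m F := embG_mem _ _

theorem root_add {i : ι} {c d φ : Fin m → F} (hc : φ ⬝ᵥ c = 0) (hd : φ ⬝ᵥ d = 0) :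
    root i c φ * root i d φ = root i (c + d) φ := by
  rw [root, root, root, ← map_mul, tv_mul_left hc hd]

/-! ### Proportional tensors -/

/-- Equal non-zero pure tensors have proportional factors. -/
theorem prop_of_pten_eq {xs ys : ι → Fin m → F} (hne : pten xs ≠ 0) (h : pten xs = pten ys) (k : ι) :
    ∃ c : F, c ≠ 0 ∧ ys k = c • xs k := by
  obtain ⟨a, ha⟩ := Function.ne_iff.mp hne
  have hb := h ▸ ha
  have hx : xs k (a k) ≠ 0 := fun h0 => ha (Finset.prod_eq_zero (Finset.mem_univ k) h0)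
  have hy : ys k (a k) ≠ 0 := fun h0 => hb (Finset.prod_eq_zero (Finset.mem_univ k) h0)
  refine ⟨ys k (a k) / xs k (a k), div_ne_zero hy hx, funext fun j => ?_⟩
  have hup : ∀ zs : ι → Fin m → F, ∀ i, pten zs (Function.update a k i) =
      zs k i * ∏ l ∈ Finset.univ.erase k, zs l (a l) := fun zs i =>
    prod_update_apply (fun l (q : Fin m) => zs l q) a k i
  have h1 := congrFun h (Function.update a k j)
  have h2 := congrFun h a
  rw [hup, hup] at h1
  rw [pten, ← Finset.mul_prod_erase _ _ (Finset.mem_univ k), pten,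
    ← Finset.mul_prod_erase _ _ (Finset.mem_univ k)] at h2
  have hP : ∏ l ∈ Finset.univ.erase k, ys l (a l) ≠ 0 :=
    Finset.prod_ne_zero_iff.mpr fun l _ h0 => hb (Finset.prod_eq_zero (Finset.mem_univ l) h0)
  rw [Pi.smul_apply, smul_eq_mul, div_mul_eq_mul_div, eq_div_iff hx]
  refine mul_right_cancel₀ hP ?_
  linear_combination xs k (a k) * h1.symm + xs k j * h2

/-- The factor permutation is unique. -/
theorem HasPerm.unique (hm : 2 ≤ m) {g : GL (ι → Fin m) F} {σ τ : Equiv.Perm ι} (hσ : HasPerm g σ)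
    (hτ : HasPerm g τ) : σ = τ := by
  obtain ⟨gs, hgs⟩ := hσ.inv.mul hτ
  rw [inv_mul_cancel] at hgs
  set ρ := σ⁻¹ * τ with hρ
  suffices ρ = 1 by rwa [hρ, inv_mul_eq_one] at this
  by_contra hne
  obtain ⟨k, hk⟩ : ∃ k, ρ k ≠ k := by
    by_contra hc
    push Not at hc
    exact hne (Equiv.ext hc)
  let e0 : Fin m → F := Pi.single ⟨0, by omega⟩ 1
  let e1 : Fin m → F := Pi.single ⟨1, by omega⟩ 1
  have key : ∀ xs : ι → Fin m → F,
      pten (fun l => (gs l : Matrix (Fin m) (Fin m) F) *ᵥ xs (ρ.symm l)) = pten xs := by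
    intro xs
    have h' := congrArg (fun u : GL (ι → Fin m) F => (u : Matrix (ι → Fin m) (ι → Fin m) F) *ᵥ pten xs) hgs
    simp only [Units.val_one, one_mulVec, Units.val_mul, PtG_val, pmG_val, ← mulVec_mulVec,
      pm_mulVec_pten, Pt_mulVec_pten] at h'
    exact h'.symm
  have he0 : e0 ≠ 0 := by simp [e0]
  have he1 : e1 ≠ 0 := by simp [e1]
  let xs : ι → Fin m → F := fun l => if l = k then e1 else e0
  have hxs : ∀ l, xs l ≠ 0 := fun l => by simp only [xs]; split_ifs <;> assumption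
  obtain ⟨a, ha, hak⟩ := prop_of_pten_eq (pten_ne_zero fun _ => he0) (key fun _ => e0).symm (ρ k)
  obtain ⟨b, hb, hbk⟩ := prop_of_pten_eq (pten_ne_zero hxs) (key xs).symm (ρ k)
  rw [Equiv.symm_apply_apply] at hbk
  simp only [xs, if_neg hk, if_true] at hbk
  have hinj := (mulVec_injective_iff_isUnit.mpr (gs (ρ k)).isUnit)
  have : (a⁻¹ * b) • e1 = e0 → False := fun h => by
    have := congrFun h ⟨0, by omega⟩
    simp [e0, e1, Fin.ext_iff] at this
  refine one_ne_zero (α := F) ?_
  have h2 : (gs (ρ k) : Matrix (Fin m) (Fin m) F) *ᵥ (b⁻¹ • e1) =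
      (gs (ρ k) : Matrix (Fin m) (Fin m) F) *ᵥ (a⁻¹ • e0) := by
    rw [mulVec_smul, mulVec_smul, hbk, hak, smul_smul, smul_smul, inv_mul_cancel₀ ha, inv_mul_cancel₀ hb]
  have := congrFun (hinj h2) ⟨0, by omega⟩
  simp [e0, e1, Fin.ext_iff] at this
  exact absurd this.symm ha

/-! ### Splitting off a factor -/

/-- The indices other than `i`. -/
abbrev Rest (i : ι) (m : ℕ) : Type := {j // j ≠ i} → Fin m

/-- `x ⊗ w` with `x` in the factor `i`. -/
def lift (i : ι) (x : Fin m → F) : (Rest i m → F) →ₗ[F] ((ι → Fin m) → F) where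
  toFun w a := x (a i) * w fun j => a j
  map_add' u v := by funext a; exact mul_add _ _ _
  map_smul' c v := by funext a; simp [mul_left_comm]

theorem lift_apply (i : ι) (x : Fin m → F) (w : Rest i m → F) (a : ι → Fin m) :
    lift i x w a = x (a i) * w fun j => a j := rfl

/-- Extend a tuple on the other indices by a value at `i`. -/
def extend (i : ι) (k : Fin m) (r : Rest i m) : ι → Fin m :=
  fun j => if h : j = i then k else r ⟨j, h⟩

theorem extend_self (i : ι) (k : Fin m) (r : Rest i m) : extend i k r i = k := by simp [extend]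

theorem extend_rest (i : ι) (k : Fin m) (r : Rest i m) : (fun j : {j // j ≠ i} => extend i k r j) = r := by
  funext j; simp [extend, j.2]

theorem update_eq_extend (i : ι) (k : Fin m) (a : ι → Fin m) :
    Function.update a i k = extend i k fun j => a j := by
  funext j
  rcases eq_or_ne j i with rfl | hj
  · simp [extend]
  · simp [extend, hj]

theorem lift_injective {i : ι} {x : Fin m → F} (hx : x ≠ 0) : Function.Injective (lift i x) := by
  intro u v h
  obtain ⟨k, hk⟩ := Function.ne_iff.mp hx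
  funext r
  have := congrFun h (extend i k r)
  rw [lift_apply, lift_apply, extend_self, extend_rest] at this
  exact mul_left_cancel₀ hk this

theorem lift_add_left (i : ι) (x y : Fin m → F) (w : Rest i m → F) :
    lift i (x + y) w = lift i x w + lift i y w := by funext a; simp [lift_apply, add_mul]

theorem lift_smul_left (i : ι) (c : F) (x : Fin m → F) (w : Rest i m → F) :
    lift i (c • x) w = c • lift i x w := by funext a; simp [lift_apply, mul_assoc]

theorem lift_pten (i : ι) (x : Fin m → F) (xs : ι → Fin m → F) :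
    lift i x (pten fun j : {j // j ≠ i} => xs j) = pten (Function.update xs i x) := by
  funext a
  rw [lift_apply, pten_update]
  congr 1
  show ∏ j : {j // j ≠ i}, xs j (a j) = _
  rw [Finset.prod_subtype (Finset.univ.erase i) (p := fun j => j ≠ i) (by simp) fun j => xs j (a j)]

/-- Matrices act factorwise on split tensors. -/
theorem Pt_mulVec_lift (gs : ι → Matrix (Fin m) (Fin m) F) (i : ι) (x : Fin m → F) (w : Rest i m → F) :
    Pt gs *ᵥ lift i x w = lift i (gs i *ᵥ x) (Pt (fun j : {j // j ≠ i} => gs j) *ᵥ w) := by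
  conv_lhs => rw [eq_sum_pten w, map_sum]
  conv_rhs => rw [eq_sum_pten w]
  rw [mulVec_sum, mulVec_sum, map_sum]
  refine Finset.sum_congr rfl fun r _ => ?_
  rw [map_smul, mulVec_smul, mulVec_smul, map_smul]
  congr 1
  let xs : ι → Fin m → F := fun j => if h : j = i then x else Pi.single (r ⟨j, h⟩) 1
  have hxs : (fun j : {j // j ≠ i} => Pi.single (r j) (1 : F)) = fun j : {j // j ≠ i} => xs j := by
    funext j; simp [xs, j.2]
  rw [hxs, lift_pten, Pt_mulVec_pten, Pt_mulVec_pten, lift_pten i _ (fun k => gs k *ᵥ xs k)]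
  congr 1
  funext k
  rcases eq_or_ne k i with rfl | hk
  · simp
  · simp [hk]

theorem emb_mulVec_lift (i : ι) (A : Matrix (Fin m) (Fin m) F) (x : Fin m → F) (w : Rest i m → F) :
    emb i A *ᵥ lift i x w = lift i (A *ᵥ x) w := by
  rw [emb, Pt_mulVec_lift, Function.update_self]
  have : (fun j : {j // j ≠ i} => Function.update (1 : ι → Matrix (Fin m) (Fin m) F) i A j) = 1 := by
    funext j; simp [j.2]
  rw [this, Pt_one, one_mulVec]

theorem ctr_lift (i : ι) (φ x : Fin m → F) (w : Rest i m → F) (a : ι → Fin m) :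
    ctr i φ (lift i x w) a = (φ ⬝ᵥ x) * w fun j => a j := by
  show φ ⬝ᵥ (fun k => lift i x w (Function.update a i k)) = _
  simp only [lift_apply, Function.update_self, update_eq_extend, extend_rest, extend_self]
  simp only [dotProduct, Finset.sum_mul, mul_assoc]

theorem ctr_pten (i : ι) (φ : Fin m → F) (xs : ι → Fin m → F) :
    ctr i φ (pten xs) = (φ ⬝ᵥ xs i) • pten (Function.update xs i 1) := by
  funext a
  have h1 : pten xs = lift i (xs i) (pten fun j : {j // j ≠ i} => xs j) := by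
    rw [lift_pten, Function.update_eq_self]
  rw [h1, ctr_lift, Pi.smul_apply, smul_eq_mul, ← lift_pten, lift_apply, Pi.one_apply, one_mul]

/-! ### Blocks, degenerate vectors -/

/-- The vectors `c ⊗ w` with `c` in the factor `i`. -/
def block (i : ι) (c : Fin m → F) : Submodule F ((ι → Fin m) → F) where
  carrier := {v | ∀ φ, φ ⬝ᵥ c = 0 → ctr i φ v = 0}
  add_mem' hu hv φ h := by rw [map_add, hu φ h, hv φ h, add_zero]
  zero_mem' φ _ := map_zero _
  smul_mem' k v hv φ h := by rw [map_smul, hv φ h, smul_zero]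

theorem mem_block {i : ι} {c : Fin m → F} {v : (ι → Fin m) → F} :
    v ∈ block i c ↔ ∀ φ, φ ⬝ᵥ c = 0 → ctr i φ v = 0 := Iff.rfl

theorem lift_mem_block (i : ι) (c : Fin m → F) (w : Rest i m → F) : lift i c w ∈ block i c :=
  fun φ h => by funext a; rw [ctr_lift, h, zero_mul]; rfl

theorem exists_lift_of_mem_block {i : ι} {c : Fin m → F} (hc : c ≠ 0) {v : (ι → Fin m) → F}
    (hv : v ∈ block i c) : ∃ w, v = lift i c w := by
  obtain ⟨φ, hφ⟩ := exists_dot_eq_one hc
  obtain ⟨j, hj⟩ := Function.ne_iff.mp hc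
  refine ⟨fun r => ctr i φ v (extend i j r), funext fun a => ?_⟩
  have h := congrFun (hv (Pi.single (a i) 1 - c (a i) • φ)
    (by rw [sub_dotProduct, smul_dotProduct, hφ, single_dotProduct]; simp)) a
  rw [lift_apply]
  show v a = c (a i) * (φ ⬝ᵥ fun k => v (Function.update (extend i j fun l => a l) i k))
  simp only [update_eq_extend, extend_rest]
  simp only [ctr, LinearMap.coe_mk, AddHom.coe_mk, sub_dotProduct, smul_dotProduct, single_dotProduct,
    one_mul, Pi.zero_apply, sub_eq_zero, smul_eq_mul, Function.update_eq_self] at h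
  rw [h]
  simp only [update_eq_extend]

theorem block_eq_range {i : ι} {c ψ : Fin m → F} (hψ : ψ ≠ 0) :
    block i c = LinearMap.range (emb i (vecMulVec c ψ)).mulVecLin := by
  refine le_antisymm (fun v hv => ?_) ?_
  · rcases eq_or_ne c 0 with rfl | hc
    · have : v = 0 := by
        funext a
        have := congrFun (hv (Pi.single (a i) 1) (dotProduct_zero _)) a
        simpa [ctr] using this
      rw [this]; exact Submodule.zero_mem _
    obtain ⟨w, rfl⟩ := exists_lift_of_mem_block hc hv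
    obtain ⟨d, hd⟩ : ∃ d, ψ ⬝ᵥ d = 1 := by
      obtain ⟨d, hd⟩ := exists_dot_eq_one hψ
      exact ⟨d, by rw [dotProduct_comm]; exact hd⟩
    exact ⟨lift i d w, by rw [mulVecLin_apply, emb_mulVec_lift, vecMulVec_mulVec', hd, one_smul]⟩
  · rintro _ ⟨u, rfl⟩ φ h
    rw [mulVecLin_apply]
    have h' : emb i (vecMulVec (1 : Fin m → F) φ) * emb i (vecMulVec c ψ) = 0 := by
      rw [← emb_mul, vecMulVec_mul_vecMulVec, h, zero_smul, vecMulVec_zero, emb_zero]
    rcases eq_or_ne (1 : Fin m → F) 0 with h1 | h1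
    · funext a; exact absurd (congrFun h1 (a i)) one_ne_zero
    rw [← emb_vecMulVec_eq_zero h1, mulVec_mulVec, h', zero_mulVec]

/-- The common dimension of the blocks. -/
def bdim (ι : Type) [Fintype ι] (m : ℕ) : ℕ := m ^ (Fintype.card ι - 1)

theorem card_rest (i : ι) : Fintype.card (Rest i m) = bdim ι m := by
  rw [bdim, Fintype.card_fun, Fintype.card_fin, Fintype.card_subtype_compl, Fintype.card_subtype_eq]

theorem finrank_block {i : ι} {c : Fin m → F} (hc : c ≠ 0) : Module.finrank F (block i c) = bdim ι m := by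
  have : block i c = LinearMap.range (lift i c) := by
    refine le_antisymm (fun v hv => ?_) ?_
    · obtain ⟨w, rfl⟩ := exists_lift_of_mem_block hc hv; exact ⟨w, rfl⟩
    · rintro _ ⟨w, rfl⟩; exact lift_mem_block i c w
  rw [this, LinearMap.finrank_range_of_inj (lift_injective hc), Module.finrank_pi, card_rest]

theorem pten_mem_block {i : ι} {c : Fin m → F} {xs : ι → Fin m → F} {k : F} (h : xs i = k • c) :
    pten xs ∈ block i c := fun φ hφ => by
  rw [ctr_pten, h, dotProduct_smul, hφ, smul_zero, zero_smul]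

theorem block_le_of_pten {i : ι} {c : Fin m → F} (hc : c ≠ 0) {U : Submodule F ((ι → Fin m) → F)}
    (h : ∀ xs : ι → Fin m → F, xs i = c → (∀ k, xs k ≠ 0) → pten xs ∈ U) : block i c ≤ U := by
  intro v hv
  obtain ⟨w, rfl⟩ := exists_lift_of_mem_block hc hv
  rw [eq_sum_pten w, map_sum]
  refine U.sum_mem fun r _ => ?_
  rw [map_smul]
  refine U.smul_mem _ ?_
  let xs : ι → Fin m → F := fun j => if h : j = i then c else Pi.single (r ⟨j, h⟩) 1
  have : lift i c (pten fun j => Pi.single (r j) (1 : F)) = pten xs := by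
    have hxs : (fun j : {j // j ≠ i} => Pi.single (r j) (1 : F)) = fun j : {j // j ≠ i} => xs j := by
      funext j; simp [xs, j.2]
    rw [hxs, lift_pten]
    exact congrArg pten (Function.update_eq_self_iff.mpr (by simp [xs]))
  rw [this]
  refine h xs (by simp [xs]) fun k => ?_
  simp only [xs]; split_ifs
  · exact hc
  · simp

/-- A vector killed by contraction with a non-zero functional in some factor. -/
def Deg (v : (ι → Fin m) → F) : Prop := ∃ i φ, φ ≠ 0 ∧ ctr i φ v = 0

/-- A vector in some block. -/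
def OneRank (v : (ι → Fin m) → F) : Prop := ∃ i c, c ≠ 0 ∧ v ∈ block i c

/-- A non-zero pure tensor. -/
def IsPure (v : (ι → Fin m) → F) : Prop := ∃ xs : ι → Fin m → F, (∀ k, xs k ≠ 0) ∧ v = pten xs

theorem exists_ortho (hm : 2 ≤ m) (c : Fin m → F) : ∃ φ : Fin m → F, φ ≠ 0 ∧ φ ⬝ᵥ c = 0 := by
  let f : (Fin m → F) →ₗ[F] (Fin 1 → F) :=
    { toFun := fun φ _ => φ ⬝ᵥ c
      map_add' := fun φ ψ => by funext j; exact add_dotProduct φ ψ c
      map_smul' := fun k φ => by funext j; exact smul_dotProduct k φ c }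
  have hker : LinearMap.ker f ≠ ⊥ := LinearMap.ker_ne_bot_of_finrank_lt (by
    rw [Module.finrank_fin_fun, Module.finrank_fin_fun]; omega)
  obtain ⟨φ, hφ, hφ0⟩ := Submodule.exists_mem_ne_zero_of_ne_bot hker
  exact ⟨φ, hφ0, congrFun hφ 0⟩

theorem Deg.of_mem_block (hm : 2 ≤ m) {i : ι} {c : Fin m → F} {v : (ι → Fin m) → F} (hv : v ∈ block i c) :
    Deg v := by
  obtain ⟨φ, hφ, hφc⟩ := exists_ortho hm c
  exact ⟨i, φ, hφ, hv φ hφc⟩

theorem HasPerm.map_block {g : GL (ι → Fin m) F} {σ : Equiv.Perm ι} (hg : HasPerm g σ) (i : ι)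
    {c : Fin m → F} (hc : c ≠ 0) : ∃ d, d ≠ 0 ∧
      (block i c).map (Matrix.mulVecLin (g : Matrix (ι → Fin m) (ι → Fin m) F)) = block (σ i) d := by
  obtain ⟨h, hh⟩ := hg.conj_emb
  refine ⟨(h i : Matrix (Fin m) (Fin m) F) *ᵥ c, fun h0 => hc ?_, ?_⟩
  · exact (mulVec_injective_iff_isUnit.mpr (h i).isUnit) (h0.trans (mulVec_zero _).symm)
  obtain ⟨j, hj⟩ := Function.ne_iff.mp hc
  set ψ : Fin m → F := Pi.single j 1
  have hψ' : ψ ᵥ* (((h i)⁻¹ : GL (Fin m) F) : Matrix (Fin m) (Fin m) F) ≠ 0 := fun h0 => by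
    have := (vecMul_injective_iff_isUnit.mpr ((h i)⁻¹).isUnit) (h0.trans (zero_vecMul _).symm)
    simp [ψ] at this
  rw [block_eq_range (ψ := ψ) (by simp [ψ]), block_eq_range hψ']
  have e := hh i (vecMulVec c ψ)
  rw [mul_vecMulVec, vecMulVec_mul] at e
  rw [← LinearMap.range_comp, ← Matrix.mulVecLin_mul, e, Matrix.mulVecLin_mul, LinearMap.range_comp_of_range_eq_top]
  exact LinearMap.range_eq_top.mpr (mulVec_surjective_iff_isUnit.mpr g.isUnit)

theorem HasPerm.map_deg {g : GL (ι → Fin m) F} {σ : Equiv.Perm ι} (hg : HasPerm g σ)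
    {v : (ι → Fin m) → F} (hv : Deg v) : Deg ((g : Matrix (ι → Fin m) (ι → Fin m) F) *ᵥ v) := by
  obtain ⟨i, φ, hφ, hv⟩ := hv
  obtain ⟨h, hh⟩ := hg.conj_emb
  obtain ⟨j, -⟩ := Function.ne_iff.mp hφ
  have hc : (Pi.single j (1 : F) : Fin m → F) ≠ 0 := by simp
  refine ⟨σ i, φ ᵥ* (((h i)⁻¹ : GL (Fin m) F) : Matrix (Fin m) (Fin m) F), fun h0 => hφ ?_, ?_⟩
  · exact (vecMul_injective_iff_isUnit.mpr ((h i)⁻¹).isUnit) (h0.trans (zero_vecMul _).symm)
  have hhc : (h i : Matrix (Fin m) (Fin m) F) *ᵥ Pi.single j 1 ≠ 0 := fun h0 =>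
    hc ((mulVec_injective_iff_isUnit.mpr (h i).isUnit) (h0.trans (mulVec_zero _).symm))
  rw [← emb_vecMulVec_eq_zero hhc, ← vecMulVec_mul, ← mul_vecMulVec, mulVec_mulVec, ← hh,
    ← mulVec_mulVec, (emb_vecMulVec_eq_zero hc).mpr hv, mulVec_zero]

theorem HasPerm.map_oneRank {g : GL (ι → Fin m) F} {σ : Equiv.Perm ι} (hg : HasPerm g σ)
    {v : (ι → Fin m) → F} (hv : OneRank v) : OneRank ((g : Matrix (ι → Fin m) (ι → Fin m) F) *ᵥ v) := by
  obtain ⟨i, c, hc, hv⟩ := hv
  obtain ⟨d, hd, hd'⟩ := hg.map_block i hc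
  exact ⟨σ i, d, hd, hd' ▸ ⟨v, hv, rfl⟩⟩

theorem HasPerm.map_pure {g : GL (ι → Fin m) F} {σ : Equiv.Perm ι} (hg : HasPerm g σ)
    {v : (ι → Fin m) → F} (hv : IsPure v) : IsPure ((g : Matrix (ι → Fin m) (ι → Fin m) F) *ᵥ v) := by
  obtain ⟨gs, rfl⟩ := hg
  obtain ⟨xs, hxs, rfl⟩ := hv
  refine ⟨fun k => (gs k : Matrix (Fin m) (Fin m) F) *ᵥ xs (σ.symm k), fun k h0 => hxs (σ.symm k) ?_, ?_⟩
  · exact (mulVec_injective_iff_isUnit.mpr (gs k).isUnit) (h0.trans (mulVec_zero _).symm)
  · rw [Units.val_mul, PtG_val, pmG_val, ← mulVec_mulVec, pm_mulVec_pten, Pt_mulVec_pten]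

end CfsgLib.TWreath
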