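import Cfsg.Agent.TensorWreath.Elem

/-!
# Block matrices along one factor, and elementary tensors in invariant subspaces
-/

set_option autoImplicit false
set_option linter.unusedSectionVars false

namespace CfsgLib.TWreath

open Matrix CfsgLib.MaxSub

variable {F : Type*} [Field F] {ι : Type} [Fintype ι] [DecidableEq ι] {m : ℕ}

theorem extend_eq_self (i : ι) (a : ι → Fin m) : extend i (a i) (fun j => a j) = a := by
  funext j
  rcases eq_or_ne j i with rfl | hj
  · rw [extend_self]
  · simp [extend, hj]

theorem sum_split {M : Type*} [AddCommMonoid M] (i : ι) (f : (ι → Fin m) → M) :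
    ∑ a, f a = ∑ s, ∑ r : Rest i m, f (extend i s r) := by
  rw [← Fintype.sum_prod_type (f := fun p : Fin m × Rest i m => f (extend i p.1 p.2))]
  refine (Fintype.sum_equiv
    { toFun := fun p : Fin m × Rest i m => extend i p.1 p.2
      invFun := fun a => (a i, fun j => a j)
      left_inv := fun p => by
        simp only [extend_self, extend_rest]
      right_inv := extend_eq_self i } _ _ fun p => rfl).symm

/-- The block `(s, t)` along the factor `i`. -/
def blk (i : ι) (Y : Matrix (ι → Fin m) (ι → Fin m) F) (s t : Fin m) : Matrix (Rest i m) (Rest i m) F :=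
  Matrix.of fun r r' => Y (extend i s r) (extend i t r')

theorem blk_apply (i : ι) (Y : Matrix (ι → Fin m) (ι → Fin m) F) (s t : Fin m) (r r' : Rest i m) :
    blk i Y s t r r' = Y (extend i s r) (extend i t r') := rfl

theorem blk_ext {i : ι} {Y Z : Matrix (ι → Fin m) (ι → Fin m) F} (h : ∀ s t, blk i Y s t = blk i Z s t) :
    Y = Z := by
  ext a b
  have := congrFun (congrFun (h (a i) (b i)) fun j => a j) fun j => b j
  rwa [blk_apply, blk_apply, extend_eq_self, extend_eq_self] at this

theorem blk_mul (i : ι) (Y Z : Matrix (ι → Fin m) (ι → Fin m) F) (s t : Fin m) :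
    blk i (Y * Z) s t = ∑ k, blk i Y s k * blk i Z k t := by
  ext r r'
  rw [blk_apply, Matrix.mul_apply, sum_split i, Matrix.sum_apply]
  simp only [Matrix.mul_apply, blk_apply]

theorem blk_add (i : ι) (Y Z : Matrix (ι → Fin m) (ι → Fin m) F) (s t : Fin m) :
    blk i (Y + Z) s t = blk i Y s t + blk i Z s t := rfl

theorem blk_sub (i : ι) (Y Z : Matrix (ι → Fin m) (ι → Fin m) F) (s t : Fin m) :
    blk i (Y - Z) s t = blk i Y s t - blk i Z s t := rfl

theorem blk_smul (i : ι) (c : F) (Y : Matrix (ι → Fin m) (ι → Fin m) F) (s t : Fin m) :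
    blk i (c • Y) s t = c • blk i Y s t := rfl

theorem blk_zero (i : ι) (s t : Fin m) : blk i (0 : Matrix (ι → Fin m) (ι → Fin m) F) s t = 0 := rfl

/-- A matrix acting on the factors other than `i`. -/
def oth (i : ι) (Z : Matrix (Rest i m) (Rest i m) F) : Matrix (ι → Fin m) (ι → Fin m) F :=
  Matrix.of fun a b => if a i = b i then Z (fun j => a j) (fun j => b j) else 0

theorem blk_oth (i : ι) (Z : Matrix (Rest i m) (Rest i m) F) (s t : Fin m) :
    blk i (oth i Z) s t = if s = t then Z else 0 := by
  ext r r'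
  rw [blk_apply, oth, of_apply, extend_self, extend_self, extend_rest, extend_rest]
  split_ifs <;> rfl

theorem blk_one (i : ι) (s t : Fin m) :
    blk i (1 : Matrix (ι → Fin m) (ι → Fin m) F) s t = if s = t then 1 else 0 := by
  ext r r'
  rw [blk_apply, Matrix.one_apply]
  by_cases h : s = t
  · subst h
    rw [if_pos rfl, Matrix.one_apply]
    refine if_congr ⟨fun e => ?_, fun e => by rw [e]⟩ rfl rfl
    rw [← extend_rest i s r, e, extend_rest]
  · rw [if_neg h, if_neg fun e => h (by rw [← extend_self i s r, e, extend_self])]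
    rfl

theorem blk_emb (i : ι) (A : Matrix (Fin m) (Fin m) F) (s t : Fin m) : blk i (emb i A) s t = A s t • 1 := by
  ext r r'
  rw [blk_apply, emb, Pt_update_eq, extend_self, extend_self, Matrix.smul_apply, smul_eq_mul]
  congr 1
  by_cases h : r = r'
  · subst h
    rw [one_apply_eq]
    refine Finset.prod_eq_one fun k hk => ?_
    simp [extend, Finset.ne_of_mem_erase hk, Pi.one_apply]
  · rw [one_apply_ne h]
    obtain ⟨j, hj⟩ := Function.ne_iff.mp h
    refine Finset.prod_eq_zero (Finset.mem_erase.mpr ⟨j.2, Finset.mem_univ j.1⟩) ?_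
    simp [extend, j.2, hj]

theorem oth_mul (i : ι) (Y Z : Matrix (Rest i m) (Rest i m) F) : oth i (Y * Z) = oth i Y * oth i Z := by
  refine blk_ext (i := i) fun s t => ?_
  rw [blk_oth, blk_mul]
  simp only [blk_oth, ite_mul, zero_mul, Finset.sum_ite_eq, Finset.mem_univ, if_true]
  split_ifs <;> simp

theorem oth_one (i : ι) : oth i (1 : Matrix (Rest i m) (Rest i m) F) = 1 := by
  refine blk_ext (i := i) fun s t => ?_
  rw [blk_oth, blk_one]

theorem oth_add (i : ι) (Y Z : Matrix (Rest i m) (Rest i m) F) : oth i (Y + Z) = oth i Y + oth i Z := by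
  refine blk_ext (i := i) fun s t => ?_
  rw [blk_oth, blk_add, blk_oth, blk_oth]
  split_ifs <;> simp

theorem oth_smul (i : ι) (c : F) (Z : Matrix (Rest i m) (Rest i m) F) : oth i (c • Z) = c • oth i Z := by
  refine blk_ext (i := i) fun s t => ?_
  rw [blk_oth, blk_smul, blk_oth]
  split_ifs <;> simp

theorem oth_comm_emb (i : ι) (Z : Matrix (Rest i m) (Rest i m) F) (A : Matrix (Fin m) (Fin m) F) :
    oth i Z * emb i A = emb i A * oth i Z := by
  refine blk_ext (i := i) fun s t => ?_
  rw [blk_mul, blk_mul]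
  simp [blk_oth, blk_emb]

theorem oth_injective [NeZero m] (i : ι) : Function.Injective (oth (F := F) (m := m) i) := by
  intro Y Z h
  have := congrArg (fun W => blk i W 0 0) h
  simpa [blk_oth] using this

theorem oth_mulVec_lift (i : ι) (Z : Matrix (Rest i m) (Rest i m) F) (x : Fin m → F) (w : Rest i m → F) :
    oth i Z *ᵥ lift i x w = lift i x (Z *ᵥ w) := by
  funext a
  rw [lift_apply]
  show ∑ b, oth i Z a b * lift i x w b = x (a i) * ∑ r, Z (fun j => a j) r * w r
  rw [sum_split i, Finset.sum_eq_single (a i)]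
  · rw [Finset.mul_sum]
    refine Finset.sum_congr rfl fun r _ => ?_
    rw [oth, of_apply, extend_self, extend_rest, if_pos rfl, lift_apply, extend_self, extend_rest]
    ring
  · intro s _ hs
    refine Finset.sum_eq_zero fun r _ => ?_
    rw [oth, of_apply, extend_self, if_neg (Ne.symm hs), zero_mul]
  · simp

/-- Invertible matrices on the other factors. -/
def othG (i : ι) : GL (Rest i m) F →* GL (ι → Fin m) F :=
  Units.map { toFun := oth i, map_one' := oth_one i, map_mul' := oth_mul i }

theorem othG_val (i : ι) (g : GL (Rest i m) F) :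
    (othG i g : Matrix (ι → Fin m) (ι → Fin m) F) = oth i (g : Matrix (Rest i m) (Rest i m) F) := rfl

theorem emb_eq_oth (i : ι) (j : {j // j ≠ i}) (A : Matrix (Fin m) (Fin m) F) :
    emb (j : ι) A = oth i (emb j A) := by
  refine blk_ext (i := i) fun s t => ?_
  ext r r'
  rw [blk_oth, blk_apply, emb, Pt, ← Finset.mul_prod_erase _ _ (Finset.mem_univ i),
    Function.update_of_ne j.2.symm, extend_self, extend_self, Pi.one_apply, Matrix.one_apply]
  split_ifs with h
  · rw [one_mul, Finset.prod_subtype (Finset.univ.erase i) (p := fun k => k ≠ i) (by simp), emb, Pt]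
    refine Finset.prod_congr rfl fun k _ => ?_
    simp only [extend, dif_neg k.2]
    rcases eq_or_ne k j with rfl | hk
    · simp
    · simp [hk, Subtype.coe_ne_coe.mpr hk]
  · rw [zero_mul]; rfl

theorem Pt_eq_emb_mul_oth (i : ι) (gs : ι → Matrix (Fin m) (Fin m) F) :
    Pt gs = emb i (gs i) * oth i (Pt fun j : {j // j ≠ i} => gs j) := by
  refine ext_pten fun xs => ?_
  have e : pten xs = lift i (xs i) (pten fun j : {j // j ≠ i} => xs j) := by
    rw [lift_pten, Function.update_eq_self]
  rw [e, Pt_mulVec_lift, ← mulVec_mulVec, oth_mulVec_lift, emb_mulVec_lift]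

theorem othG_mem_wreath {i : ι} {g : GL (Rest i m) F} (h : g ∈ wreath {j // j ≠ i} m F) :
    othG i g ∈ wreath ι m F := by
  obtain ⟨σ, gs, rfl⟩ := h
  let hs : ι → GL (Fin m) F := fun j => if hj : j = i then 1 else gs ⟨j, hj⟩
  refine ⟨σ.ofSubtype, hs, Units.ext ?_⟩
  refine ext_pten fun xs => ?_
  have e : pten xs = lift i (xs i) (pten fun j : {j // j ≠ i} => xs j) := by
    rw [lift_pten, Function.update_eq_self]
  rw [Units.val_mul, PtG_val, pmG_val, othG_val, Units.val_mul, PtG_val, pmG_val]
  rw [← mulVec_mulVec (M := Pt fun k => (hs k : Matrix (Fin m) (Fin m) F)), pm_mulVec_pten, Pt_mulVec_pten,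
    e, oth_mulVec_lift, ← mulVec_mulVec, pm_mulVec_pten, Pt_mulVec_pten]
  have hσ : ∀ j : {j // j ≠ i}, (σ.ofSubtype.symm : Equiv.Perm ι) j = (σ.symm j : ι) := fun j => by
    rw [Equiv.symm_apply_eq, Equiv.Perm.ofSubtype_apply_coe, Equiv.apply_symm_apply]
  rw [show (fun k : {j // j ≠ i} => (gs k : Matrix (Fin m) (Fin m) F) *ᵥ xs (σ.symm k)) =
    fun k : {j // j ≠ i} => (hs k : Matrix (Fin m) (Fin m) F) *ᵥ xs (σ.ofSubtype.symm k) by
      funext k; rw [hσ]; simp [hs, k.2],
    lift_pten i _ (fun k => (hs k : Matrix (Fin m) (Fin m) F) *ᵥ xs (σ.ofSubtype.symm k))]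
  congr 1
  funext k
  rcases eq_or_ne k i with rfl | hk
  · rw [Function.update_self]
    have : (σ.ofSubtype.symm : Equiv.Perm ι) k = k := by
      rw [Equiv.symm_apply_eq, Equiv.Perm.ofSubtype_apply_of_not_mem σ (by simp)]
    simp [hs, this]
  · rw [Function.update_of_ne hk]

theorem oth_eT (i : ι) (T : Finset {j // j ≠ i}) (a b : ι → Fin m) :
    oth i (eT T (fun j => a j) fun j => b j) =
      (eT (T.map (Function.Embedding.subtype _)) a b : Matrix (ι → Fin m) (ι → Fin m) F) := by
  conv_rhs => rw [eT, Pt_eq_emb_mul_oth i]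
  rw [if_neg (by simp), emb_one, one_mul, eT]
  congr 2
  funext j
  exact if_congr (by simp [j.2]) rfl rfl

theorem emb_single_mul_eT_insert {i : ι} {T : Finset ι} (hi : i ∉ T) (a b : ι → Fin m) :
    emb i (Matrix.single (a i) (b i) (1 : F)) * eT T a b = eT (insert i T) a b := by
  rw [emb, eT, eT, Pt_mul]
  congr 1
  funext k
  rcases eq_or_ne k i with rfl | hk
  · simp [hi]
  · simp [hk]

/-- An element stabilising a block has no blocks below it. -/
theorem blk_eq_zero_of_map_le [NeZero m] {i : ι} {y : GL (ι → Fin m) F}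
    (h : (block i (Pi.single 0 1)).map (Matrix.mulVecLin (y : Matrix (ι → Fin m) (ι → Fin m) F)) ≤
      block i (Pi.single 0 1)) {s : Fin m} (hs : s ≠ 0) :
    blk i (y : Matrix (ι → Fin m) (ι → Fin m) F) s 0 = 0 := by
  ext r r'
  have hmem := h ⟨_, lift_mem_block i (Pi.single 0 1) (Pi.single r' 1), rfl⟩
  obtain ⟨w, hw⟩ := exists_lift_of_mem_block (by simp) hmem
  have h0 := congrFun hw (extend i s r)
  have e : lift i (Pi.single 0 (1 : F)) (Pi.single r' 1) = Pi.single (extend i 0 r') 1 := by
    funext a
    rw [lift_apply]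
    by_cases ha : a = extend i 0 r'
    · subst ha; simp [extend_self, extend_rest]
    · rw [Pi.single_eq_of_ne ha]
      by_cases h1 : a i = 0
      · have hr : (fun j : {j // j ≠ i} => a j) ≠ r' := fun e => ha (by rw [← extend_eq_self i a, h1, e])
        rw [Pi.single_eq_of_ne (M := fun _ : Rest i m => F) hr, mul_zero]
      · rw [Pi.single_eq_of_ne h1, zero_mul]
  rw [e, mulVecLin_apply, mulVec_single_one, lift_apply, extend_self, Pi.single_eq_of_ne hs, zero_mul] at h0
  exact h0

/-! ### Elementary tensors in invariant subspaces -/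

theorem comm_of_comm_single {k : ι} {X : Matrix (ι → Fin m) (ι → Fin m) F}
    (h : ∀ s t, X * emb k (Matrix.single s t 1) = emb k (Matrix.single s t 1) * X)
    (A : Matrix (Fin m) (Fin m) F) : X * emb k A = emb k A * X := by
  rw [matrix_eq_sum_single A, ← embAlg_apply, map_sum, Finset.mul_sum, Finset.sum_mul]
  refine Finset.sum_congr rfl fun s _ => ?_
  rw [map_sum, Finset.mul_sum, Finset.sum_mul]
  refine Finset.sum_congr rfl fun t _ => ?_
  rw [embAlg_apply, show Matrix.single s t (A s t) = A s t • Matrix.single s t (1 : F) by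
    rw [smul_single, smul_eq_mul, mul_one], emb_smul, mul_smul_comm, smul_mul_assoc, h]

theorem exists_scalar_of_comm_all [NeZero m] {X : Matrix (ι → Fin m) (ι → Fin m) F}
    (h : ∀ (k : ι) A, X * emb k A = emb k A * X) : ∃ c : F, X = c • 1 := by
  classical
  set o : ι → Fin m := fun _ => 0
  have hPt : ∀ (gs : ι → Matrix (Fin m) (Fin m) F) (S : Finset ι),
      X * Pt (fun k => if k ∈ S then gs k else 1) = Pt (fun k => if k ∈ S then gs k else 1) * X := by
    intro gs S
    induction S using Finset.induction with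
    | empty =>
      have : (fun k => if k ∈ (∅ : Finset ι) then gs k else (1 : Matrix (Fin m) (Fin m) F)) = 1 := by
        funext k; simp
      rw [this, Pt_one, mul_one, one_mul]
    | insert q S hq ih =>
      have e : Pt (fun k => if k ∈ insert q S then gs k else 1) =
          emb q (gs q) * Pt (fun k => if k ∈ S then gs k else 1) := by
        rw [emb, Pt_mul]; congr 1; funext k
        rcases eq_or_ne k q with rfl | hk
        · simp [hq]
        · simp [hk]
      rw [e, ← mul_assoc, h, mul_assoc, ih, mul_assoc]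
  have hsing : ∀ a b : ι → Fin m, X * Matrix.single a b 1 = Matrix.single a b 1 * X := fun a b => by
    rw [← eT_univ, eT]
    exact hPt (fun k => Matrix.single (a k) (b k) 1) Finset.univ
  refine ⟨X o o, ?_⟩
  ext a b
  by_cases hab : a = b
  · subst hab
    have := congrFun (congrFun (hsing a o) a) o
    simp [Matrix.mul_apply, Matrix.single_apply, eq_comm] at this
    simpa using this
  · have := congrFun (congrFun (hsing b o) a) o
    simp [Matrix.mul_apply, Matrix.single_apply, hab, Ne.symm hab, eq_comm] at this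
    simpa [hab] using this

/-- `U` is invariant under the commutator maps of the factor roots. -/
def DInv (U : Submodule F (Matrix (ι → Fin m) (ι → Fin m) F)) : Prop :=
  ∀ (k : ι) (c d : Fin m), c ≠ d → ∀ X ∈ U,
    emb k (Matrix.single c d 1) * X - X * emb k (Matrix.single c d 1) -
      emb k (Matrix.single c d 1) * X * emb k (Matrix.single c d 1) ∈ U

/-- The diagonal block at `(c, a)` spread along the factor `k`. -/
def blockAt (k : ι) (X : Matrix (ι → Fin m) (ι → Fin m) F) (c a : Fin m) : Matrix (ι → Fin m) (ι → Fin m) F :=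
  ∑ q, emb k (Matrix.single q c 1) * X * emb k (Matrix.single a q 1)

theorem emb_single_mul_blockAt (k : ι) (X : Matrix (ι → Fin m) (ι → Fin m) F) (c a s t : Fin m) :
    emb k (Matrix.single s t 1) * blockAt k X c a =
      emb k (Matrix.single s c 1) * X * emb k (Matrix.single a t 1) := by
  rw [blockAt, Finset.mul_sum, Finset.sum_eq_single t]
  · rw [← mul_assoc, ← mul_assoc, ← emb_mul, single_mul_single_same, one_mul]
  · intro q _ hq
    rw [← mul_assoc, ← mul_assoc, ← emb_mul, single_mul_single_of_ne _ _ _ _ hq.symm, emb_zero, zero_mul, zero_mul]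
  · simp

theorem blockAt_mul_emb_single (k : ι) (X : Matrix (ι → Fin m) (ι → Fin m) F) (c a s t : Fin m) :
    blockAt k X c a * emb k (Matrix.single s t 1) =
      emb k (Matrix.single s c 1) * X * emb k (Matrix.single a t 1) := by
  rw [blockAt, Finset.sum_mul, Finset.sum_eq_single s]
  · rw [mul_assoc, ← emb_mul, single_mul_single_same, one_mul]
  · intro q _ hq
    rw [mul_assoc, ← emb_mul, single_mul_single_of_ne _ _ _ _ hq, emb_zero, mul_zero]
  · simp

theorem sum_emb_diag (k : ι) : ∑ q, emb k (Matrix.single q q (1 : F)) = (1 : Matrix (ι → Fin m) (ι → Fin m) F) := by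
  rw [← emb_one k, ← embAlg_apply]
  simp only [← embAlg_apply, ← map_sum]
  congr 1
  ext s t
  rw [Matrix.sum_apply, Matrix.one_apply]
  by_cases h : s = t
  · subst h
    rw [Finset.sum_eq_single s (fun q _ hq => by simp [hq]) (by simp)]
    simp
  · rw [if_neg h]
    refine Finset.sum_eq_zero fun q _ => ?_
    rw [Matrix.single_apply, if_neg]
    exact fun e => h (e.1.symm.trans e.2)

/-- A matrix not commuting with the factor `k` gives an elementary tensor in that factor. -/
theorem exists_step (hm : 3 ≤ m) (k : ι) {U : Submodule F (Matrix (ι → Fin m) (ι → Fin m) F)}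
    (hU : ∀ c d : Fin m, c ≠ d → ∀ X ∈ U,
      emb k (Matrix.single c d 1) * X - X * emb k (Matrix.single c d 1) -
        emb k (Matrix.single c d 1) * X * emb k (Matrix.single c d 1) ∈ U)
    {X : Matrix (ι → Fin m) (ι → Fin m) F} (hX : X ∈ U)
    (hne : ∃ A, X * emb k A ≠ emb k A * X) :
    ∃ p q, p ≠ q ∧ ∃ Y, Y ≠ 0 ∧ (∀ A, Y * emb k A = emb k A * Y) ∧
      (∀ j, j ≠ k → (∀ A, X * emb j A = emb j A * X) → ∀ A, Y * emb j A = emb j A * Y) ∧
      emb k (Matrix.single p q 1) * Y ∈ U := by
  set E : Fin m → Fin m → Matrix (ι → Fin m) (ι → Fin m) F := fun s t => emb k (Matrix.single s t 1) with hE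
  have hEE : ∀ s t u v, E s t * E u v = if t = u then E s v else 0 := fun s t u v => by
    simp only [hE, ← emb_mul]
    split_ifs with h
    · subst h; rw [single_mul_single_same, mul_one]
    · rw [single_mul_single_of_ne _ _ _ _ h, emb_zero]
  have hcomm : ∀ c a, ∀ j, j ≠ k → (∀ A, X * emb j A = emb j A * X) →
      ∀ A, blockAt k X c a * emb j A = emb j A * blockAt k X c a := fun c a j hj hXj A => by
    rw [blockAt, Finset.sum_mul, Finset.mul_sum]
    refine Finset.sum_congr rfl fun q _ => ?_
    rw [mul_assoc, emb_comm hj.symm, ← mul_assoc, mul_assoc (emb k (Matrix.single q c 1)), hXj, ← mul_assoc,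
      emb_comm hj.symm, mul_assoc (emb j A), mul_assoc]
  have hcommk : ∀ c a, ∀ A, blockAt k X c a * emb k A = emb k A * blockAt k X c a := fun c a =>
    comm_of_comm_single fun s t => by rw [blockAt_mul_emb_single, emb_single_mul_blockAt]
  by_cases hoff : ∃ c a, a ≠ c ∧ blockAt k X c a ≠ 0
  · obtain ⟨c, a, hca, hY⟩ := hoff
    obtain ⟨b, hba, hbc⟩ := exists_third hm a c
    refine ⟨a, c, hca, _, hY, hcommk c a, hcomm c a, ?_⟩
    rw [emb_single_mul_blockAt]
    have h1 := hU a b hba.symm X hX
    have h2 := hU a c hca _ h1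
    have h3 := hU b c hbc _ h2
    have e : E a c * X * E a c = E b c *
        (E a c * (E a b * X - X * E a b - E a b * X * E a b) - (E a b * X - X * E a b - E a b * X * E a b) * E a c -
          E a c * (E a b * X - X * E a b - E a b * X * E a b) * E a c) -
        (E a c * (E a b * X - X * E a b - E a b * X * E a b) - (E a b * X - X * E a b - E a b * X * E a b) * E a c -
          E a c * (E a b * X - X * E a b - E a b * X * E a b) * E a c) * E b c -
        E b c * (E a c * (E a b * X - X * E a b - E a b * X * E a b) - (E a b * X - X * E a b - E a b * X * E a b) * E a c -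
          E a c * (E a b * X - X * E a b - E a b * X * E a b) * E a c) * E b c := by
      have z1 : E a c * E a b = 0 := by rw [hEE, if_neg hca.symm]
      have z2 : E a b * E a c = 0 := by rw [hEE, if_neg hba]
      have z3 : E b c * E a c = 0 := by rw [hEE, if_neg hca.symm]
      have z4 : E b c * E a b = 0 := by rw [hEE, if_neg hca.symm]
      have z5 : E a b * E b c = E a c := by rw [hEE, if_pos rfl]
      have z6 : E a c * E b c = 0 := by rw [hEE, if_neg hbc.symm]
      have y1 : ∀ W, E a c * (E a b * W) = 0 := fun W => by rw [← mul_assoc, z1, zero_mul]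
      have y2 : ∀ W, E a b * (E a c * W) = 0 := fun W => by rw [← mul_assoc, z2, zero_mul]
      have y3 : ∀ W, E b c * (E a c * W) = 0 := fun W => by rw [← mul_assoc, z3, zero_mul]
      have y4 : ∀ W, E b c * (E a b * W) = 0 := fun W => by rw [← mul_assoc, z4, zero_mul]
      have y5 : ∀ W, E a b * (E b c * W) = E a c * W := fun W => by rw [← mul_assoc, z5]
      have y6 : ∀ W, E a c * (E b c * W) = 0 := fun W => by rw [← mul_assoc, z6, zero_mul]
      simp only [mul_sub, sub_mul, mul_assoc, y1, y2, y3, y4, y5, y6, z1, z2, z3, z4, z5, z6, mul_zero, sub_zero,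
        zero_sub, mul_neg, neg_mul, neg_neg, zero_mul]
      abel
    rw [show emb k (Matrix.single a c 1) * X * emb k (Matrix.single a c 1) = E a c * X * E a c from rfl, e]
    exact h3
  push Not at hoff
  have hz : ∀ c a, a ≠ c → E c c * X * E a a = 0 := fun c a h => by
    have := congrArg (E c a * ·) (hoff c a h)
    simp only [mul_zero, hE, emb_single_mul_blockAt] at this
    exact this
  obtain ⟨p, q, hpq⟩ : ∃ p q, blockAt k X p p ≠ blockAt k X q q := by
    by_contra hc
    push Not at hc
    obtain ⟨A, hA⟩ := hne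
    refine hA ?_
    have hX0 : X = blockAt k X ⟨0, by omega⟩ ⟨0, by omega⟩ := by
      calc X = (∑ s, E s s) * X * (∑ t, E t t) := by rw [hE, sum_emb_diag, one_mul, mul_one]
        _ = ∑ s, E s s * X * E s s := by
          rw [Finset.sum_mul, Finset.sum_mul]
          refine Finset.sum_congr rfl fun s _ => ?_
          rw [Finset.mul_sum, Finset.sum_eq_single s (fun t _ ht => hz s t ht) (by simp)]
        _ = ∑ s, E s s * blockAt k X ⟨0, by omega⟩ ⟨0, by omega⟩ := by
          refine Finset.sum_congr rfl fun s _ => ?_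
          rw [← hc s, hE, emb_single_mul_blockAt]
        _ = blockAt k X ⟨0, by omega⟩ ⟨0, by omega⟩ := by rw [← Finset.sum_mul, hE, sum_emb_diag, one_mul]
    rw [hX0]; exact hcommk _ _ A
  have hpq' : p ≠ q := fun e => hpq (e ▸ rfl)
  refine ⟨p, q, hpq', blockAt k X q q - blockAt k X p p, sub_ne_zero.mpr hpq.symm,
    fun A => by rw [sub_mul, mul_sub, hcommk, hcommk],
    fun j hj hXj A => by rw [sub_mul, mul_sub, hcomm q q j hj hXj, hcomm p p j hj hXj], ?_⟩
  have h := hU p q hpq' X hX
  convert h using 1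
  have e0 : E p q * X * E p q = 0 := by
    have := congrArg (fun W => E p q * W * E p q) (hz q p hpq')
    simp only [mul_zero, zero_mul, ← mul_assoc, hEE, if_true] at this
    rw [mul_assoc _ (E p p), hEE, if_pos rfl] at this
    exact this
  have e1 : E p q * X = E p q * X * E q q := by
    conv_lhs => rw [← mul_one (E p q * X), ← sum_emb_diag k, Finset.mul_sum]
    rw [Finset.sum_eq_single q ?_ (by simp)]
    intro t _ ht
    have := congrArg (fun W => E p q * W) (hz q t ht)
    simp only [mul_zero, ← mul_assoc, hEE, if_true] at this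
    exact this
  have e2 : X * E p q = E p p * X * E p q := by
    conv_lhs => rw [← one_mul X, ← sum_emb_diag k, Finset.sum_mul, Finset.sum_mul]
    rw [Finset.sum_eq_single p ?_ (by simp)]
    intro s _ hs
    have := congrArg (fun W => W * E p q) (hz s p hs.symm)
    simp only [zero_mul, mul_assoc, hEE, if_true] at this
    rw [mul_assoc]
    exact this
  show E p q * (blockAt k X q q - blockAt k X p p) = E p q * X - X * E p q - E p q * X * E p q
  rw [e0, sub_zero, e1, e2, mul_sub, hE, emb_single_mul_blockAt, emb_single_mul_blockAt]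

/-- An invariant subspace with a non-scalar matrix contains an elementary tensor. -/
theorem exists_eT_mem (hm : 3 ≤ m) {U : Submodule F (Matrix (ι → Fin m) (ι → Fin m) F)} (hU : DInv U)
    {X : Matrix (ι → Fin m) (ι → Fin m) F} (hX : X ∈ U) (hns : ∀ c : F, X ≠ c • 1) :
    ∃ (T : Finset ι) (a b : ι → Fin m), T.Nonempty ∧ (∀ k ∈ T, a k ≠ b k) ∧ eT T a b ∈ U := by
  have : NeZero m := ⟨by omega⟩
  suffices h : ∀ (n : ℕ) (S : Finset ι) (a b : ι → Fin m) (Y : Matrix (ι → Fin m) (ι → Fin m) F),
      n = Fintype.card ι - S.card → (∀ k ∈ S, a k ≠ b k) → Y ≠ 0 → (∀ k ∈ S, ∀ A, Y * emb k A = emb k A * Y) →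
      eT S a b * Y ∈ U → (S.Nonempty ∨ ∀ c : F, Y ≠ c • 1) →
      ∃ (T : Finset ι) (a b : ι → Fin m), T.Nonempty ∧ (∀ k ∈ T, a k ≠ b k) ∧ eT T a b ∈ U by
    refine h _ ∅ (fun _ => 0) (fun _ => 0) X rfl (by simp) (fun e => hns 0 (by rw [zero_smul, e])) (by simp) ?_ (Or.inr hns)
    have : (eT (∅ : Finset ι) (fun _ => 0) fun _ => 0 : Matrix (ι → Fin m) (ι → Fin m) F) = 1 := by
      rw [eT, ← Pt_one]; congr 1
    rwa [this, one_mul]
  intro n
  induction n using Nat.strong_induction_on with
  | _ n ih =>
  intro S a b Y hn hab hY hYS hmem hne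
  by_cases hall : ∀ k A, Y * emb k A = emb k A * Y
  · obtain ⟨c, hc⟩ := exists_scalar_of_comm_all hall
    have hS : S.Nonempty := hne.resolve_right fun h => h c hc
    have hc0 : c ≠ 0 := fun e => hY (by rw [hc, e, zero_smul])
    refine ⟨S, a, b, hS, hab, ?_⟩
    rw [hc, mul_smul_comm, mul_one] at hmem
    simpa [smul_smul, inv_mul_cancel₀ hc0] using U.smul_mem c⁻¹ hmem
  push Not at hall
  obtain ⟨k, hk⟩ := hall
  have hkS : k ∉ S := fun h => by obtain ⟨A, hA⟩ := hk; exact hA (hYS k h A)
  let U' : Submodule F (Matrix (ι → Fin m) (ι → Fin m) F) :=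
    { carrier := {Z | (∀ j ∈ S, ∀ A, Z * emb j A = emb j A * Z) ∧ eT S a b * Z ∈ U}
      add_mem' := fun {Z W} hZ hW => ⟨fun j hj A => by rw [add_mul, mul_add, hZ.1 j hj, hW.1 j hj],
        by rw [mul_add]; exact U.add_mem hZ.2 hW.2⟩
      zero_mem' := ⟨fun j _ A => by simp, by simp⟩
      smul_mem' := fun c Z hZ => ⟨fun j hj A => by rw [smul_mul_assoc, mul_smul_comm, hZ.1 j hj],
        by rw [mul_smul_comm]; exact U.smul_mem c hZ.2⟩ }
  have hEk : ∀ c d, eT S a b * emb k (Matrix.single c d (1 : F)) = emb k (Matrix.single c d (1 : F)) * eT S a b :=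
    fun c d => by
      rw [eT, emb, Pt_mul, Pt_mul]; congr 1; funext j
      rcases eq_or_ne j k with rfl | hj
      · simp [hkS]
      · simp [hj]
  obtain ⟨p, q, hpq, Z, hZ, hZk, hZj, hZU⟩ := exists_step hm k (U := U') (fun c d hcd W hW =>
    ⟨fun j hj A => by
      have hjk : k ≠ j := fun e => hkS (e ▸ hj)
      simp only [sub_mul, mul_sub, mul_assoc, emb_comm hjk, hW.1 j hj]
      simp only [← mul_assoc, emb_comm hjk]
      simp only [mul_assoc, hW.1 j hj]
      simp only [← mul_assoc, emb_comm hjk],
     by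
      have := hU k c d hcd _ hW.2
      simp only [mul_sub, ← mul_assoc, hEk] at this ⊢
      exact this⟩) (show Y ∈ U' from ⟨hYS, hmem⟩) hk
  have hlt : Fintype.card ι - (insert k S).card < n := by
    rw [Finset.card_insert_of_notMem hkS, hn]
    have := (Finset.card_le_univ (insert k S))
    rw [Finset.card_insert_of_notMem hkS] at this
    omega
  refine ih _ hlt (insert k S) (Function.update a k p) (Function.update b k q) Z rfl ?_ hZ ?_ ?_ (Or.inl (Finset.insert_nonempty k S))
  · intro j hj
    rcases eq_or_ne j k with rfl | hjk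
    · simpa using hpq
    · rw [Function.update_of_ne hjk, Function.update_of_ne hjk]
      exact hab j ((Finset.mem_insert.mp hj).resolve_left hjk)
  · intro j hj
    rcases eq_or_ne j k with rfl | hjk
    · exact hZk
    · exact hZj j hjk fun A => hYS j ((Finset.mem_insert.mp hj).resolve_left hjk) A
  · rw [← emb_single_mul_eT_insert hkS, Function.update_self, Function.update_self,
      eT_congr (a' := a) (b' := b) (fun j hj => Function.update_of_ne (fun e => hkS (by rw [← e]; exact hj)) _ _)
        (fun j hj => Function.update_of_ne (fun e => hkS (by rw [← e]; exact hj)) _ _), ← hEk, mul_assoc]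
    exact hZU.2

end CfsgLib.TWreath
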